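import Cfsg.Agent.Lib.Helper93.LeechAut
import Cfsg.Agent.Lib.Golay.LeechBasis

set_option autoImplicit false

/-!
Basic constructions of elements of `Co0`: a general constructor from a pair of mutually inverse
additive norm-preserving maps, the monomial elements (signed permutations from `M24` and code words),
and negation.
-/

namespace Cfsg.Agent.Lib.Conway

open Cfsg Cfsg.Agent.Lib.Helper93.Leech Cfsg.Agent.Lib.Helper93.Golay
open scoped Pointwise

abbrev Vec := GolayPt → ℤ

/-- a permutation of the lattice from a pair of mutually inverse maps preserving the lattice -/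
def mkPerm (φ ψ : Vec → Vec)
    (hφ : ∀ x ∈ leechLattice, φ x ∈ leechLattice) (hψ : ∀ x ∈ leechLattice, ψ x ∈ leechLattice)
    (h1 : ∀ x ∈ leechLattice, ψ (φ x) = x) (h2 : ∀ x ∈ leechLattice, φ (ψ x) = x) :
    Equiv.Perm leechLattice where
  toFun v := ⟨φ v, hφ v v.2⟩
  invFun v := ⟨ψ v, hψ v v.2⟩
  left_inv v := Subtype.ext (h1 v v.2)
  right_inv v := Subtype.ext (h2 v v.2)

theorem mkPerm_mem (φ ψ : Vec → Vec)
    (hφ : ∀ x ∈ leechLattice, φ x ∈ leechLattice) (hψ : ∀ x ∈ leechLattice, ψ x ∈ leechLattice)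
    (h1 : ∀ x ∈ leechLattice, ψ (φ x) = x) (h2 : ∀ x ∈ leechLattice, φ (ψ x) = x)
    (hadd : ∀ x y, φ (x + y) = φ x + φ y) (hn : ∀ x, sqNorm (φ x) = sqNorm x) :
    mkPerm φ ψ hφ hψ h1 h2 ∈ Co0 := by
  refine ⟨fun v w => ?_, fun v => ?_⟩
  · apply Subtype.ext
    exact hadd v w
  · exact hn v

/-- an element of `Co0` from a pair of mutually inverse maps -/
def mkCo0 (φ ψ : Vec → Vec)
    (hφ : ∀ x ∈ leechLattice, φ x ∈ leechLattice) (hψ : ∀ x ∈ leechLattice, ψ x ∈ leechLattice)
    (h1 : ∀ x ∈ leechLattice, ψ (φ x) = x) (h2 : ∀ x ∈ leechLattice, φ (ψ x) = x)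
    (hadd : ∀ x y, φ (x + y) = φ x + φ y) (hn : ∀ x, sqNorm (φ x) = sqNorm x) : Co0 :=
  ⟨mkPerm φ ψ hφ hψ h1 h2, mkPerm_mem φ ψ hφ hψ h1 h2 hadd hn⟩

theorem mkCo0_smul (φ ψ : Vec → Vec)
    (hφ : ∀ x ∈ leechLattice, φ x ∈ leechLattice) (hψ : ∀ x ∈ leechLattice, ψ x ∈ leechLattice)
    (h1 : ∀ x ∈ leechLattice, ψ (φ x) = x) (h2 : ∀ x ∈ leechLattice, φ (ψ x) = x)
    (hadd : ∀ x y, φ (x + y) = φ x + φ y) (hn : ∀ x, sqNorm (φ x) = sqNorm x) (v : leechLattice) :
    ((mkCo0 φ ψ hφ hψ h1 h2 hadd hn • v : leechLattice) : Vec) = φ v := rfl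

/-! ### Elements of `Co0` as additive maps -/

theorem co0_add (g : Co0) (v w : leechLattice) : g • (v + w) = g • v + g • w := g.2.1 v w

theorem co0_norm (g : Co0) (v : leechLattice) : sqNorm ((g • v : leechLattice) : Vec) = sqNorm (v : Vec) :=
  g.2.2 v

/-- an element of `Co0` as an additive homomorphism -/
def co0Hom (g : Co0) : leechLattice →+ leechLattice where
  toFun v := g • v
  map_zero' := by
    have := co0_add g 0 0
    rw [add_zero] at this
    exact (add_eq_left.mp this.symm)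
  map_add' := co0_add g

theorem co0Hom_apply (g : Co0) (v : leechLattice) : co0Hom g v = g • v := rfl

theorem co0_zero (g : Co0) : g • (0 : leechLattice) = 0 := (co0Hom g).map_zero

theorem co0_neg (g : Co0) (v : leechLattice) : g • (-v) = -(g • v) := (co0Hom g).map_neg v

theorem co0_zsmul (g : Co0) (n : ℤ) (v : leechLattice) : g • (n • v) = n • (g • v) :=
  map_zsmul (co0Hom g) n v

theorem co0_sum {ι : Type*} (g : Co0) (s : Finset ι) (f : ι → leechLattice) :
    g • (∑ i ∈ s, f i) = ∑ i ∈ s, g • f i := map_sum (co0Hom g) f s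

theorem co0_ext {g h : Co0} (H : ∀ v : leechLattice, g • v = h • v) : g = h := by
  apply Subtype.ext
  apply Equiv.ext
  exact H

theorem co0_mul_smul (g h : Co0) (v : leechLattice) : (g * h) • v = g • (h • v) := rfl

theorem co0_one_smul (v : leechLattice) : (1 : Co0) • v = v := rfl

/-! ### Signed permutations -/

theorem signedPerm_signedPerm (σ τ : Equiv.Perm GolayPt) (c d : Finset GolayPt) (x : Vec) :
    signedPerm σ c (signedPerm τ d x) = signedPerm (σ * τ) (symmDiff c (σ • d)) x := by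
  funext i
  simp only [signedPerm_apply, Finset.mem_symmDiff]
  have hmem : i ∈ σ • d ↔ σ.symm i ∈ d := by
    rw [Finset.mem_smul_finset]
    constructor
    · rintro ⟨j, hj, rfl⟩
      simpa [Equiv.Perm.smul_def] using hj
    · intro h
      exact ⟨σ.symm i, h, by simp [Equiv.Perm.smul_def]⟩
  have hsymm : (σ * τ).symm i = τ.symm (σ.symm i) := rfl
  rw [hsymm]
  by_cases h1 : i ∈ c <;> by_cases h2 : σ.symm i ∈ d <;> simp [h1, h2, hmem]

theorem signedPerm_one_empty (x : Vec) : signedPerm 1 ∅ x = x := by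
  funext i
  rw [signedPerm_apply]
  simp only [Finset.notMem_empty, if_false]
  rfl

theorem signedPerm_mem {σ : Equiv.Perm GolayPt} (hσ : σ ∈ M24) {c : Finset GolayPt} (hc : c ∈ CS)
    {x : Vec} (hx : x ∈ leechLattice) : signedPerm σ c x ∈ leechLattice := by
  rw [mem_leechLattice_iff] at hx ⊢
  exact signedPerm_mem_leechSet hσ hc hx

theorem signedPerm_inv (σ : Equiv.Perm GolayPt) (c : Finset GolayPt) (x : Vec) :
    signedPerm σ⁻¹ (σ⁻¹ • c) (signedPerm σ c x) = x := by
  rw [signedPerm_signedPerm]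
  have : symmDiff (σ⁻¹ • c) (σ⁻¹ • c) = (∅ : Finset GolayPt) := symmDiff_self _
  rw [this, inv_mul_cancel, signedPerm_one_empty]

theorem signedPerm_inv' (σ : Equiv.Perm GolayPt) (c : Finset GolayPt) (x : Vec) :
    signedPerm σ c (signedPerm σ⁻¹ (σ⁻¹ • c) x) = x := by
  rw [signedPerm_signedPerm]
  have : σ • σ⁻¹ • c = c := smul_inv_smul σ c
  rw [this, mul_inv_cancel]
  have : symmDiff c c = (∅ : Finset GolayPt) := symmDiff_self _
  rw [this, signedPerm_one_empty]

/-- the monomial element of `Co0` attached to `σ ∈ M24` and a code word `c` -/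
def mono (σ : Equiv.Perm GolayPt) (c : Finset GolayPt) (hσ : σ ∈ M24) (hc : c ∈ CS) : Co0 :=
  mkCo0 (signedPerm σ c) (signedPerm σ⁻¹ (σ⁻¹ • c))
    (fun _ hx => signedPerm_mem hσ hc hx)
    (fun _ hx => signedPerm_mem (M24.inv_mem hσ) (smul_mem_supports_of_mem_M24 (M24.inv_mem hσ) hc) hx)
    (fun x _ => signedPerm_inv σ c x) (fun x _ => signedPerm_inv' σ c x)
    (signedPerm_add σ c) (sqNorm_signedPerm σ c)

theorem mono_smul (σ : Equiv.Perm GolayPt) (c : Finset GolayPt) (hσ : σ ∈ M24) (hc : c ∈ CS)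
    (v : leechLattice) : ((mono σ c hσ hc • v : leechLattice) : Vec) = signedPerm σ c v := rfl

/-- negation as an element of `Co0` -/
def negCo0 : Co0 :=
  mkCo0 (fun x => -x) (fun x => -x) (fun _ hx => leechLattice.neg_mem hx)
    (fun _ hx => leechLattice.neg_mem hx) (fun x _ => neg_neg x) (fun x _ => neg_neg x)
    (fun x y => neg_add x y) (fun x => by simp [sqNorm])

theorem negCo0_smul (v : leechLattice) : negCo0 • v = -v := rfl

/-! ### The frame vectors -/

set_option maxRecDepth 100000 in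
theorem single8_cond : ∀ i : GolayPt, Cfsg.Agent.Lib.Golay.LeechBasis.LeechCond (Pi.single i 8) 0 := by
  decide +kernel

theorem single8_mem (i : GolayPt) : (Pi.single i 8 : Vec) ∈ leechLattice :=
  Cfsg.Agent.Lib.Golay.LeechBasis.mem_of_leechCond (single8_cond i)

/-- the frame vector `8 e_i` -/
def fr (i : GolayPt) : leechLattice := ⟨Pi.single i 8, single8_mem i⟩

theorem fr_coe (i : GolayPt) : ((fr i : leechLattice) : Vec) = Pi.single i 8 := rfl

/-- `8 v = ∑ v_i • fr i` -/
theorem eight_smul_eq (v : leechLattice) : (8 : ℤ) • v = ∑ i, (v : Vec) i • fr i := by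
  apply Subtype.ext
  funext j
  simp only [AddSubgroup.coe_zsmul, Pi.smul_apply, smul_eq_mul, AddSubgroup.val_finsetSum,
    Finset.sum_apply, fr_coe, Pi.single_apply]
  rw [Finset.sum_eq_single j]
  · simp [mul_comm]
  · intro i _ hij
    simp [Ne.symm hij]
  · intro h
    exact absurd (Finset.mem_univ j) h

end Cfsg.Agent.Lib.Conway
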