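import Cfsg.Agent.Lib.Conway.Norm4

set_option autoImplicit false

/-!
`Co0` is transitive on the vectors of sum of squares 32.
-/

namespace Cfsg.Agent.Lib.Conway

open Cfsg Cfsg.Agent.Lib.Helper93.Leech Cfsg.Agent.Lib.Helper93.Golay
open Cfsg.Agent.Lib.Golay.LeechBasis
open scoped Pointwise

/-- an explicit vector from the list of its coordinates (in the order of `ptIdx`) -/
def vecOfList (l : List ℤ) : Vec := fun p => l.getD (ptIdx p).val 0

def a1 : Vec := vecOfList [4, 0, 0, 0, 4, 0, 0, 0, 0, 0, 0, 0, 0, 0, 0, 0, 0, 0, 0, 0, 0, 0, 0, 0]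
def b1 : Vec := vecOfList [-2, 2, 2, 0, 2, 0, 0, 0, 0, 0, 0, 0, 0, -2, 0, 0, -2, 0, 0, 0, 0, 0, -2, 2]
def b2 : Vec := vecOfList [2, 2, 0, 0, 0, 0, 0, 0, 0, 0, 0, 0, 0, 2, 0, 2, 0, 2, 2, 2, 0, 0, 0, 2]
def c2 : Vec := vecOfList [1, 1, 3, -1, -1, -1, -1, -1, -1, -1, -1, -1, -1, 1, -1, 1, -1, 1, 1, 1, -1, -1, -1, 1]

set_option maxRecDepth 100000 in
theorem a1_cond : LeechCond a1 0 := by decide +kernel
set_option maxRecDepth 100000 in
theorem b1_cond : LeechCond b1 0 := by decide +kernel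
set_option maxRecDepth 100000 in
theorem b2_cond : LeechCond b2 0 := by decide +kernel
set_option maxRecDepth 100000 in
theorem c2_cond : LeechCond c2 1 := by decide +kernel

def A1 : leechLattice := ⟨a1, mem_of_leechCond a1_cond⟩
def B1 : leechLattice := ⟨b1, mem_of_leechCond b1_cond⟩
def B2 : leechLattice := ⟨b2, mem_of_leechCond b2_cond⟩
def C2 : leechLattice := ⟨c2, mem_of_leechCond c2_cond⟩

set_option maxRecDepth 100000 in
theorem xi_a1 : ∀ p, (∑ j, coef a1 j * xiW j p) = b1 p := by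
  unfold coef dotInt; decide +kernel

set_option maxRecDepth 100000 in
theorem xi_b2 : ∀ p, (∑ j, coef b2 j * xiW j p) = c2 p := by
  unfold coef dotInt; decide +kernel

theorem conj_A1_B1 : Conj A1 B1 :=
  ⟨xi, Subtype.ext (funext fun p => by rw [xi_smul, lin_apply]; exact xi_a1 p)⟩

theorem conj_B2_C2 : Conj B2 C2 :=
  ⟨xi, Subtype.ext (funext fun p => by rw [xi_smul, lin_apply]; exact xi_b2 p)⟩

set_option maxRecDepth 100000 in
theorem a1_facts : sqNorm a1 = 32 ∧ ∀ i, a1 i % 4 = 0 := by unfold sqNorm; decide +kernel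
set_option maxRecDepth 100000 in
theorem b1_facts : sqNorm b1 = 32 ∧ (∀ i, b1 i % 2 = 0) ∧ b1 (some 0) % 4 = 2 := by
  unfold sqNorm; decide +kernel
set_option maxRecDepth 100000 in
theorem b2_facts : sqNorm b2 = 32 ∧ (∀ i, b2 i % 2 = 0) ∧ b2 (some 0) % 4 = 2 := by
  unfold sqNorm; decide +kernel
set_option maxRecDepth 100000 in
theorem c2_facts : sqNorm c2 = 32 ∧ c2 none % 2 = 1 := by unfold sqNorm; decide +kernel

theorem conj_LB_LA : Conj LB LA :=
  (conjB B1 b1_facts.1 b1_facts.2.1 ⟨some 0, b1_facts.2.2⟩).symm.trans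
    (conj_A1_B1.symm.trans (conjA A1 a1_facts.1 a1_facts.2))

theorem conj_LC_LA : Conj LC LA :=
  (conjC C2 c2_facts.1 c2_facts.2).symm.trans
    (conj_B2_C2.symm.trans ((conjB B2 b2_facts.1 b2_facts.2.1 ⟨some 0, b2_facts.2.2⟩).trans conj_LB_LA))

/-- every vector of sum of squares 32 is conjugate to `(4, 4, 0^22)` -/
theorem conj_LA (v : leechLattice) (hn : sqNorm (v : Vec) = 32) : Conj v LA := by
  obtain ⟨m, hpar, -, -⟩ := mem_data v.2
  rcases Int.emod_two_eq_zero_or_one ((v : Vec) none) with h0 | h1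
  · have hev : ∀ i, (v : Vec) i % 2 = 0 := fun i => by rw [hpar i, ← hpar none]; exact h0
    by_cases h2 : ∃ i, (v : Vec) i % 4 = 2
    · exact (conjB v hn hev h2).trans conj_LB_LA
    · push Not at h2
      apply conjA v hn
      intro i
      have := hev i
      have := h2 i
      omega
  · exact (conjC v hn h1).trans conj_LC_LA

/-- transitivity on the vectors of sum of squares 32 -/
theorem trans4 (v w : leechLattice) (hv : sqNorm (v : Vec) = 32) (hw : sqNorm (w : Vec) = 32) :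
    Conj v w :=
  (conj_LA v hv).trans (conj_LA w hw).symm

end Cfsg.Agent.Lib.Conway
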