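import Cfsg.Agent.Lib.Conway.Xi
import Cfsg.Agent.Lib.Conway.Trans4
import Cfsg.Agent.Lib.Helper93.M24Structure

set_option autoImplicit false

/-!
The stabiliser of the minimal vector `V0 = (4, -4, 0^22)`: the relation of conjugacy under it, the
monomial elements in it, and an extra automorphism `g1` in it (a conjugate of `xi`).
-/

namespace Cfsg.Agent.Lib.Conway

open Cfsg Cfsg.Agent.Lib.Helper93.Leech Cfsg.Agent.Lib.Helper93.Golay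
open Cfsg.Agent.Lib.Golay.LeechBasis
open scoped Pointwise

/-- the first base point -/
abbrev pa : GolayPt := P 0
/-- the second base point -/
abbrev pb : GolayPt := P 1

theorem pa_ne_pb : pa ≠ pb := by decide

/-- the vector `(4, -4, 0^22)` -/
def v0 : Vec := fun p => if p = pa then 4 else if p = pb then -4 else 0

set_option maxRecDepth 100000 in
theorem v0_cond : LeechCond v0 0 := by decide +kernel

/-- the base vector -/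
def V0 : leechLattice := ⟨v0, mem_of_leechCond v0_cond⟩

theorem dot_v0 (w : Vec) : dotInt v0 w = 4 * w pa - 4 * w pb := by
  unfold dotInt v0
  have hpt : ∀ p, (if p = pa then (4 : ℤ) else if p = pb then -4 else 0) * w p =
      (if p = pa then 4 * w p else 0) + (if p = pb then -4 * w p else 0) := by
    intro p
    by_cases h1 : p = pa
    · have h2 : p ≠ pb := fun h => pa_ne_pb (h1.symm.trans h)
      simp [h1, pa_ne_pb]
    · by_cases h2 : p = pb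
      · simp [h2, pa_ne_pb.symm]
      · simp [h1, h2]
  rw [Finset.sum_congr rfl (fun p _ => hpt p), Finset.sum_add_distrib, Finset.sum_ite_eq',
    Finset.sum_ite_eq']
  simp only [Finset.mem_univ, if_true]
  ring

/-- invariance of the scalar product under `Co0` -/
theorem co0_dot (g : Co0) (v w : leechLattice) :
    dotInt ((g • v : leechLattice) : Vec) ((g • w : leechLattice) : Vec) = dotInt (v : Vec) w := by
  have h1 := Cfsg.Agent.S0393.sqNorm_add ((g • v : leechLattice) : Vec) ((g • w : leechLattice) : Vec)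
  have h2 := Cfsg.Agent.S0393.sqNorm_add (v : Vec) (w : Vec)
  have h3 : sqNorm (((g • v : leechLattice) : Vec) + ((g • w : leechLattice) : Vec)) =
      sqNorm ((v : Vec) + (w : Vec)) := by
    have := co0_norm g (v + w)
    rw [co0_add] at this
    exact this
  rw [co0_norm, co0_norm] at h1
  omega

/-- conjugacy under the stabiliser of `V0` -/
def ConjV (w w' : leechLattice) : Prop := ∃ g : Co0, g • V0 = V0 ∧ g • w = w'

theorem ConjV.refl (w : leechLattice) : ConjV w w := ⟨1, rfl, rfl⟩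

theorem ConjV.symm {w w' : leechLattice} (h : ConjV w w') : ConjV w' w := by
  obtain ⟨g, h0, rfl⟩ := h
  refine ⟨g⁻¹, ?_, inv_smul_smul g w⟩
  conv_lhs => rw [← h0]
  exact inv_smul_smul g V0

theorem ConjV.trans {w w' w'' : leechLattice} (h : ConjV w w') (h' : ConjV w' w'') : ConjV w w'' := by
  obtain ⟨g, h0, rfl⟩ := h
  obtain ⟨g', h0', rfl⟩ := h'
  refine ⟨g' * g, ?_, mul_smul g' g w⟩
  rw [mul_smul, h0, h0']

theorem conjV_of_eq {w w' : leechLattice} (h : (w : Vec) = w') : ConjV w w' := by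
  have : w = w' := Subtype.ext h
  rw [this]
  exact ConjV.refl w'

theorem ConjV.neg {w w' : leechLattice} (h : ConjV w w') : ConjV (-w) (-w') := by
  obtain ⟨g, h0, rfl⟩ := h
  exact ⟨g, h0, co0_neg g w⟩

/-- the monomial elements fixing `V0` -/
theorem conjV_mono (σ : Equiv.Perm GolayPt) (c : Finset GolayPt) (hσ : σ ∈ M24) (hc : c ∈ CS)
    (hσa : σ pa = pa) (hσb : σ pb = pb) (ha : pa ∉ c) (hb : pb ∉ c) (w : leechLattice) :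
    ConjV w ⟨signedPerm σ c w, signedPerm_mem hσ hc w.2⟩ := by
  refine ⟨mono σ c hσ hc, Subtype.ext ?_, Subtype.ext (mono_smul σ c hσ hc w)⟩
  rw [mono_smul]
  funext k
  show signedPerm σ c v0 k = v0 k
  rw [signedPerm_apply]
  have hsa : σ.symm pa = pa := by conv_lhs => rw [← hσa]; simp
  have hsb : σ.symm pb = pb := by conv_lhs => rw [← hσb]; simp
  have hka : σ.symm k = pa ↔ k = pa := by
    constructor
    · intro h; rw [← hσa, ← h]; simp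
    · intro h; rw [h, hsa]
  have hkb : σ.symm k = pb ↔ k = pb := by
    constructor
    · intro h; rw [← hσb, ← h]; simp
    · intro h; rw [h, hsb]
  unfold v0
  by_cases h1 : k = pa
  · rw [if_neg (by rw [h1]; exact ha), if_pos (hka.mpr h1), if_pos h1]
  · by_cases h2 : k = pb
    · rw [if_neg (by rw [h2]; exact hb), if_neg (fun h => h1 (hka.mp h)), if_pos (hkb.mpr h2),
        if_neg h1, if_pos h2]
    · rw [if_neg (fun h => h1 (hka.mp h)), if_neg (fun h => h2 (hkb.mp h)), if_neg h1, if_neg h2]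
      split <;> rfl

/-! ### The extra automorphism fixing `V0` -/

def G1Tab : List (List ℤ) :=
  [[4, -4, 0, 0, 0, 0, -4, 0, 0, 0, 0, 0, 0, 0, 0, -4, 0, 0, 0, 0, 0, 0, 0, 0],
   [0, 0, 0, 0, 0, 0, -4, 0, 0, 0, 0, 0, 0, 0, 0, -4, 0, 0, 0, 0, 0, 0, 0, 0],
   [2, -2, -2, 0, 0, 2, -2, 0, 0, 0, 0, 0, 2, 2, 0, -2, 0, 0, 0, 0, 0, 0, 0, 0],
   [2, -2, 0, 2, 0, 0, -2, -2, 0, 0, 0, 0, 0, 0, 0, -2, 0, -2, 0, 0, -2, 0, 0, 0],
   [2, -2, 0, 0, 2, 0, -2, 0, 0, 0, -2, 0, 0, 0, 0, -2, 0, 0, 0, -2, 0, 0, -2, 0],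
   [2, -2, 2, 0, 0, -2, -2, 0, 0, 0, 0, 0, 2, 2, 0, -2, 0, 0, 0, 0, 0, 0, 0, 0],
   [0, -4, 0, 0, 0, 0, 0, 0, 0, 0, 0, 0, 0, 0, 0, -4, 0, 0, 0, 0, 0, 0, 0, 0],
   [2, -2, 0, -2, 0, 0, -2, 2, 0, 0, 0, 0, 0, 0, 0, -2, 0, -2, 0, 0, -2, 0, 0, 0],
   [2, -2, 0, 0, 0, 0, -2, 0, 2, -2, 0, 0, 0, 0, 0, -2, 0, 0, -2, 0, 0, -2, 0, 0],
   [2, -2, 0, 0, 0, 0, -2, 0, -2, 2, 0, 0, 0, 0, 0, -2, 0, 0, -2, 0, 0, -2, 0, 0],
   [2, -2, 0, 0, -2, 0, -2, 0, 0, 0, 2, 0, 0, 0, 0, -2, 0, 0, 0, -2, 0, 0, -2, 0],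
   [2, -2, 0, 0, 0, 0, -2, 0, 0, 0, 0, 2, 0, 0, -2, -2, -2, 0, 0, 0, 0, 0, 0, -2],
   [0, 0, 0, 0, 0, 2, -2, 0, 0, 0, 0, 0, 0, 2, 0, -2, 0, -2, 0, -2, -2, 0, -2, 0],
   [-1, 1, 1, 1, 1, 1, -1, -1, 1, -1, -1, 1, 3, 1, -1, -1, -1, -1, -1, -1, -1, -1, -1, -1],
   [-1, -1, 1, -1, -1, -1, -1, 1, -1, 1, 1, -1, 1, 1, 1, -3, -1, -1, -1, -1, -1, -1, -1, -1],
   [-3, -1, -1, -1, -1, 1, -1, 1, 1, -1, 1, 1, 1, 1, -1, -1, -1, -1, -1, -1, -1, -1, -1, -1],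
   [0, 0, 0, 0, 0, 0, -2, 0, 0, 0, 0, 0, 0, 0, -2, -2, 0, 0, -2, -2, 0, -2, -2, -2],
   [1, -1, 1, -1, 1, -1, -1, -1, -1, 1, -1, 1, 1, 1, -1, -1, -1, -1, -1, -1, -3, -1, -1, -1],
   [0, -2, 0, 0, 0, 0, 0, 0, 0, -2, 0, 0, 2, 2, 0, -2, 0, -2, 0, 0, -2, -2, 0, 0],
   [-2, 0, 0, 0, 0, 0, 0, 0, 0, 0, -2, 0, 0, 0, 0, -2, 0, -2, -2, 0, -2, -2, -2, 0],
   [0, 0, 0, -2, 0, 0, 0, 0, 0, 0, 0, 0, 2, 2, 0, 0, 0, -2, -2, -2, 0, -2, -2, 0],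
   [-1, -1, 1, 1, -1, -1, 1, -1, -1, -1, 1, 1, 1, 1, -1, -1, -1, -1, -3, -1, -1, -1, -1, -1],
   [-1, -1, -1, 1, -1, 1, -1, -1, -1, 1, -1, 1, 1, 1, -1, -3, -1, -1, -1, -1, -1, -1, 1, -1],
   [1, -3, 1, -1, -1, 1, -3, -1, -1, -1, -1, -1, 1, 1, -1, -3, -1, -1, -1, -1, -1, -1, -1, -1]]

def G1InvTab : List (List ℤ) :=
  [[4, -4, 0, 0, 0, 0, -4, 0, 0, 0, 0, 0, 0, 0, 0, -4, 0, 0, 0, 0, 0, 0, 0, 0],
   [0, 0, 0, 0, 0, 0, -4, 0, 0, 0, 0, 0, 0, 0, 0, -4, 0, 0, 0, 0, 0, 0, 0, 0],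
   [2, -2, -2, 0, 0, 2, -2, 0, 0, 0, 0, 0, 2, 2, 0, -2, 0, 0, 0, 0, 0, 0, 0, 0],
   [2, -2, 0, 2, 0, 0, -2, -2, 0, 0, 0, 0, 0, 0, 0, -2, 0, -2, 0, 0, -2, 0, 0, 0],
   [2, -2, 0, 0, 2, 0, -2, 0, 0, 0, -2, 0, 0, 0, 0, -2, 0, 0, 0, -2, 0, 0, -2, 0],
   [2, -2, 2, 0, 0, -2, -2, 0, 0, 0, 0, 0, 2, 2, 0, -2, 0, 0, 0, 0, 0, 0, 0, 0],
   [0, -4, 0, 0, 0, 0, 0, 0, 0, 0, 0, 0, 0, 0, 0, -4, 0, 0, 0, 0, 0, 0, 0, 0],
   [2, -2, 0, -2, 0, 0, -2, 2, 0, 0, 0, 0, 0, 0, 0, -2, 0, -2, 0, 0, -2, 0, 0, 0],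
   [2, -2, 0, 0, 0, 0, -2, 0, 2, -2, 0, 0, 0, 0, 0, -2, 0, 0, -2, 0, 0, -2, 0, 0],
   [2, -2, 0, 0, 0, 0, -2, 0, -2, 2, 0, 0, 0, 0, 0, -2, 0, 0, -2, 0, 0, -2, 0, 0],
   [2, -2, 0, 0, -2, 0, -2, 0, 0, 0, 2, 0, 0, 0, 0, -2, 0, 0, 0, -2, 0, 0, -2, 0],
   [2, -2, 0, 0, 0, 0, -2, 0, 0, 0, 0, 2, 0, 0, -2, -2, -2, 0, 0, 0, 0, 0, 0, -2],
   [0, 0, 0, 0, 0, 2, -2, 0, 0, 0, 0, 0, 0, 2, 0, -2, 0, -2, 0, -2, -2, 0, -2, 0],
   [-1, 1, 1, 1, 1, 1, -1, -1, 1, -1, -1, 1, 3, 1, -1, -1, -1, -1, -1, -1, -1, -1, -1, -1],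
   [-1, -1, 1, -1, -1, -1, -1, 1, -1, 1, 1, -1, 1, 1, 1, -3, -1, -1, -1, -1, -1, -1, -1, -1],
   [-3, -1, -1, -1, -1, 1, -1, 1, 1, -1, 1, 1, 1, 1, -1, -1, -1, -1, -1, -1, -1, -1, -1, -1],
   [0, 0, 0, 0, 0, 0, -2, 0, 0, 0, 0, 0, 0, 0, -2, -2, 0, 0, -2, -2, 0, -2, -2, -2],
   [1, -1, 1, -1, 1, -1, -1, -1, -1, 1, -1, 1, 1, 1, -1, -1, -1, -1, -1, -1, -3, -1, -1, -1],
   [0, -2, 0, 0, 0, 0, 0, 0, 0, -2, 0, 0, 2, 2, 0, -2, 0, -2, 0, 0, -2, -2, 0, 0],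
   [-2, 0, 0, 0, 0, 0, 0, 0, 0, 0, -2, 0, 0, 0, 0, -2, 0, -2, -2, 0, -2, -2, -2, 0],
   [0, 0, 0, -2, 0, 0, 0, 0, 0, 0, 0, 0, 2, 2, 0, 0, 0, -2, -2, -2, 0, -2, -2, 0],
   [-1, -1, 1, 1, -1, -1, 1, -1, -1, -1, 1, 1, 1, 1, -1, -1, -1, -1, -3, -1, -1, -1, -1, -1],
   [-1, -1, -1, 1, -1, 1, -1, -1, -1, 1, -1, 1, 1, 1, -1, -3, -1, -1, -1, -1, -1, -1, 1, -1],
   [1, -3, 1, -1, -1, 1, -3, -1, -1, -1, -1, -1, 1, 1, -1, -3, -1, -1, -1, -1, -1, -1, -1, -1]]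


/-- images of the basis vectors under `g1` -/
def g1W : Fin 24 → Vec := tabVec G1Tab
/-- images of the basis vectors under the inverse of `g1` -/
def g1W' : Fin 24 → Vec := tabVec G1InvTab

set_option maxRecDepth 100000 in
theorem g1W_cond : ∀ j : Fin 24, LeechCond (g1W j) (g1W j (ptOf 0)) := by decide +kernel

set_option maxRecDepth 100000 in
theorem g1W'_cond : ∀ j : Fin 24, LeechCond (g1W' j) (g1W' j (ptOf 0)) := by decide +kernel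

set_option maxRecDepth 100000 in
theorem g1W_gram : ∀ j k : Fin 24, dotInt (g1W j) (g1W k) = dotInt (bvec j) (bvec k) := by
  unfold dotInt; decide +kernel

set_option maxRecDepth 100000 in
theorem g1_inv1 : ∀ (j : Fin 24) (p : GolayPt), (∑ k, coef (g1W j) k * g1W' k p) = bvec j p := by
  unfold coef dotInt; decide +kernel

set_option maxRecDepth 100000 in
theorem g1_inv2 : ∀ (j : Fin 24) (p : GolayPt), (∑ k, coef (g1W' j) k * g1W k p) = bvec j p := by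
  unfold coef dotInt; decide +kernel

/-- the extra automorphism -/
def g1 : Co0 :=
  tableAut g1W g1W' (fun j => mem_of_leechCond (g1W_cond j)) (fun j => mem_of_leechCond (g1W'_cond j))
    g1W_gram (fun j => funext fun p => by rw [lin_apply]; exact g1_inv1 j p)
    (fun j => funext fun p => by rw [lin_apply]; exact g1_inv2 j p)

theorem g1_smul (v : leechLattice) : ((g1 • v : leechLattice) : Vec) = lin g1W v := rfl

set_option maxRecDepth 100000 in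
theorem g1_v0 : ∀ p, (∑ j, coef v0 j * g1W j p) = v0 p := by
  unfold coef dotInt; decide +kernel

theorem g1_V0 : g1 • V0 = V0 :=
  Subtype.ext (funext fun p => by rw [g1_smul, lin_apply]; exact g1_v0 p)

/-- fusion by `g1`: explicit pairs -/
theorem conjV_g1 {x y : leechLattice} (h : ∀ p, (∑ j, coef (x : Vec) j * g1W j p) = (y : Vec) p) :
    ConjV x y :=
  ⟨g1, g1_V0, Subtype.ext (funext fun p => by rw [g1_smul, lin_apply]; exact h p)⟩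

end Cfsg.Agent.Lib.Conway
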