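import Cfsg.Agent.Lib.Conway.Co2Norm2

set_option autoImplicit false

/-!
Fusion of the orbits of the monomial part of the stabiliser of `V0` by the extra automorphism `g1`:
the stabiliser of `V0` is transitive on the minimal vectors with a given scalar product
(`0`, `-16` or `-8`) with `V0`.
-/

namespace Cfsg.Agent.Lib.Conway

open Cfsg Cfsg.Agent.Lib.Helper93.Leech Cfsg.Agent.Lib.Helper93.Golay
open Cfsg.Agent.Lib.Golay.LeechBasis
open scoped Pointwise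

/-! ### Scalar product 0 with `V0` -/

namespace d0

def bvecE : Vec := vecOfList [-2, -2, 0, 0, 0, 0, 0, 0, 0, 0, 0, 0, 0, 2, 0, 2, 0, 2, 2, 2, 0, 0, 0, 2]
set_option maxRecDepth 100000 in
theorem bvecE_cond : LeechCond bvecE 0 := by decide +kernel
def BASE : leechLattice := ⟨bvecE, mem_of_leechCond bvecE_cond⟩
set_option maxRecDepth 100000 in
theorem base_facts : sqNorm bvecE = 32 ∧ ((∀ i, bvecE i % 2 = 0) ∧ (∃ i, bvecE i % 4 = 2)) ∧ bvecE pa = -2 ∧ bvecE pb = -2 := by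
  unfold sqNorm; decide +kernel

theorem to_base_k28_m2_m2 (w : leechLattice) (hn : sqNorm (w : Vec) = 32) (hk : (∀ i, (w : Vec) i % 2 = 0) ∧ (∃ i, (w : Vec) i % 4 = 2))
    (ea : (w : Vec) pa = -2) (eb : (w : Vec) pb = -2) : ConjV w BASE :=
  conjV_28 w BASE hn hk.1 hk.2 base_facts.1 base_facts.2.1.1 base_facts.2.1.2 (ea.trans base_facts.2.2.1.symm) (eb.trans base_facts.2.2.2.symm)

def x_k28_p0_p0 : Vec := vecOfList [0, 0, 0, 0, 0, 0, 2, 0, 0, 0, 0, 0, 0, 0, 2, 2, 0, 0, 2, 2, 0, 2, 2, 2]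
def y_k28_p0_p0 : Vec := vecOfList [-2, -2, 0, 0, -2, 0, 0, 0, -2, -2, -2, -2, 0, 0, 0, 0, -2, 0, 0, 0, 0, 0, 0, 0]
set_option maxRecDepth 100000 in
theorem x_k28_p0_p0_cond : LeechCond x_k28_p0_p0 0 := by decide +kernel
set_option maxRecDepth 100000 in
theorem y_k28_p0_p0_cond : LeechCond y_k28_p0_p0 0 := by decide +kernel
def X_k28_p0_p0 : leechLattice := ⟨x_k28_p0_p0, mem_of_leechCond x_k28_p0_p0_cond⟩
def Y_k28_p0_p0 : leechLattice := ⟨y_k28_p0_p0, mem_of_leechCond y_k28_p0_p0_cond⟩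
set_option maxRecDepth 100000 in
theorem g1_k28_p0_p0 : ∀ p, (∑ j, coef x_k28_p0_p0 j * g1W j p) = y_k28_p0_p0 p := by
  unfold coef dotInt; decide +kernel
set_option maxRecDepth 100000 in
theorem x_k28_p0_p0_facts : sqNorm x_k28_p0_p0 = 32 ∧ ((∀ i, x_k28_p0_p0 i % 2 = 0) ∧ (∃ i, x_k28_p0_p0 i % 4 = 2)) ∧ x_k28_p0_p0 pa = 0 ∧ x_k28_p0_p0 pb = 0 := by
  unfold sqNorm; decide +kernel
set_option maxRecDepth 100000 in
theorem y_k28_p0_p0_facts : sqNorm y_k28_p0_p0 = 32 ∧ ((∀ i, y_k28_p0_p0 i % 2 = 0) ∧ (∃ i, y_k28_p0_p0 i % 4 = 2)) ∧ y_k28_p0_p0 pa = -2 ∧ y_k28_p0_p0 pb = -2 := by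
  unfold sqNorm; decide +kernel
theorem to_base_k28_p0_p0 (w : leechLattice) (hn : sqNorm (w : Vec) = 32) (hk : (∀ i, (w : Vec) i % 2 = 0) ∧ (∃ i, (w : Vec) i % 4 = 2))
    (ea : (w : Vec) pa = 0) (eb : (w : Vec) pb = 0) : ConjV w BASE :=
  (conjV_28 w X_k28_p0_p0 hn hk.1 hk.2 x_k28_p0_p0_facts.1 x_k28_p0_p0_facts.2.1.1 x_k28_p0_p0_facts.2.1.2 (ea.trans x_k28_p0_p0_facts.2.2.1.symm) (eb.trans x_k28_p0_p0_facts.2.2.2.symm)).trans
    ((conjV_g1 (x := X_k28_p0_p0) (y := Y_k28_p0_p0) g1_k28_p0_p0).trans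
      (to_base_k28_m2_m2 Y_k28_p0_p0 y_k28_p0_p0_facts.1 y_k28_p0_p0_facts.2.1 y_k28_p0_p0_facts.2.2.1 y_k28_p0_p0_facts.2.2.2))

def x_k28_p2_p2 : Vec := vecOfList [2, 2, 0, 2, 0, 0, 2, 2, 0, 0, 0, 0, 0, 0, 0, 2, 0, 2, 0, 0, 2, 0, 0, 0]
def y_k28_p2_p2 : Vec := vecOfList [-2, -2, 0, -2, 0, 0, -2, -2, 0, 0, 0, 0, 0, 0, 0, -2, 0, -2, 0, 0, -2, 0, 0, 0]
set_option maxRecDepth 100000 in
theorem x_k28_p2_p2_cond : LeechCond x_k28_p2_p2 0 := by decide +kernel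
set_option maxRecDepth 100000 in
theorem y_k28_p2_p2_cond : LeechCond y_k28_p2_p2 0 := by decide +kernel
def X_k28_p2_p2 : leechLattice := ⟨x_k28_p2_p2, mem_of_leechCond x_k28_p2_p2_cond⟩
def Y_k28_p2_p2 : leechLattice := ⟨y_k28_p2_p2, mem_of_leechCond y_k28_p2_p2_cond⟩
set_option maxRecDepth 100000 in
theorem g1_k28_p2_p2 : ∀ p, (∑ j, coef x_k28_p2_p2 j * g1W j p) = y_k28_p2_p2 p := by
  unfold coef dotInt; decide +kernel
set_option maxRecDepth 100000 in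
theorem x_k28_p2_p2_facts : sqNorm x_k28_p2_p2 = 32 ∧ ((∀ i, x_k28_p2_p2 i % 2 = 0) ∧ (∃ i, x_k28_p2_p2 i % 4 = 2)) ∧ x_k28_p2_p2 pa = 2 ∧ x_k28_p2_p2 pb = 2 := by
  unfold sqNorm; decide +kernel
set_option maxRecDepth 100000 in
theorem y_k28_p2_p2_facts : sqNorm y_k28_p2_p2 = 32 ∧ ((∀ i, y_k28_p2_p2 i % 2 = 0) ∧ (∃ i, y_k28_p2_p2 i % 4 = 2)) ∧ y_k28_p2_p2 pa = -2 ∧ y_k28_p2_p2 pb = -2 := by
  unfold sqNorm; decide +kernel
theorem to_base_k28_p2_p2 (w : leechLattice) (hn : sqNorm (w : Vec) = 32) (hk : (∀ i, (w : Vec) i % 2 = 0) ∧ (∃ i, (w : Vec) i % 4 = 2))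
    (ea : (w : Vec) pa = 2) (eb : (w : Vec) pb = 2) : ConjV w BASE :=
  (conjV_28 w X_k28_p2_p2 hn hk.1 hk.2 x_k28_p2_p2_facts.1 x_k28_p2_p2_facts.2.1.1 x_k28_p2_p2_facts.2.1.2 (ea.trans x_k28_p2_p2_facts.2.2.1.symm) (eb.trans x_k28_p2_p2_facts.2.2.2.symm)).trans
    ((conjV_g1 (x := X_k28_p2_p2) (y := Y_k28_p2_p2) g1_k28_p2_p2).trans
      (to_base_k28_m2_m2 Y_k28_p2_p2 y_k28_p2_p2_facts.1 y_k28_p2_p2_facts.2.1 y_k28_p2_p2_facts.2.2.1 y_k28_p2_p2_facts.2.2.2))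

def x_k44_p0_p0 : Vec := vecOfList [0, 0, 4, 0, 0, 0, 4, 0, 0, 0, 0, 0, 0, 0, 0, 0, 0, 0, 0, 0, 0, 0, 0, 0]
def y_k44_p0_p0 : Vec := vecOfList [-2, -2, -2, 0, 0, 2, 2, 0, 0, 0, 0, 0, 2, 2, 0, -2, 0, 0, 0, 0, 0, 0, 0, 0]
set_option maxRecDepth 100000 in
theorem x_k44_p0_p0_cond : LeechCond x_k44_p0_p0 0 := by decide +kernel
set_option maxRecDepth 100000 in
theorem y_k44_p0_p0_cond : LeechCond y_k44_p0_p0 0 := by decide +kernel
def X_k44_p0_p0 : leechLattice := ⟨x_k44_p0_p0, mem_of_leechCond x_k44_p0_p0_cond⟩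
def Y_k44_p0_p0 : leechLattice := ⟨y_k44_p0_p0, mem_of_leechCond y_k44_p0_p0_cond⟩
set_option maxRecDepth 100000 in
theorem g1_k44_p0_p0 : ∀ p, (∑ j, coef x_k44_p0_p0 j * g1W j p) = y_k44_p0_p0 p := by
  unfold coef dotInt; decide +kernel
set_option maxRecDepth 100000 in
theorem x_k44_p0_p0_facts : sqNorm x_k44_p0_p0 = 32 ∧ (∀ i, x_k44_p0_p0 i % 4 = 0) ∧ x_k44_p0_p0 pa = 0 ∧ x_k44_p0_p0 pb = 0 := by
  unfold sqNorm; decide +kernel
set_option maxRecDepth 100000 in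
theorem y_k44_p0_p0_facts : sqNorm y_k44_p0_p0 = 32 ∧ ((∀ i, y_k44_p0_p0 i % 2 = 0) ∧ (∃ i, y_k44_p0_p0 i % 4 = 2)) ∧ y_k44_p0_p0 pa = -2 ∧ y_k44_p0_p0 pb = -2 := by
  unfold sqNorm; decide +kernel
theorem to_base_k44_p0_p0 (w : leechLattice) (hn : sqNorm (w : Vec) = 32) (hk : ∀ i, (w : Vec) i % 4 = 0)
    (ea : (w : Vec) pa = 0) (eb : (w : Vec) pb = 0) : ConjV w BASE :=
  (conjV_44 w X_k44_p0_p0 hn hk x_k44_p0_p0_facts.1 x_k44_p0_p0_facts.2.1 (ea.trans x_k44_p0_p0_facts.2.2.1.symm) (eb.trans x_k44_p0_p0_facts.2.2.2.symm)).trans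
    ((conjV_g1 (x := X_k44_p0_p0) (y := Y_k44_p0_p0) g1_k44_p0_p0).trans
      (to_base_k28_m2_m2 Y_k44_p0_p0 y_k44_p0_p0_facts.1 y_k44_p0_p0_facts.2.1 y_k44_p0_p0_facts.2.2.1 y_k44_p0_p0_facts.2.2.2))

def x_kodd_m1_m1 : Vec := vecOfList [-1, -1, 1, 1, 1, 1, 1, 1, 1, 1, 1, 1, 1, -1, 1, 3, 1, -1, -1, -1, 1, 1, 1, -1]
def y_kodd_m1_m1 : Vec := vecOfList [-2, -2, 0, 0, 0, 0, 0, 0, 0, 0, 0, 0, 0, 2, 0, 2, 0, -2, -2, -2, 0, 0, 0, -2]
set_option maxRecDepth 100000 in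
theorem x_kodd_m1_m1_cond : LeechCond x_kodd_m1_m1 1 := by decide +kernel
set_option maxRecDepth 100000 in
theorem y_kodd_m1_m1_cond : LeechCond y_kodd_m1_m1 0 := by decide +kernel
def X_kodd_m1_m1 : leechLattice := ⟨x_kodd_m1_m1, mem_of_leechCond x_kodd_m1_m1_cond⟩
def Y_kodd_m1_m1 : leechLattice := ⟨y_kodd_m1_m1, mem_of_leechCond y_kodd_m1_m1_cond⟩
set_option maxRecDepth 100000 in
theorem g1_kodd_m1_m1 : ∀ p, (∑ j, coef x_kodd_m1_m1 j * g1W j p) = y_kodd_m1_m1 p := by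
  unfold coef dotInt; decide +kernel
set_option maxRecDepth 100000 in
theorem x_kodd_m1_m1_facts : sqNorm x_kodd_m1_m1 = 32 ∧ x_kodd_m1_m1 none % 2 = 1 ∧ x_kodd_m1_m1 pa = -1 ∧ x_kodd_m1_m1 pb = -1 := by
  unfold sqNorm; decide +kernel
set_option maxRecDepth 100000 in
theorem y_kodd_m1_m1_facts : sqNorm y_kodd_m1_m1 = 32 ∧ ((∀ i, y_kodd_m1_m1 i % 2 = 0) ∧ (∃ i, y_kodd_m1_m1 i % 4 = 2)) ∧ y_kodd_m1_m1 pa = -2 ∧ y_kodd_m1_m1 pb = -2 := by
  unfold sqNorm; decide +kernel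
theorem to_base_kodd_m1_m1 (w : leechLattice) (hn : sqNorm (w : Vec) = 32) (hk : (w : Vec) none % 2 = 1)
    (ea : (w : Vec) pa = -1) (eb : (w : Vec) pb = -1) : ConjV w BASE :=
  (conjV_31 w X_kodd_m1_m1 hn hk x_kodd_m1_m1_facts.1 x_kodd_m1_m1_facts.2.1 (ea.trans x_kodd_m1_m1_facts.2.2.1.symm) (eb.trans x_kodd_m1_m1_facts.2.2.2.symm)).trans
    ((conjV_g1 (x := X_kodd_m1_m1) (y := Y_kodd_m1_m1) g1_kodd_m1_m1).trans
      (to_base_k28_m2_m2 Y_kodd_m1_m1 y_kodd_m1_m1_facts.1 y_kodd_m1_m1_facts.2.1 y_kodd_m1_m1_facts.2.2.1 y_kodd_m1_m1_facts.2.2.2))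

def x_kodd_p1_p1 : Vec := vecOfList [1, 1, -1, -1, 1, 1, 1, 1, 1, 1, 1, 1, 1, 1, 1, 3, 1, -1, 1, -1, -1, -1, 1, -1]
def y_kodd_p1_p1 : Vec := vecOfList [-2, -2, 2, 0, 0, 0, -2, 2, 0, 0, 0, 0, 0, 0, 0, 0, 0, 0, 0, -2, 0, -2, 0, -2]
set_option maxRecDepth 100000 in
theorem x_kodd_p1_p1_cond : LeechCond x_kodd_p1_p1 1 := by decide +kernel
set_option maxRecDepth 100000 in
theorem y_kodd_p1_p1_cond : LeechCond y_kodd_p1_p1 0 := by decide +kernel
def X_kodd_p1_p1 : leechLattice := ⟨x_kodd_p1_p1, mem_of_leechCond x_kodd_p1_p1_cond⟩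
def Y_kodd_p1_p1 : leechLattice := ⟨y_kodd_p1_p1, mem_of_leechCond y_kodd_p1_p1_cond⟩
set_option maxRecDepth 100000 in
theorem g1_kodd_p1_p1 : ∀ p, (∑ j, coef x_kodd_p1_p1 j * g1W j p) = y_kodd_p1_p1 p := by
  unfold coef dotInt; decide +kernel
set_option maxRecDepth 100000 in
theorem x_kodd_p1_p1_facts : sqNorm x_kodd_p1_p1 = 32 ∧ x_kodd_p1_p1 none % 2 = 1 ∧ x_kodd_p1_p1 pa = 1 ∧ x_kodd_p1_p1 pb = 1 := by
  unfold sqNorm; decide +kernel
set_option maxRecDepth 100000 in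
theorem y_kodd_p1_p1_facts : sqNorm y_kodd_p1_p1 = 32 ∧ ((∀ i, y_kodd_p1_p1 i % 2 = 0) ∧ (∃ i, y_kodd_p1_p1 i % 4 = 2)) ∧ y_kodd_p1_p1 pa = -2 ∧ y_kodd_p1_p1 pb = -2 := by
  unfold sqNorm; decide +kernel
theorem to_base_kodd_p1_p1 (w : leechLattice) (hn : sqNorm (w : Vec) = 32) (hk : (w : Vec) none % 2 = 1)
    (ea : (w : Vec) pa = 1) (eb : (w : Vec) pb = 1) : ConjV w BASE :=
  (conjV_31 w X_kodd_p1_p1 hn hk x_kodd_p1_p1_facts.1 x_kodd_p1_p1_facts.2.1 (ea.trans x_kodd_p1_p1_facts.2.2.1.symm) (eb.trans x_kodd_p1_p1_facts.2.2.2.symm)).trans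
    ((conjV_g1 (x := X_kodd_p1_p1) (y := Y_kodd_p1_p1) g1_kodd_p1_p1).trans
      (to_base_k28_m2_m2 Y_kodd_p1_p1 y_kodd_p1_p1_facts.1 y_kodd_p1_p1_facts.2.1 y_kodd_p1_p1_facts.2.2.1 y_kodd_p1_p1_facts.2.2.2))

def x_k44_m4_m4 : Vec := vecOfList [-4, -4, 0, 0, 0, 0, 0, 0, 0, 0, 0, 0, 0, 0, 0, 0, 0, 0, 0, 0, 0, 0, 0, 0]
def y_k44_m4_m4 : Vec := vecOfList [0, 0, 0, 0, 0, 0, 4, 0, 0, 0, 0, 0, 0, 0, 0, 4, 0, 0, 0, 0, 0, 0, 0, 0]
set_option maxRecDepth 100000 in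
theorem x_k44_m4_m4_cond : LeechCond x_k44_m4_m4 0 := by decide +kernel
set_option maxRecDepth 100000 in
theorem y_k44_m4_m4_cond : LeechCond y_k44_m4_m4 0 := by decide +kernel
def X_k44_m4_m4 : leechLattice := ⟨x_k44_m4_m4, mem_of_leechCond x_k44_m4_m4_cond⟩
def Y_k44_m4_m4 : leechLattice := ⟨y_k44_m4_m4, mem_of_leechCond y_k44_m4_m4_cond⟩
set_option maxRecDepth 100000 in
theorem g1_k44_m4_m4 : ∀ p, (∑ j, coef x_k44_m4_m4 j * g1W j p) = y_k44_m4_m4 p := by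
  unfold coef dotInt; decide +kernel
set_option maxRecDepth 100000 in
theorem x_k44_m4_m4_facts : sqNorm x_k44_m4_m4 = 32 ∧ (∀ i, x_k44_m4_m4 i % 4 = 0) ∧ x_k44_m4_m4 pa = -4 ∧ x_k44_m4_m4 pb = -4 := by
  unfold sqNorm; decide +kernel
set_option maxRecDepth 100000 in
theorem y_k44_m4_m4_facts : sqNorm y_k44_m4_m4 = 32 ∧ (∀ i, y_k44_m4_m4 i % 4 = 0) ∧ y_k44_m4_m4 pa = 0 ∧ y_k44_m4_m4 pb = 0 := by
  unfold sqNorm; decide +kernel
theorem to_base_k44_m4_m4 (w : leechLattice) (hn : sqNorm (w : Vec) = 32) (hk : ∀ i, (w : Vec) i % 4 = 0)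
    (ea : (w : Vec) pa = -4) (eb : (w : Vec) pb = -4) : ConjV w BASE :=
  (conjV_44 w X_k44_m4_m4 hn hk x_k44_m4_m4_facts.1 x_k44_m4_m4_facts.2.1 (ea.trans x_k44_m4_m4_facts.2.2.1.symm) (eb.trans x_k44_m4_m4_facts.2.2.2.symm)).trans
    ((conjV_g1 (x := X_k44_m4_m4) (y := Y_k44_m4_m4) g1_k44_m4_m4).trans
      (to_base_k44_p0_p0 Y_k44_m4_m4 y_k44_m4_m4_facts.1 y_k44_m4_m4_facts.2.1 y_k44_m4_m4_facts.2.2.1 y_k44_m4_m4_facts.2.2.2))

def x_k44_p4_p4 : Vec := vecOfList [4, 4, 0, 0, 0, 0, 0, 0, 0, 0, 0, 0, 0, 0, 0, 0, 0, 0, 0, 0, 0, 0, 0, 0]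
def y_k44_p4_p4 : Vec := vecOfList [0, 0, 0, 0, 0, 0, -4, 0, 0, 0, 0, 0, 0, 0, 0, -4, 0, 0, 0, 0, 0, 0, 0, 0]
set_option maxRecDepth 100000 in
theorem x_k44_p4_p4_cond : LeechCond x_k44_p4_p4 0 := by decide +kernel
set_option maxRecDepth 100000 in
theorem y_k44_p4_p4_cond : LeechCond y_k44_p4_p4 0 := by decide +kernel
def X_k44_p4_p4 : leechLattice := ⟨x_k44_p4_p4, mem_of_leechCond x_k44_p4_p4_cond⟩
def Y_k44_p4_p4 : leechLattice := ⟨y_k44_p4_p4, mem_of_leechCond y_k44_p4_p4_cond⟩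
set_option maxRecDepth 100000 in
theorem g1_k44_p4_p4 : ∀ p, (∑ j, coef x_k44_p4_p4 j * g1W j p) = y_k44_p4_p4 p := by
  unfold coef dotInt; decide +kernel
set_option maxRecDepth 100000 in
theorem x_k44_p4_p4_facts : sqNorm x_k44_p4_p4 = 32 ∧ (∀ i, x_k44_p4_p4 i % 4 = 0) ∧ x_k44_p4_p4 pa = 4 ∧ x_k44_p4_p4 pb = 4 := by
  unfold sqNorm; decide +kernel
set_option maxRecDepth 100000 in
theorem y_k44_p4_p4_facts : sqNorm y_k44_p4_p4 = 32 ∧ (∀ i, y_k44_p4_p4 i % 4 = 0) ∧ y_k44_p4_p4 pa = 0 ∧ y_k44_p4_p4 pb = 0 := by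
  unfold sqNorm; decide +kernel
theorem to_base_k44_p4_p4 (w : leechLattice) (hn : sqNorm (w : Vec) = 32) (hk : ∀ i, (w : Vec) i % 4 = 0)
    (ea : (w : Vec) pa = 4) (eb : (w : Vec) pb = 4) : ConjV w BASE :=
  (conjV_44 w X_k44_p4_p4 hn hk x_k44_p4_p4_facts.1 x_k44_p4_p4_facts.2.1 (ea.trans x_k44_p4_p4_facts.2.2.1.symm) (eb.trans x_k44_p4_p4_facts.2.2.2.symm)).trans
    ((conjV_g1 (x := X_k44_p4_p4) (y := Y_k44_p4_p4) g1_k44_p4_p4).trans
      (to_base_k44_p0_p0 Y_k44_p4_p4 y_k44_p4_p4_facts.1 y_k44_p4_p4_facts.2.1 y_k44_p4_p4_facts.2.2.1 y_k44_p4_p4_facts.2.2.2))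

/-- all minimal vectors with scalar product 0 with `V0` are conjugate under the stabiliser of `V0` -/
theorem all_conj (w : leechLattice) (hn : sqNorm (w : Vec) = 32) (hd : dotInt v0 (w : Vec) = 0) :
    ConjV w BASE := by
  have hab : 4 * (w : Vec) pa - 4 * (w : Vec) pb = 0 := by rw [← dot_v0]; exact hd
  obtain ⟨m, hpar, -, -⟩ := mem_data w.2
  rcases Int.emod_two_eq_zero_or_one ((w : Vec) none) with h0 | h1
  · have hev : ∀ i, (w : Vec) i % 2 = 0 := fun i => by rw [hpar i, ← hpar none]; exact h0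
    by_cases h2 : ∃ i, (w : Vec) i % 4 = 2
    · obtain ⟨hD, hin, hout⟩ := oct_data w hn hev h2
      have hv : ∀ p, (w : Vec) p = 0 ∨ (w : Vec) p = 2 ∨ (w : Vec) p = -2 := by
        intro p
        by_cases hp : p ∈ cls (w : Vec) 2
        · rcases hin p hp with e | e
          · exact Or.inr (Or.inl e)
          · exact Or.inr (Or.inr e)
        · exact Or.inl (hout p hp)
      rcases hv pa with ea | ea | ea
      · rcases hv pb with eb | eb | eb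
        · exact to_base_k28_p0_p0 w hn ⟨hev, h2⟩ ea eb
        · exfalso; rw [ea, eb] at hab; norm_num at hab
        · exfalso; rw [ea, eb] at hab; norm_num at hab
      · rcases hv pb with eb | eb | eb
        · exfalso; rw [ea, eb] at hab; norm_num at hab
        · exact to_base_k28_p2_p2 w hn ⟨hev, h2⟩ ea eb
        · exfalso; rw [ea, eb] at hab; norm_num at hab
      · rcases hv pb with eb | eb | eb
        · exfalso; rw [ea, eb] at hab; norm_num at hab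
        · exfalso; rw [ea, eb] at hab; norm_num at hab
        · exact to_base_k28_m2_m2 w hn ⟨hev, h2⟩ ea eb
    · have h4 : ∀ i, (w : Vec) i % 4 = 0 := by
        intro i
        have h1 := hev i
        have h3 : ¬ (w : Vec) i % 4 = 2 := fun h => h2 ⟨i, h⟩
        omega
      obtain ⟨i, j, hij, hi, hj, hk⟩ := shape_44 h4 hn
      have hv : ∀ p, (w : Vec) p = 0 ∨ (w : Vec) p = 4 ∨ (w : Vec) p = -4 := by
        intro p
        by_cases hpi : p = i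
        · rw [hpi]; rcases hi with e | e
          · exact Or.inr (Or.inl e)
          · exact Or.inr (Or.inr e)
        · by_cases hpj : p = j
          · rw [hpj]; rcases hj with e | e
            · exact Or.inr (Or.inl e)
            · exact Or.inr (Or.inr e)
          · exact Or.inl (hk p hpi hpj)
      rcases hv pa with ea | ea | ea
      · rcases hv pb with eb | eb | eb
        · exact to_base_k44_p0_p0 w hn h4 ea eb
        · exfalso; rw [ea, eb] at hab; norm_num at hab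
        · exfalso; rw [ea, eb] at hab; norm_num at hab
      · rcases hv pb with eb | eb | eb
        · exfalso; rw [ea, eb] at hab; norm_num at hab
        · exact to_base_k44_p4_p4 w hn h4 ea eb
        · exfalso; rw [ea, eb] at hab; norm_num at hab
      · rcases hv pb with eb | eb | eb
        · exfalso; rw [ea, eb] at hab; norm_num at hab
        · exfalso; rw [ea, eb] at hab; norm_num at hab
        · exact to_base_k44_m4_m4 w hn h4 ea eb
  · obtain ⟨hall, k0, hk0, hwk⟩ := odd_data w hn h1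
    have hv : ∀ p, (w : Vec) p = 1 ∨ (w : Vec) p = -1 ∨ (w : Vec) p = 3 ∨ (w : Vec) p = -3 := by
      intro p
      by_cases hp : p = k0
      · rw [hp]; rcases hk0 with e | e
        · exact Or.inr (Or.inr (Or.inl e))
        · exact Or.inr (Or.inr (Or.inr e))
      · rcases hwk p hp with e | e
        · exact Or.inl e
        · exact Or.inr (Or.inl e)
    have h33 : ¬ (((w : Vec) pa = 3 ∨ (w : Vec) pa = -3) ∧ ((w : Vec) pb = 3 ∨ (w : Vec) pb = -3)) := by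
      rintro ⟨h3a, h3b⟩
      have e1 : pa = k0 := by
        by_contra hne
        rcases hwk pa hne with e | e <;> rcases h3a with e' | e' <;> rw [e] at e' <;> norm_num at e'
      have e2 : pb = k0 := by
        by_contra hne
        rcases hwk pb hne with e | e <;> rcases h3b with e' | e' <;> rw [e] at e' <;> norm_num at e'
      exact pa_ne_pb (e1.trans e2.symm)
    rcases hv pa with ea | ea | ea | ea
    · rcases hv pb with eb | eb | eb | eb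
      · exact to_base_kodd_p1_p1 w hn h1 ea eb
      · exfalso; rw [ea, eb] at hab; norm_num at hab
      · exfalso; rw [ea, eb] at hab; norm_num at hab
      · exfalso; rw [ea, eb] at hab; norm_num at hab
    · rcases hv pb with eb | eb | eb | eb
      · exfalso; rw [ea, eb] at hab; norm_num at hab
      · exact to_base_kodd_m1_m1 w hn h1 ea eb
      · exfalso; rw [ea, eb] at hab; norm_num at hab
      · exfalso; rw [ea, eb] at hab; norm_num at hab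
    · rcases hv pb with eb | eb | eb | eb
      · exfalso; rw [ea, eb] at hab; norm_num at hab
      · exfalso; rw [ea, eb] at hab; norm_num at hab
      · exact absurd ⟨Or.inl ea, Or.inl eb⟩ h33
      · exfalso; rw [ea, eb] at hab; norm_num at hab
    · rcases hv pb with eb | eb | eb | eb
      · exfalso; rw [ea, eb] at hab; norm_num at hab
      · exfalso; rw [ea, eb] at hab; norm_num at hab
      · exfalso; rw [ea, eb] at hab; norm_num at hab
      · exact absurd ⟨Or.inr ea, Or.inr eb⟩ h33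

end d0

/-! ### Scalar product -16 with `V0` -/

namespace d16

def bvecE : Vec := vecOfList [-2, 2, 0, 0, 0, 0, 0, 0, 0, 0, 0, 0, 0, -2, 0, 2, 0, 2, 2, 2, 0, 0, 0, 2]
set_option maxRecDepth 100000 in
theorem bvecE_cond : LeechCond bvecE 0 := by decide +kernel
def BASE : leechLattice := ⟨bvecE, mem_of_leechCond bvecE_cond⟩
set_option maxRecDepth 100000 in
theorem base_facts : sqNorm bvecE = 32 ∧ ((∀ i, bvecE i % 2 = 0) ∧ (∃ i, bvecE i % 4 = 2)) ∧ bvecE pa = -2 ∧ bvecE pb = 2 := by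
  unfold sqNorm; decide +kernel

theorem to_base_k28_m2_p2 (w : leechLattice) (hn : sqNorm (w : Vec) = 32) (hk : (∀ i, (w : Vec) i % 2 = 0) ∧ (∃ i, (w : Vec) i % 4 = 2))
    (ea : (w : Vec) pa = -2) (eb : (w : Vec) pb = 2) : ConjV w BASE :=
  conjV_28 w BASE hn hk.1 hk.2 base_facts.1 base_facts.2.1.1 base_facts.2.1.2 (ea.trans base_facts.2.2.1.symm) (eb.trans base_facts.2.2.2.symm)

def x_k44_m4_p0 : Vec := vecOfList [-4, 0, 4, 0, 0, 0, 0, 0, 0, 0, 0, 0, 0, 0, 0, 0, 0, 0, 0, 0, 0, 0, 0, 0]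
def y_k44_m4_p0 : Vec := vecOfList [-2, 2, -2, 0, 0, 2, 2, 0, 0, 0, 0, 0, 2, 2, 0, 2, 0, 0, 0, 0, 0, 0, 0, 0]
set_option maxRecDepth 100000 in
theorem x_k44_m4_p0_cond : LeechCond x_k44_m4_p0 0 := by decide +kernel
set_option maxRecDepth 100000 in
theorem y_k44_m4_p0_cond : LeechCond y_k44_m4_p0 0 := by decide +kernel
def X_k44_m4_p0 : leechLattice := ⟨x_k44_m4_p0, mem_of_leechCond x_k44_m4_p0_cond⟩
def Y_k44_m4_p0 : leechLattice := ⟨y_k44_m4_p0, mem_of_leechCond y_k44_m4_p0_cond⟩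
set_option maxRecDepth 100000 in
theorem g1_k44_m4_p0 : ∀ p, (∑ j, coef x_k44_m4_p0 j * g1W j p) = y_k44_m4_p0 p := by
  unfold coef dotInt; decide +kernel
set_option maxRecDepth 100000 in
theorem x_k44_m4_p0_facts : sqNorm x_k44_m4_p0 = 32 ∧ (∀ i, x_k44_m4_p0 i % 4 = 0) ∧ x_k44_m4_p0 pa = -4 ∧ x_k44_m4_p0 pb = 0 := by
  unfold sqNorm; decide +kernel
set_option maxRecDepth 100000 in
theorem y_k44_m4_p0_facts : sqNorm y_k44_m4_p0 = 32 ∧ ((∀ i, y_k44_m4_p0 i % 2 = 0) ∧ (∃ i, y_k44_m4_p0 i % 4 = 2)) ∧ y_k44_m4_p0 pa = -2 ∧ y_k44_m4_p0 pb = 2 := by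
  unfold sqNorm; decide +kernel
theorem to_base_k44_m4_p0 (w : leechLattice) (hn : sqNorm (w : Vec) = 32) (hk : ∀ i, (w : Vec) i % 4 = 0)
    (ea : (w : Vec) pa = -4) (eb : (w : Vec) pb = 0) : ConjV w BASE :=
  (conjV_44 w X_k44_m4_p0 hn hk x_k44_m4_p0_facts.1 x_k44_m4_p0_facts.2.1 (ea.trans x_k44_m4_p0_facts.2.2.1.symm) (eb.trans x_k44_m4_p0_facts.2.2.2.symm)).trans
    ((conjV_g1 (x := X_k44_m4_p0) (y := Y_k44_m4_p0) g1_k44_m4_p0).trans
      (to_base_k28_m2_p2 Y_k44_m4_p0 y_k44_m4_p0_facts.1 y_k44_m4_p0_facts.2.1 y_k44_m4_p0_facts.2.2.1 y_k44_m4_p0_facts.2.2.2))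

def x_k44_p0_p4 : Vec := vecOfList [0, 4, 4, 0, 0, 0, 0, 0, 0, 0, 0, 0, 0, 0, 0, 0, 0, 0, 0, 0, 0, 0, 0, 0]
def y_k44_p0_p4 : Vec := vecOfList [-2, 2, -2, 0, 0, 2, -2, 0, 0, 0, 0, 0, 2, 2, 0, -2, 0, 0, 0, 0, 0, 0, 0, 0]
set_option maxRecDepth 100000 in
theorem x_k44_p0_p4_cond : LeechCond x_k44_p0_p4 0 := by decide +kernel
set_option maxRecDepth 100000 in
theorem y_k44_p0_p4_cond : LeechCond y_k44_p0_p4 0 := by decide +kernel
def X_k44_p0_p4 : leechLattice := ⟨x_k44_p0_p4, mem_of_leechCond x_k44_p0_p4_cond⟩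
def Y_k44_p0_p4 : leechLattice := ⟨y_k44_p0_p4, mem_of_leechCond y_k44_p0_p4_cond⟩
set_option maxRecDepth 100000 in
theorem g1_k44_p0_p4 : ∀ p, (∑ j, coef x_k44_p0_p4 j * g1W j p) = y_k44_p0_p4 p := by
  unfold coef dotInt; decide +kernel
set_option maxRecDepth 100000 in
theorem x_k44_p0_p4_facts : sqNorm x_k44_p0_p4 = 32 ∧ (∀ i, x_k44_p0_p4 i % 4 = 0) ∧ x_k44_p0_p4 pa = 0 ∧ x_k44_p0_p4 pb = 4 := by
  unfold sqNorm; decide +kernel
set_option maxRecDepth 100000 in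
theorem y_k44_p0_p4_facts : sqNorm y_k44_p0_p4 = 32 ∧ ((∀ i, y_k44_p0_p4 i % 2 = 0) ∧ (∃ i, y_k44_p0_p4 i % 4 = 2)) ∧ y_k44_p0_p4 pa = -2 ∧ y_k44_p0_p4 pb = 2 := by
  unfold sqNorm; decide +kernel
theorem to_base_k44_p0_p4 (w : leechLattice) (hn : sqNorm (w : Vec) = 32) (hk : ∀ i, (w : Vec) i % 4 = 0)
    (ea : (w : Vec) pa = 0) (eb : (w : Vec) pb = 4) : ConjV w BASE :=
  (conjV_44 w X_k44_p0_p4 hn hk x_k44_p0_p4_facts.1 x_k44_p0_p4_facts.2.1 (ea.trans x_k44_p0_p4_facts.2.2.1.symm) (eb.trans x_k44_p0_p4_facts.2.2.2.symm)).trans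
    ((conjV_g1 (x := X_k44_p0_p4) (y := Y_k44_p0_p4) g1_k44_p0_p4).trans
      (to_base_k28_m2_p2 Y_k44_p0_p4 y_k44_p0_p4_facts.1 y_k44_p0_p4_facts.2.1 y_k44_p0_p4_facts.2.2.1 y_k44_p0_p4_facts.2.2.2))

def x_kodd_m3_p1 : Vec := vecOfList [-3, 1, -1, -1, 1, 1, 1, 1, 1, 1, 1, 1, 1, 1, 1, -1, 1, -1, 1, -1, -1, -1, 1, -1]
def y_kodd_m3_p1 : Vec := vecOfList [-2, 2, 2, 0, 0, 0, 2, 2, 0, 0, 0, 0, 0, 0, 0, 0, 0, 0, 0, -2, 0, -2, 0, -2]
set_option maxRecDepth 100000 in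
theorem x_kodd_m3_p1_cond : LeechCond x_kodd_m3_p1 1 := by decide +kernel
set_option maxRecDepth 100000 in
theorem y_kodd_m3_p1_cond : LeechCond y_kodd_m3_p1 0 := by decide +kernel
def X_kodd_m3_p1 : leechLattice := ⟨x_kodd_m3_p1, mem_of_leechCond x_kodd_m3_p1_cond⟩
def Y_kodd_m3_p1 : leechLattice := ⟨y_kodd_m3_p1, mem_of_leechCond y_kodd_m3_p1_cond⟩
set_option maxRecDepth 100000 in
theorem g1_kodd_m3_p1 : ∀ p, (∑ j, coef x_kodd_m3_p1 j * g1W j p) = y_kodd_m3_p1 p := by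
  unfold coef dotInt; decide +kernel
set_option maxRecDepth 100000 in
theorem x_kodd_m3_p1_facts : sqNorm x_kodd_m3_p1 = 32 ∧ x_kodd_m3_p1 none % 2 = 1 ∧ x_kodd_m3_p1 pa = -3 ∧ x_kodd_m3_p1 pb = 1 := by
  unfold sqNorm; decide +kernel
set_option maxRecDepth 100000 in
theorem y_kodd_m3_p1_facts : sqNorm y_kodd_m3_p1 = 32 ∧ ((∀ i, y_kodd_m3_p1 i % 2 = 0) ∧ (∃ i, y_kodd_m3_p1 i % 4 = 2)) ∧ y_kodd_m3_p1 pa = -2 ∧ y_kodd_m3_p1 pb = 2 := by
  unfold sqNorm; decide +kernel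
theorem to_base_kodd_m3_p1 (w : leechLattice) (hn : sqNorm (w : Vec) = 32) (hk : (w : Vec) none % 2 = 1)
    (ea : (w : Vec) pa = -3) (eb : (w : Vec) pb = 1) : ConjV w BASE :=
  (conjV_31 w X_kodd_m3_p1 hn hk x_kodd_m3_p1_facts.1 x_kodd_m3_p1_facts.2.1 (ea.trans x_kodd_m3_p1_facts.2.2.1.symm) (eb.trans x_kodd_m3_p1_facts.2.2.2.symm)).trans
    ((conjV_g1 (x := X_kodd_m3_p1) (y := Y_kodd_m3_p1) g1_kodd_m3_p1).trans
      (to_base_k28_m2_p2 Y_kodd_m3_p1 y_kodd_m3_p1_facts.1 y_kodd_m3_p1_facts.2.1 y_kodd_m3_p1_facts.2.2.1 y_kodd_m3_p1_facts.2.2.2))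

def x_kodd_m1_p3 : Vec := vecOfList [-1, 3, 1, 1, 1, 1, 1, 1, 1, 1, 1, 1, 1, -1, 1, -1, 1, -1, -1, -1, 1, 1, 1, -1]
def y_kodd_m1_p3 : Vec := vecOfList [-2, 2, 0, 0, 0, 0, 0, 0, 0, 0, 0, 0, 0, 2, 0, -2, 0, -2, -2, -2, 0, 0, 0, -2]
set_option maxRecDepth 100000 in
theorem x_kodd_m1_p3_cond : LeechCond x_kodd_m1_p3 1 := by decide +kernel
set_option maxRecDepth 100000 in
theorem y_kodd_m1_p3_cond : LeechCond y_kodd_m1_p3 0 := by decide +kernel
def X_kodd_m1_p3 : leechLattice := ⟨x_kodd_m1_p3, mem_of_leechCond x_kodd_m1_p3_cond⟩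
def Y_kodd_m1_p3 : leechLattice := ⟨y_kodd_m1_p3, mem_of_leechCond y_kodd_m1_p3_cond⟩
set_option maxRecDepth 100000 in
theorem g1_kodd_m1_p3 : ∀ p, (∑ j, coef x_kodd_m1_p3 j * g1W j p) = y_kodd_m1_p3 p := by
  unfold coef dotInt; decide +kernel
set_option maxRecDepth 100000 in
theorem x_kodd_m1_p3_facts : sqNorm x_kodd_m1_p3 = 32 ∧ x_kodd_m1_p3 none % 2 = 1 ∧ x_kodd_m1_p3 pa = -1 ∧ x_kodd_m1_p3 pb = 3 := by
  unfold sqNorm; decide +kernel
set_option maxRecDepth 100000 in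
theorem y_kodd_m1_p3_facts : sqNorm y_kodd_m1_p3 = 32 ∧ ((∀ i, y_kodd_m1_p3 i % 2 = 0) ∧ (∃ i, y_kodd_m1_p3 i % 4 = 2)) ∧ y_kodd_m1_p3 pa = -2 ∧ y_kodd_m1_p3 pb = 2 := by
  unfold sqNorm; decide +kernel
theorem to_base_kodd_m1_p3 (w : leechLattice) (hn : sqNorm (w : Vec) = 32) (hk : (w : Vec) none % 2 = 1)
    (ea : (w : Vec) pa = -1) (eb : (w : Vec) pb = 3) : ConjV w BASE :=
  (conjV_31 w X_kodd_m1_p3 hn hk x_kodd_m1_p3_facts.1 x_kodd_m1_p3_facts.2.1 (ea.trans x_kodd_m1_p3_facts.2.2.1.symm) (eb.trans x_kodd_m1_p3_facts.2.2.2.symm)).trans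
    ((conjV_g1 (x := X_kodd_m1_p3) (y := Y_kodd_m1_p3) g1_kodd_m1_p3).trans
      (to_base_k28_m2_p2 Y_kodd_m1_p3 y_kodd_m1_p3_facts.1 y_kodd_m1_p3_facts.2.1 y_kodd_m1_p3_facts.2.2.1 y_kodd_m1_p3_facts.2.2.2))

/-- all minimal vectors with scalar product -16 with `V0` are conjugate under the stabiliser of `V0` -/
theorem all_conj (w : leechLattice) (hn : sqNorm (w : Vec) = 32) (hd : dotInt v0 (w : Vec) = -16) :
    ConjV w BASE := by
  have hab : 4 * (w : Vec) pa - 4 * (w : Vec) pb = -16 := by rw [← dot_v0]; exact hd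
  obtain ⟨m, hpar, -, -⟩ := mem_data w.2
  rcases Int.emod_two_eq_zero_or_one ((w : Vec) none) with h0 | h1
  · have hev : ∀ i, (w : Vec) i % 2 = 0 := fun i => by rw [hpar i, ← hpar none]; exact h0
    by_cases h2 : ∃ i, (w : Vec) i % 4 = 2
    · obtain ⟨hD, hin, hout⟩ := oct_data w hn hev h2
      have hv : ∀ p, (w : Vec) p = 0 ∨ (w : Vec) p = 2 ∨ (w : Vec) p = -2 := by
        intro p
        by_cases hp : p ∈ cls (w : Vec) 2
        · rcases hin p hp with e | e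
          · exact Or.inr (Or.inl e)
          · exact Or.inr (Or.inr e)
        · exact Or.inl (hout p hp)
      rcases hv pa with ea | ea | ea
      · rcases hv pb with eb | eb | eb
        · exfalso; rw [ea, eb] at hab; norm_num at hab
        · exfalso; rw [ea, eb] at hab; norm_num at hab
        · exfalso; rw [ea, eb] at hab; norm_num at hab
      · rcases hv pb with eb | eb | eb
        · exfalso; rw [ea, eb] at hab; norm_num at hab
        · exfalso; rw [ea, eb] at hab; norm_num at hab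
        · exfalso; rw [ea, eb] at hab; norm_num at hab
      · rcases hv pb with eb | eb | eb
        · exfalso; rw [ea, eb] at hab; norm_num at hab
        · exact to_base_k28_m2_p2 w hn ⟨hev, h2⟩ ea eb
        · exfalso; rw [ea, eb] at hab; norm_num at hab
    · have h4 : ∀ i, (w : Vec) i % 4 = 0 := by
        intro i
        have h1 := hev i
        have h3 : ¬ (w : Vec) i % 4 = 2 := fun h => h2 ⟨i, h⟩
        omega
      obtain ⟨i, j, hij, hi, hj, hk⟩ := shape_44 h4 hn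
      have hv : ∀ p, (w : Vec) p = 0 ∨ (w : Vec) p = 4 ∨ (w : Vec) p = -4 := by
        intro p
        by_cases hpi : p = i
        · rw [hpi]; rcases hi with e | e
          · exact Or.inr (Or.inl e)
          · exact Or.inr (Or.inr e)
        · by_cases hpj : p = j
          · rw [hpj]; rcases hj with e | e
            · exact Or.inr (Or.inl e)
            · exact Or.inr (Or.inr e)
          · exact Or.inl (hk p hpi hpj)
      rcases hv pa with ea | ea | ea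
      · rcases hv pb with eb | eb | eb
        · exfalso; rw [ea, eb] at hab; norm_num at hab
        · exact to_base_k44_p0_p4 w hn h4 ea eb
        · exfalso; rw [ea, eb] at hab; norm_num at hab
      · rcases hv pb with eb | eb | eb
        · exfalso; rw [ea, eb] at hab; norm_num at hab
        · exfalso; rw [ea, eb] at hab; norm_num at hab
        · exfalso; rw [ea, eb] at hab; norm_num at hab
      · rcases hv pb with eb | eb | eb
        · exact to_base_k44_m4_p0 w hn h4 ea eb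
        · exfalso; rw [ea, eb] at hab; norm_num at hab
        · exfalso; rw [ea, eb] at hab; norm_num at hab
  · obtain ⟨hall, k0, hk0, hwk⟩ := odd_data w hn h1
    have hv : ∀ p, (w : Vec) p = 1 ∨ (w : Vec) p = -1 ∨ (w : Vec) p = 3 ∨ (w : Vec) p = -3 := by
      intro p
      by_cases hp : p = k0
      · rw [hp]; rcases hk0 with e | e
        · exact Or.inr (Or.inr (Or.inl e))
        · exact Or.inr (Or.inr (Or.inr e))
      · rcases hwk p hp with e | e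
        · exact Or.inl e
        · exact Or.inr (Or.inl e)
    have h33 : ¬ (((w : Vec) pa = 3 ∨ (w : Vec) pa = -3) ∧ ((w : Vec) pb = 3 ∨ (w : Vec) pb = -3)) := by
      rintro ⟨h3a, h3b⟩
      have e1 : pa = k0 := by
        by_contra hne
        rcases hwk pa hne with e | e <;> rcases h3a with e' | e' <;> rw [e] at e' <;> norm_num at e'
      have e2 : pb = k0 := by
        by_contra hne
        rcases hwk pb hne with e | e <;> rcases h3b with e' | e' <;> rw [e] at e' <;> norm_num at e'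
      exact pa_ne_pb (e1.trans e2.symm)
    rcases hv pa with ea | ea | ea | ea
    · rcases hv pb with eb | eb | eb | eb
      · exfalso; rw [ea, eb] at hab; norm_num at hab
      · exfalso; rw [ea, eb] at hab; norm_num at hab
      · exfalso; rw [ea, eb] at hab; norm_num at hab
      · exfalso; rw [ea, eb] at hab; norm_num at hab
    · rcases hv pb with eb | eb | eb | eb
      · exfalso; rw [ea, eb] at hab; norm_num at hab
      · exfalso; rw [ea, eb] at hab; norm_num at hab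
      · exact to_base_kodd_m1_p3 w hn h1 ea eb
      · exfalso; rw [ea, eb] at hab; norm_num at hab
    · rcases hv pb with eb | eb | eb | eb
      · exfalso; rw [ea, eb] at hab; norm_num at hab
      · exfalso; rw [ea, eb] at hab; norm_num at hab
      · exfalso; rw [ea, eb] at hab; norm_num at hab
      · exfalso; rw [ea, eb] at hab; norm_num at hab
    · rcases hv pb with eb | eb | eb | eb
      · exact to_base_kodd_m3_p1 w hn h1 ea eb
      · exfalso; rw [ea, eb] at hab; norm_num at hab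
      · exfalso; rw [ea, eb] at hab; norm_num at hab
      · exfalso; rw [ea, eb] at hab; norm_num at hab

end d16

/-! ### Scalar product -8 with `V0` -/

namespace d8

def bvecE : Vec := vecOfList [-2, 0, 2, 0, 0, 0, 0, 0, 0, 0, 0, 0, 0, 2, 2, -2, 2, 2, 0, 0, 2, 0, 0, 0]
set_option maxRecDepth 100000 in
theorem bvecE_cond : LeechCond bvecE 0 := by decide +kernel
def BASE : leechLattice := ⟨bvecE, mem_of_leechCond bvecE_cond⟩
set_option maxRecDepth 100000 in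
theorem base_facts : sqNorm bvecE = 32 ∧ ((∀ i, bvecE i % 2 = 0) ∧ (∃ i, bvecE i % 4 = 2)) ∧ bvecE pa = -2 ∧ bvecE pb = 0 := by
  unfold sqNorm; decide +kernel

theorem to_base_k28_m2_p0 (w : leechLattice) (hn : sqNorm (w : Vec) = 32) (hk : (∀ i, (w : Vec) i % 2 = 0) ∧ (∃ i, (w : Vec) i % 4 = 2))
    (ea : (w : Vec) pa = -2) (eb : (w : Vec) pb = 0) : ConjV w BASE :=
  conjV_28 w BASE hn hk.1 hk.2 base_facts.1 base_facts.2.1.1 base_facts.2.1.2 (ea.trans base_facts.2.2.1.symm) (eb.trans base_facts.2.2.2.symm)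

def x_k28_p0_p2 : Vec := vecOfList [0, 2, 0, 2, 0, 0, 0, 0, 0, 0, 0, 0, 0, 0, 2, 2, 2, 2, 2, 0, 0, 2, 0, 0]
def y_k28_p0_p2 : Vec := vecOfList [-2, 0, 0, 0, 0, 0, -2, -2, -2, -2, 0, -2, 0, 0, 0, 0, 0, 0, 0, 0, -2, 0, 0, -2]
set_option maxRecDepth 100000 in
theorem x_k28_p0_p2_cond : LeechCond x_k28_p0_p2 0 := by decide +kernel
set_option maxRecDepth 100000 in
theorem y_k28_p0_p2_cond : LeechCond y_k28_p0_p2 0 := by decide +kernel
def X_k28_p0_p2 : leechLattice := ⟨x_k28_p0_p2, mem_of_leechCond x_k28_p0_p2_cond⟩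
def Y_k28_p0_p2 : leechLattice := ⟨y_k28_p0_p2, mem_of_leechCond y_k28_p0_p2_cond⟩
set_option maxRecDepth 100000 in
theorem g1_k28_p0_p2 : ∀ p, (∑ j, coef x_k28_p0_p2 j * g1W j p) = y_k28_p0_p2 p := by
  unfold coef dotInt; decide +kernel
set_option maxRecDepth 100000 in
theorem x_k28_p0_p2_facts : sqNorm x_k28_p0_p2 = 32 ∧ ((∀ i, x_k28_p0_p2 i % 2 = 0) ∧ (∃ i, x_k28_p0_p2 i % 4 = 2)) ∧ x_k28_p0_p2 pa = 0 ∧ x_k28_p0_p2 pb = 2 := by
  unfold sqNorm; decide +kernel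
set_option maxRecDepth 100000 in
theorem y_k28_p0_p2_facts : sqNorm y_k28_p0_p2 = 32 ∧ ((∀ i, y_k28_p0_p2 i % 2 = 0) ∧ (∃ i, y_k28_p0_p2 i % 4 = 2)) ∧ y_k28_p0_p2 pa = -2 ∧ y_k28_p0_p2 pb = 0 := by
  unfold sqNorm; decide +kernel
theorem to_base_k28_p0_p2 (w : leechLattice) (hn : sqNorm (w : Vec) = 32) (hk : (∀ i, (w : Vec) i % 2 = 0) ∧ (∃ i, (w : Vec) i % 4 = 2))
    (ea : (w : Vec) pa = 0) (eb : (w : Vec) pb = 2) : ConjV w BASE :=
  (conjV_28 w X_k28_p0_p2 hn hk.1 hk.2 x_k28_p0_p2_facts.1 x_k28_p0_p2_facts.2.1.1 x_k28_p0_p2_facts.2.1.2 (ea.trans x_k28_p0_p2_facts.2.2.1.symm) (eb.trans x_k28_p0_p2_facts.2.2.2.symm)).trans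
    ((conjV_g1 (x := X_k28_p0_p2) (y := Y_k28_p0_p2) g1_k28_p0_p2).trans
      (to_base_k28_m2_p0 Y_k28_p0_p2 y_k28_p0_p2_facts.1 y_k28_p0_p2_facts.2.1 y_k28_p0_p2_facts.2.2.1 y_k28_p0_p2_facts.2.2.2))

def x_kodd_m3_m1 : Vec := vecOfList [-3, -1, -1, 1, 1, 1, 1, 1, 1, 1, 1, 1, 1, 1, -1, 1, -1, 1, -1, -1, -1, 1, 1, -1]
def y_kodd_m3_m1 : Vec := vecOfList [-2, 0, 2, 0, 0, 0, 2, 0, 0, 0, 0, 2, 0, 0, 0, 2, 0, 0, -2, -2, -2, 0, 0, 0]
set_option maxRecDepth 100000 in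
theorem x_kodd_m3_m1_cond : LeechCond x_kodd_m3_m1 1 := by decide +kernel
set_option maxRecDepth 100000 in
theorem y_kodd_m3_m1_cond : LeechCond y_kodd_m3_m1 0 := by decide +kernel
def X_kodd_m3_m1 : leechLattice := ⟨x_kodd_m3_m1, mem_of_leechCond x_kodd_m3_m1_cond⟩
def Y_kodd_m3_m1 : leechLattice := ⟨y_kodd_m3_m1, mem_of_leechCond y_kodd_m3_m1_cond⟩
set_option maxRecDepth 100000 in
theorem g1_kodd_m3_m1 : ∀ p, (∑ j, coef x_kodd_m3_m1 j * g1W j p) = y_kodd_m3_m1 p := by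
  unfold coef dotInt; decide +kernel
set_option maxRecDepth 100000 in
theorem x_kodd_m3_m1_facts : sqNorm x_kodd_m3_m1 = 32 ∧ x_kodd_m3_m1 none % 2 = 1 ∧ x_kodd_m3_m1 pa = -3 ∧ x_kodd_m3_m1 pb = -1 := by
  unfold sqNorm; decide +kernel
set_option maxRecDepth 100000 in
theorem y_kodd_m3_m1_facts : sqNorm y_kodd_m3_m1 = 32 ∧ ((∀ i, y_kodd_m3_m1 i % 2 = 0) ∧ (∃ i, y_kodd_m3_m1 i % 4 = 2)) ∧ y_kodd_m3_m1 pa = -2 ∧ y_kodd_m3_m1 pb = 0 := by
  unfold sqNorm; decide +kernel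
theorem to_base_kodd_m3_m1 (w : leechLattice) (hn : sqNorm (w : Vec) = 32) (hk : (w : Vec) none % 2 = 1)
    (ea : (w : Vec) pa = -3) (eb : (w : Vec) pb = -1) : ConjV w BASE :=
  (conjV_31 w X_kodd_m3_m1 hn hk x_kodd_m3_m1_facts.1 x_kodd_m3_m1_facts.2.1 (ea.trans x_kodd_m3_m1_facts.2.2.1.symm) (eb.trans x_kodd_m3_m1_facts.2.2.2.symm)).trans
    ((conjV_g1 (x := X_kodd_m3_m1) (y := Y_kodd_m3_m1) g1_kodd_m3_m1).trans
      (to_base_k28_m2_p0 Y_kodd_m3_m1 y_kodd_m3_m1_facts.1 y_kodd_m3_m1_facts.2.1 y_kodd_m3_m1_facts.2.2.1 y_kodd_m3_m1_facts.2.2.2))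

def x_kodd_m1_p1 : Vec := vecOfList [-1, 1, -3, -1, 1, 1, 1, 1, 1, 1, 1, 1, 1, -1, -1, 1, -1, 1, 1, -1, 1, -1, 1, -1]
def y_kodd_m1_p1 : Vec := vecOfList [-2, 0, 2, -2, 0, -2, 0, 0, 0, 0, 0, 2, -2, 0, 0, 0, 0, 0, 0, -2, 0, -2, 0, 0]
set_option maxRecDepth 100000 in
theorem x_kodd_m1_p1_cond : LeechCond x_kodd_m1_p1 1 := by decide +kernel
set_option maxRecDepth 100000 in
theorem y_kodd_m1_p1_cond : LeechCond y_kodd_m1_p1 0 := by decide +kernel
def X_kodd_m1_p1 : leechLattice := ⟨x_kodd_m1_p1, mem_of_leechCond x_kodd_m1_p1_cond⟩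
def Y_kodd_m1_p1 : leechLattice := ⟨y_kodd_m1_p1, mem_of_leechCond y_kodd_m1_p1_cond⟩
set_option maxRecDepth 100000 in
theorem g1_kodd_m1_p1 : ∀ p, (∑ j, coef x_kodd_m1_p1 j * g1W j p) = y_kodd_m1_p1 p := by
  unfold coef dotInt; decide +kernel
set_option maxRecDepth 100000 in
theorem x_kodd_m1_p1_facts : sqNorm x_kodd_m1_p1 = 32 ∧ x_kodd_m1_p1 none % 2 = 1 ∧ x_kodd_m1_p1 pa = -1 ∧ x_kodd_m1_p1 pb = 1 := by
  unfold sqNorm; decide +kernel
set_option maxRecDepth 100000 in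
theorem y_kodd_m1_p1_facts : sqNorm y_kodd_m1_p1 = 32 ∧ ((∀ i, y_kodd_m1_p1 i % 2 = 0) ∧ (∃ i, y_kodd_m1_p1 i % 4 = 2)) ∧ y_kodd_m1_p1 pa = -2 ∧ y_kodd_m1_p1 pb = 0 := by
  unfold sqNorm; decide +kernel
theorem to_base_kodd_m1_p1 (w : leechLattice) (hn : sqNorm (w : Vec) = 32) (hk : (w : Vec) none % 2 = 1)
    (ea : (w : Vec) pa = -1) (eb : (w : Vec) pb = 1) : ConjV w BASE :=
  (conjV_31 w X_kodd_m1_p1 hn hk x_kodd_m1_p1_facts.1 x_kodd_m1_p1_facts.2.1 (ea.trans x_kodd_m1_p1_facts.2.2.1.symm) (eb.trans x_kodd_m1_p1_facts.2.2.2.symm)).trans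
    ((conjV_g1 (x := X_kodd_m1_p1) (y := Y_kodd_m1_p1) g1_kodd_m1_p1).trans
      (to_base_k28_m2_p0 Y_kodd_m1_p1 y_kodd_m1_p1_facts.1 y_kodd_m1_p1_facts.2.1 y_kodd_m1_p1_facts.2.2.1 y_kodd_m1_p1_facts.2.2.2))

def x_kodd_p1_p3 : Vec := vecOfList [1, 3, -1, 1, 1, 1, 1, 1, 1, 1, 1, 1, 1, 1, -1, 1, -1, 1, -1, -1, -1, 1, 1, -1]
def y_kodd_p1_p3 : Vec := vecOfList [-2, 0, 2, 0, 0, 0, -2, 0, 0, 0, 0, 2, 0, 0, 0, -2, 0, 0, -2, -2, -2, 0, 0, 0]
set_option maxRecDepth 100000 in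
theorem x_kodd_p1_p3_cond : LeechCond x_kodd_p1_p3 1 := by decide +kernel
set_option maxRecDepth 100000 in
theorem y_kodd_p1_p3_cond : LeechCond y_kodd_p1_p3 0 := by decide +kernel
def X_kodd_p1_p3 : leechLattice := ⟨x_kodd_p1_p3, mem_of_leechCond x_kodd_p1_p3_cond⟩
def Y_kodd_p1_p3 : leechLattice := ⟨y_kodd_p1_p3, mem_of_leechCond y_kodd_p1_p3_cond⟩
set_option maxRecDepth 100000 in
theorem g1_kodd_p1_p3 : ∀ p, (∑ j, coef x_kodd_p1_p3 j * g1W j p) = y_kodd_p1_p3 p := by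
  unfold coef dotInt; decide +kernel
set_option maxRecDepth 100000 in
theorem x_kodd_p1_p3_facts : sqNorm x_kodd_p1_p3 = 32 ∧ x_kodd_p1_p3 none % 2 = 1 ∧ x_kodd_p1_p3 pa = 1 ∧ x_kodd_p1_p3 pb = 3 := by
  unfold sqNorm; decide +kernel
set_option maxRecDepth 100000 in
theorem y_kodd_p1_p3_facts : sqNorm y_kodd_p1_p3 = 32 ∧ ((∀ i, y_kodd_p1_p3 i % 2 = 0) ∧ (∃ i, y_kodd_p1_p3 i % 4 = 2)) ∧ y_kodd_p1_p3 pa = -2 ∧ y_kodd_p1_p3 pb = 0 := by
  unfold sqNorm; decide +kernel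
theorem to_base_kodd_p1_p3 (w : leechLattice) (hn : sqNorm (w : Vec) = 32) (hk : (w : Vec) none % 2 = 1)
    (ea : (w : Vec) pa = 1) (eb : (w : Vec) pb = 3) : ConjV w BASE :=
  (conjV_31 w X_kodd_p1_p3 hn hk x_kodd_p1_p3_facts.1 x_kodd_p1_p3_facts.2.1 (ea.trans x_kodd_p1_p3_facts.2.2.1.symm) (eb.trans x_kodd_p1_p3_facts.2.2.2.symm)).trans
    ((conjV_g1 (x := X_kodd_p1_p3) (y := Y_kodd_p1_p3) g1_kodd_p1_p3).trans
      (to_base_k28_m2_p0 Y_kodd_p1_p3 y_kodd_p1_p3_facts.1 y_kodd_p1_p3_facts.2.1 y_kodd_p1_p3_facts.2.2.1 y_kodd_p1_p3_facts.2.2.2))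

/-- all minimal vectors with scalar product -8 with `V0` are conjugate under the stabiliser of `V0` -/
theorem all_conj (w : leechLattice) (hn : sqNorm (w : Vec) = 32) (hd : dotInt v0 (w : Vec) = -8) :
    ConjV w BASE := by
  have hab : 4 * (w : Vec) pa - 4 * (w : Vec) pb = -8 := by rw [← dot_v0]; exact hd
  obtain ⟨m, hpar, -, -⟩ := mem_data w.2
  rcases Int.emod_two_eq_zero_or_one ((w : Vec) none) with h0 | h1
  · have hev : ∀ i, (w : Vec) i % 2 = 0 := fun i => by rw [hpar i, ← hpar none]; exact h0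
    by_cases h2 : ∃ i, (w : Vec) i % 4 = 2
    · obtain ⟨hD, hin, hout⟩ := oct_data w hn hev h2
      have hv : ∀ p, (w : Vec) p = 0 ∨ (w : Vec) p = 2 ∨ (w : Vec) p = -2 := by
        intro p
        by_cases hp : p ∈ cls (w : Vec) 2
        · rcases hin p hp with e | e
          · exact Or.inr (Or.inl e)
          · exact Or.inr (Or.inr e)
        · exact Or.inl (hout p hp)
      rcases hv pa with ea | ea | ea
      · rcases hv pb with eb | eb | eb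
        · exfalso; rw [ea, eb] at hab; norm_num at hab
        · exact to_base_k28_p0_p2 w hn ⟨hev, h2⟩ ea eb
        · exfalso; rw [ea, eb] at hab; norm_num at hab
      · rcases hv pb with eb | eb | eb
        · exfalso; rw [ea, eb] at hab; norm_num at hab
        · exfalso; rw [ea, eb] at hab; norm_num at hab
        · exfalso; rw [ea, eb] at hab; norm_num at hab
      · rcases hv pb with eb | eb | eb
        · exact to_base_k28_m2_p0 w hn ⟨hev, h2⟩ ea eb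
        · exfalso; rw [ea, eb] at hab; norm_num at hab
        · exfalso; rw [ea, eb] at hab; norm_num at hab
    · have h4 : ∀ i, (w : Vec) i % 4 = 0 := by
        intro i
        have h1 := hev i
        have h3 : ¬ (w : Vec) i % 4 = 2 := fun h => h2 ⟨i, h⟩
        omega
      obtain ⟨i, j, hij, hi, hj, hk⟩ := shape_44 h4 hn
      have hv : ∀ p, (w : Vec) p = 0 ∨ (w : Vec) p = 4 ∨ (w : Vec) p = -4 := by
        intro p
        by_cases hpi : p = i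
        · rw [hpi]; rcases hi with e | e
          · exact Or.inr (Or.inl e)
          · exact Or.inr (Or.inr e)
        · by_cases hpj : p = j
          · rw [hpj]; rcases hj with e | e
            · exact Or.inr (Or.inl e)
            · exact Or.inr (Or.inr e)
          · exact Or.inl (hk p hpi hpj)
      rcases hv pa with ea | ea | ea
      · rcases hv pb with eb | eb | eb
        · exfalso; rw [ea, eb] at hab; norm_num at hab
        · exfalso; rw [ea, eb] at hab; norm_num at hab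
        · exfalso; rw [ea, eb] at hab; norm_num at hab
      · rcases hv pb with eb | eb | eb
        · exfalso; rw [ea, eb] at hab; norm_num at hab
        · exfalso; rw [ea, eb] at hab; norm_num at hab
        · exfalso; rw [ea, eb] at hab; norm_num at hab
      · rcases hv pb with eb | eb | eb
        · exfalso; rw [ea, eb] at hab; norm_num at hab
        · exfalso; rw [ea, eb] at hab; norm_num at hab
        · exfalso; rw [ea, eb] at hab; norm_num at hab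
  · obtain ⟨hall, k0, hk0, hwk⟩ := odd_data w hn h1
    have hv : ∀ p, (w : Vec) p = 1 ∨ (w : Vec) p = -1 ∨ (w : Vec) p = 3 ∨ (w : Vec) p = -3 := by
      intro p
      by_cases hp : p = k0
      · rw [hp]; rcases hk0 with e | e
        · exact Or.inr (Or.inr (Or.inl e))
        · exact Or.inr (Or.inr (Or.inr e))
      · rcases hwk p hp with e | e
        · exact Or.inl e
        · exact Or.inr (Or.inl e)
    have h33 : ¬ (((w : Vec) pa = 3 ∨ (w : Vec) pa = -3) ∧ ((w : Vec) pb = 3 ∨ (w : Vec) pb = -3)) := by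
      rintro ⟨h3a, h3b⟩
      have e1 : pa = k0 := by
        by_contra hne
        rcases hwk pa hne with e | e <;> rcases h3a with e' | e' <;> rw [e] at e' <;> norm_num at e'
      have e2 : pb = k0 := by
        by_contra hne
        rcases hwk pb hne with e | e <;> rcases h3b with e' | e' <;> rw [e] at e' <;> norm_num at e'
      exact pa_ne_pb (e1.trans e2.symm)
    rcases hv pa with ea | ea | ea | ea
    · rcases hv pb with eb | eb | eb | eb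
      · exfalso; rw [ea, eb] at hab; norm_num at hab
      · exfalso; rw [ea, eb] at hab; norm_num at hab
      · exact to_base_kodd_p1_p3 w hn h1 ea eb
      · exfalso; rw [ea, eb] at hab; norm_num at hab
    · rcases hv pb with eb | eb | eb | eb
      · exact to_base_kodd_m1_p1 w hn h1 ea eb
      · exfalso; rw [ea, eb] at hab; norm_num at hab
      · exfalso; rw [ea, eb] at hab; norm_num at hab
      · exfalso; rw [ea, eb] at hab; norm_num at hab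
    · rcases hv pb with eb | eb | eb | eb
      · exfalso; rw [ea, eb] at hab; norm_num at hab
      · exfalso; rw [ea, eb] at hab; norm_num at hab
      · exfalso; rw [ea, eb] at hab; norm_num at hab
      · exfalso; rw [ea, eb] at hab; norm_num at hab
    · rcases hv pb with eb | eb | eb | eb
      · exfalso; rw [ea, eb] at hab; norm_num at hab
      · exact to_base_kodd_m3_m1 w hn h1 ea eb
      · exfalso; rw [ea, eb] at hab; norm_num at hab
      · exfalso; rw [ea, eb] at hab; norm_num at hab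

end d8

end Cfsg.Agent.Lib.Conway
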