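import Cfsg.Agent.Lib.Conway.Co2Fuse

set_option autoImplicit false

/-!
The stabiliser of a minimal vector is transitive on the minimal vectors having scalar product
`0`, `-16` or `-8` with it.
-/

namespace Cfsg.Agent.Lib.Conway

open Cfsg Cfsg.Agent.Lib.Helper93.Leech Cfsg.Agent.Lib.Helper93.Golay
open scoped Pointwise

set_option maxRecDepth 100000 in
theorem sqNorm_v0 : sqNorm v0 = 32 := by unfold sqNorm; decide +kernel

/-- reduction of the transitivity of the stabiliser of an arbitrary minimal vector to that of `V0` -/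
theorem stab_trans (d : ℤ) (B : leechLattice)
    (hall : ∀ w : leechLattice, sqNorm (w : Vec) = 32 → dotInt v0 (w : Vec) = d → ConjV w B)
    (v w w' : leechLattice) (hv : sqNorm (v : Vec) = 32) (hw : sqNorm (w : Vec) = 32)
    (hw' : sqNorm (w' : Vec) = 32) (hd : dotInt (v : Vec) (w : Vec) = d)
    (hd' : dotInt (v : Vec) (w' : Vec) = d) : ∃ g : Co0, g • v = v ∧ g • w = w' := by
  obtain ⟨g0, hg0⟩ := trans4 v V0 hv sqNorm_v0
  have h1 : ConjV (g0 • w) B := by
    apply hall
    · rw [co0_norm]; exact hw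
    · have := co0_dot g0 v w
      rw [hg0] at this
      rw [← hd]
      exact this
  have h2 : ConjV (g0 • w') B := by
    apply hall
    · rw [co0_norm]; exact hw'
    · have := co0_dot g0 v w'
      rw [hg0] at this
      rw [← hd']
      exact this
  obtain ⟨h, hV, hww⟩ := h1.trans h2.symm
  have hinv : g0⁻¹ • V0 = v := by rw [inv_smul_eq_iff, hg0]
  refine ⟨g0⁻¹ * h * g0, ?_, ?_⟩
  · rw [mul_smul, mul_smul, hg0, hV, hinv]
  · rw [mul_smul, mul_smul, hww, inv_smul_smul]

theorem stab_trans_d0 (v w w' : leechLattice) (hv : sqNorm (v : Vec) = 32)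
    (hw : sqNorm (w : Vec) = 32) (hw' : sqNorm (w' : Vec) = 32) (hd : dotInt (v : Vec) (w : Vec) = 0)
    (hd' : dotInt (v : Vec) (w' : Vec) = 0) : ∃ g : Co0, g • v = v ∧ g • w = w' :=
  stab_trans 0 d0.BASE d0.all_conj v w w' hv hw hw' hd hd'

theorem stab_trans_d16 (v w w' : leechLattice) (hv : sqNorm (v : Vec) = 32)
    (hw : sqNorm (w : Vec) = 32) (hw' : sqNorm (w' : Vec) = 32)
    (hd : dotInt (v : Vec) (w : Vec) = -16) (hd' : dotInt (v : Vec) (w' : Vec) = -16) :
    ∃ g : Co0, g • v = v ∧ g • w = w' :=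
  stab_trans (-16) d16.BASE d16.all_conj v w w' hv hw hw' hd hd'

theorem stab_trans_d8 (v w w' : leechLattice) (hv : sqNorm (v : Vec) = 32)
    (hw : sqNorm (w : Vec) = 32) (hw' : sqNorm (w' : Vec) = 32)
    (hd : dotInt (v : Vec) (w : Vec) = -8) (hd' : dotInt (v : Vec) (w' : Vec) = -8) :
    ∃ g : Co0, g • v = v ∧ g • w = w' :=
  stab_trans (-8) d8.BASE d8.all_conj v w w' hv hw hw' hd hd'

end Cfsg.Agent.Lib.Conway
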