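import Cfsg.Agent.Lib.Conway.Co2Tools

set_option autoImplicit false

/-!
Normal forms of the minimal vectors under the monomial part of the stabiliser of `V0`: two minimal
vectors of the same kind with the same coordinates at the two base points are conjugate.
-/

namespace Cfsg.Agent.Lib.Conway

open Cfsg Cfsg.Agent.Lib.Helper93.Leech Cfsg.Agent.Lib.Helper93.Golay
open scoped Pointwise

/-! ### Kind `(4, 4, 0^22)` -/

/-- canonical vector of kind `(4, 4, 0^22)` with prescribed values at the base points -/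
def canon44 (α β : ℤ) : Vec := fun k =>
  if k = pa then α else if k = pb then β
  else if k = P 2 then (if α ≠ 0 ∧ β ≠ 0 then 0 else 4)
  else if k = P 3 then (if α = 0 ∧ β = 0 then 4 else 0) else 0

theorem P2_ne_pa : P 2 ≠ pa := by decide
theorem P2_ne_pb : P 2 ≠ pb := by decide
theorem P3_ne_pa : P 3 ≠ pa := by decide
theorem P3_ne_pb : P 3 ≠ pb := by decide
theorem P3_ne_P2 : P 3 ≠ P 2 := by decide

theorem norm44_aux (w : leechLattice) (i j : GolayPt) (hij : i ≠ j)
    (hi : (w : Vec) i = 4 ∨ (w : Vec) i = -4) (hj : (w : Vec) j = 4 ∨ (w : Vec) j = -4)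
    (hk : ∀ k, k ≠ i → k ≠ j → (w : Vec) k = 0)
    (hcase : (i = pa ∧ j = pb) ∨ (i = pa ∧ j ≠ pb) ∨ (i = pb ∧ j ≠ pa) ∨
      (i ≠ pa ∧ i ≠ pb ∧ j ≠ pa ∧ j ≠ pb)) :
    ∃ w1 : leechLattice, ConjV w w1 ∧ (w1 : Vec) = canon44 ((w : Vec) pa) ((w : Vec) pb) := by
  have hi0 : (w : Vec) i ≠ 0 := by rcases hi with h | h <;> rw [h] <;> norm_num
  have hj0 : (w : Vec) j ≠ 0 := by rcases hj with h | h <;> rw [h] <;> norm_num
  rcases hcase with ⟨rfl, rfl⟩ | ⟨rfl, hjb⟩ | ⟨rfl, hja⟩ | ⟨hia, hib, hja, hjb⟩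
  · -- both base points
    refine ⟨w, ConjV.refl w, ?_⟩
    funext k
    unfold canon44
    by_cases h1 : k = pa
    · rw [if_pos h1, h1]
    · by_cases h2 : k = pb
      · rw [if_neg h1, if_pos h2, h2]
      · rw [if_neg h1, if_neg h2, hk k h1 h2]
        have hR2 : (if (w : Vec) pa ≠ 0 ∧ (w : Vec) pb ≠ 0 then (0 : ℤ) else 4) = 0 :=
          if_pos ⟨hi0, hj0⟩
        have hR3 : (if (w : Vec) pa = 0 ∧ (w : Vec) pb = 0 then (4 : ℤ) else 0) = 0 :=
          if_neg (fun h => hi0 h.1)
        rw [hR2, hR3]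
        split
        · rfl
        · split <;> rfl
  · -- `pa` and an outer point
    have hja : j ≠ pa := fun h => hij h.symm
    have hwb : (w : Vec) pb = 0 := hk pb pa_ne_pb.symm (fun h => hjb h.symm)
    obtain ⟨σ, hσ, hσa, hσb, hσj⟩ := m24_trans3 pa_ne_pb hja.symm (fun h => hjb h.symm)
      pa_ne_pb P2_ne_pa.symm P2_ne_pb.symm
    obtain ⟨c, hc, hca, hcb, hc2, -⟩ := sepStd ((w : Vec) j = -4) False
    refine ⟨_, conjV_mono σ c hσ hc hσa hσb hca hcb w, ?_⟩
    funext k
    show signedPerm σ c (w : Vec) k = _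
    rw [signedPerm_apply]
    unfold canon44
    by_cases h1 : k = pa
    · rw [if_pos h1, h1, if_neg hca, symm_fix hσa]
    · by_cases h2 : k = pb
      · rw [if_neg h1, if_pos h2, h2, if_neg hcb, symm_fix hσb]
      · rw [if_neg h1, if_neg h2]
        have hR2 : (if (w : Vec) pa ≠ 0 ∧ (w : Vec) pb ≠ 0 then (0 : ℤ) else 4) = 4 :=
          if_neg (fun h => h.2 hwb)
        have hR3 : (if (w : Vec) pa = 0 ∧ (w : Vec) pb = 0 then (4 : ℤ) else 0) = 0 :=
          if_neg (fun h => hi0 h.1)
        rw [hR2, hR3]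
        by_cases h3 : k = P 2
        · rw [if_pos h3, h3, (symm_eq_iff hσj (P 2)).mpr rfl]
          by_cases h5 : P 2 ∈ c
          · rw [if_pos h5, hc2.mp h5]; norm_num
          · rw [if_neg h5]
            rcases hj with h | h
            · exact h
            · exact absurd (hc2.mpr h) h5
        · have hz : (w : Vec) (σ.symm k) = 0 := by
            apply hk
            · exact fun h => h1 ((symm_eq_iff hσa k).mp h)
            · exact fun h => h3 ((symm_eq_iff hσj k).mp h)
          rw [if_neg h3, hz]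
          split <;> split <;> norm_num
  · -- `pb` and an outer point
    have hjb : j ≠ pb := fun h => hij h.symm
    have hwa : (w : Vec) pa = 0 := hk pa pa_ne_pb (fun h => hja h.symm)
    obtain ⟨σ, hσ, hσa, hσb, hσj⟩ := m24_trans3 pa_ne_pb hja.symm (fun h => hjb h.symm)
      pa_ne_pb P2_ne_pa.symm P2_ne_pb.symm
    obtain ⟨c, hc, hca, hcb, hc2, -⟩ := sepStd ((w : Vec) j = -4) False
    refine ⟨_, conjV_mono σ c hσ hc hσa hσb hca hcb w, ?_⟩
    funext k
    show signedPerm σ c (w : Vec) k = _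
    rw [signedPerm_apply]
    unfold canon44
    by_cases h1 : k = pa
    · rw [if_pos h1, h1, if_neg hca, symm_fix hσa]
    · by_cases h2 : k = pb
      · rw [if_neg h1, if_pos h2, h2, if_neg hcb, symm_fix hσb]
      · rw [if_neg h1, if_neg h2]
        have hR2 : (if (w : Vec) pa ≠ 0 ∧ (w : Vec) pb ≠ 0 then (0 : ℤ) else 4) = 4 :=
          if_neg (fun h => h.1 hwa)
        have hR3 : (if (w : Vec) pa = 0 ∧ (w : Vec) pb = 0 then (4 : ℤ) else 0) = 0 :=
          if_neg (fun h => hi0 h.2)
        rw [hR2, hR3]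
        by_cases h3 : k = P 2
        · rw [if_pos h3, h3, (symm_eq_iff hσj (P 2)).mpr rfl]
          by_cases h5 : P 2 ∈ c
          · rw [if_pos h5, hc2.mp h5]; norm_num
          · rw [if_neg h5]
            rcases hj with h | h
            · exact h
            · exact absurd (hc2.mpr h) h5
        · have hz : (w : Vec) (σ.symm k) = 0 := by
            apply hk
            · exact fun h => h2 ((symm_eq_iff hσb k).mp h)
            · exact fun h => h3 ((symm_eq_iff hσj k).mp h)
          rw [if_neg h3, hz]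
          split <;> split <;> norm_num
  · -- two outer points
    have hwa : (w : Vec) pa = 0 := hk pa (fun h => hia h.symm) (fun h => hja h.symm)
    have hwb : (w : Vec) pb = 0 := hk pb (fun h => hib h.symm) (fun h => hjb h.symm)
    obtain ⟨σ, hσ, hσa, hσb, hσi, hσj⟩ := m24_trans4 pa_ne_pb (fun h => hia h.symm)
      (fun h => hja h.symm) (fun h => hib h.symm) (fun h => hjb h.symm) hij
      pa_ne_pb P2_ne_pa.symm P3_ne_pa.symm P2_ne_pb.symm P3_ne_pb.symm P3_ne_P2.symm
    obtain ⟨c, hc, hca, hcb, hc2, hc3⟩ := sepStd ((w : Vec) i = -4) ((w : Vec) j = -4)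
    refine ⟨_, conjV_mono σ c hσ hc hσa hσb hca hcb w, ?_⟩
    funext k
    show signedPerm σ c (w : Vec) k = _
    rw [signedPerm_apply]
    unfold canon44
    by_cases h1 : k = pa
    · rw [if_pos h1, h1, if_neg hca, symm_fix hσa]
    · by_cases h2 : k = pb
      · rw [if_neg h1, if_pos h2, h2, if_neg hcb, symm_fix hσb]
      · rw [if_neg h1, if_neg h2]
        have hR2 : (if (w : Vec) pa ≠ 0 ∧ (w : Vec) pb ≠ 0 then (0 : ℤ) else 4) = 4 :=
          if_neg (fun h => h.1 hwa)
        have hR3 : (if (w : Vec) pa = 0 ∧ (w : Vec) pb = 0 then (4 : ℤ) else 0) = 4 :=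
          if_pos ⟨hwa, hwb⟩
        rw [hR2, hR3]
        by_cases h3 : k = P 2
        · rw [if_pos h3, h3, (symm_eq_iff hσi (P 2)).mpr rfl]
          by_cases h5 : P 2 ∈ c
          · rw [if_pos h5, hc2.mp h5]; norm_num
          · rw [if_neg h5]
            rcases hi with h | h
            · exact h
            · exact absurd (hc2.mpr h) h5
        · rw [if_neg h3]
          by_cases h4 : k = P 3
          · rw [if_pos h4, h4, (symm_eq_iff hσj (P 3)).mpr rfl]
            by_cases h5 : P 3 ∈ c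
            · rw [if_pos h5, hc3.mp h5]; norm_num
            · rw [if_neg h5]
              rcases hj with h | h
              · exact h
              · exact absurd (hc3.mpr h) h5
          · have hz : (w : Vec) (σ.symm k) = 0 := by
              apply hk
              · exact fun h => h3 ((symm_eq_iff hσi k).mp h)
              · exact fun h => h4 ((symm_eq_iff hσj k).mp h)
            rw [if_neg h4, hz]
            split <;> norm_num

theorem norm44 (w : leechLattice) (hn : sqNorm (w : Vec) = 32) (h4 : ∀ i, (w : Vec) i % 4 = 0) :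
    ∃ w1 : leechLattice, ConjV w w1 ∧ (w1 : Vec) = canon44 ((w : Vec) pa) ((w : Vec) pb) := by
  obtain ⟨i, j, hij, hi, hj, hk⟩ := shape_44 h4 hn
  have hk' : ∀ k, k ≠ j → k ≠ i → (w : Vec) k = 0 := fun k h1 h2 => hk k h2 h1
  by_cases hia : i = pa
  · by_cases hjb : j = pb
    · exact norm44_aux w i j hij hi hj hk (Or.inl ⟨hia, hjb⟩)
    · exact norm44_aux w i j hij hi hj hk (Or.inr (Or.inl ⟨hia, hjb⟩))
  · by_cases hib : i = pb
    · by_cases hja : j = pa
      · exact norm44_aux w j i hij.symm hj hi hk' (Or.inl ⟨hja, hib⟩)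
      · exact norm44_aux w i j hij hi hj hk (Or.inr (Or.inr (Or.inl ⟨hib, hja⟩)))
    · by_cases hja : j = pa
      · exact norm44_aux w j i hij.symm hj hi hk' (Or.inr (Or.inl ⟨hja, hib⟩))
      · by_cases hjb : j = pb
        · exact norm44_aux w j i hij.symm hj hi hk' (Or.inr (Or.inr (Or.inl ⟨hjb, hia⟩)))
        · exact norm44_aux w i j hij hi hj hk (Or.inr (Or.inr (Or.inr ⟨hia, hib, hja, hjb⟩)))

/-- two minimal vectors of kind `(4, 4, 0^22)` with the same coordinates at the base points are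
conjugate -/
theorem conjV_44 (w r : leechLattice) (hw : sqNorm (w : Vec) = 32) (hw4 : ∀ i, (w : Vec) i % 4 = 0)
    (hr : sqNorm (r : Vec) = 32) (hr4 : ∀ i, (r : Vec) i % 4 = 0)
    (ha : (w : Vec) pa = (r : Vec) pa) (hb : (w : Vec) pb = (r : Vec) pb) : ConjV w r := by
  obtain ⟨w1, hw1, e1⟩ := norm44 w hw hw4
  obtain ⟨r1, hr1, e2⟩ := norm44 r hr hr4
  have : w1 = r1 := Subtype.ext (by rw [e1, e2, ha, hb])
  rw [this] at hw1
  exact hw1.trans hr1.symm

end Cfsg.Agent.Lib.Conway
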