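import Cfsg.Agent.Lib.Conway.Co2Norm

set_option autoImplicit false

/-!
Normal forms under the monomial part of the stabiliser of `V0`, kinds `(2^8, 0^16)` and
`(3, 1^23)`.
-/

namespace Cfsg.Agent.Lib.Conway

open Cfsg Cfsg.Agent.Lib.Helper93.Leech Cfsg.Agent.Lib.Helper93.Golay
open scoped Pointwise

/-! ### Kind `(2^8, 0^16)` -/

theorem oct_data (w : leechLattice) (hn : sqNorm (w : Vec) = 32) (hpar : ∀ i, (w : Vec) i % 2 = 0)
    (h2 : ∃ i, (w : Vec) i % 4 = 2) :
    cls (w : Vec) 2 ∈ octads ∧ (∀ i ∈ cls (w : Vec) 2, (w : Vec) i = 2 ∨ (w : Vec) i = -2) ∧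
      ∀ i, i ∉ cls (w : Vec) 2 → (w : Vec) i = 0 := by
  obtain ⟨m, -, -, hcls⟩ := mem_data w.2
  have hD : cls (w : Vec) 2 ∈ CS := hcls 2
  obtain ⟨i2, hi2⟩ := h2
  have hDne : i2 ∈ cls (w : Vec) 2 := by rw [mem_cls]; omega
  have hle := four_card_cls_le (w : Vec)
  rw [hn] at hle
  have hDcard : (cls (w : Vec) 2).card = 8 := by
    rcases card_of_mem_supports hD with h | h | h | h | h
    · rw [Finset.card_eq_zero] at h
      rw [h] at hDne
      simp at hDne
    · exact h
    · rw [h] at hle; norm_num at hle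
    · rw [h] at hle; norm_num at hle
    · rw [h] at hle; norm_num at hle
  obtain ⟨hin, hout⟩ := shape_2n hpar (by rw [hn, hDcard]; norm_num)
  exact ⟨⟨hD, hDcard⟩, hin, hout⟩

theorem sum_mod_eight_even (w : leechLattice) (k0 : GolayPt) (h : (w : Vec) k0 % 2 = 0) :
    (∑ k, (w : Vec) k) % 8 = 0 := by
  obtain ⟨m, hpar, hsum, -⟩ := mem_data w.2
  have hm : m % 2 = 0 := by rw [← hpar k0]; exact h
  omega

/-- move the octad of a vector of kind `(2^8, 0^16)` to the root octad of its type -/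
theorem norm28 (w : leechLattice) (hn : sqNorm (w : Vec) = 32) (hpar : ∀ i, (w : Vec) i % 2 = 0)
    (h2 : ∃ i, (w : Vec) i % 4 = 2) :
    ∃ w1 : leechLattice, ConjV w w1 ∧ (w1 : Vec) pa = (w : Vec) pa ∧ (w1 : Vec) pb = (w : Vec) pb ∧
      (∀ k ∈ fset (octRoot (decide ((w : Vec) pa ≠ 0)) (decide ((w : Vec) pb ≠ 0))),
        (w1 : Vec) k = 2 ∨ (w1 : Vec) k = -2) ∧
      ∀ k, k ∉ fset (octRoot (decide ((w : Vec) pa ≠ 0)) (decide ((w : Vec) pb ≠ 0))) →
        (w1 : Vec) k = 0 := by
  obtain ⟨hD, hin, hout⟩ := oct_data w hn hpar h2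
  have hmem : ∀ p, p ∈ cls (w : Vec) 2 ↔ (w : Vec) p ≠ 0 := by
    intro p
    constructor
    · intro hp
      rcases hin p hp with e | e <;> rw [e] <;> norm_num
    · intro hp
      by_contra hnot
      exact hp (hout p hnot)
  obtain ⟨σ, hσ, hσa, hσb, hσD⟩ := exists_map_root _ hD
  have e1 : decide (pa ∈ cls (w : Vec) 2) = decide ((w : Vec) pa ≠ 0) := by
    simp only [hmem pa]
  have e2 : decide (pb ∈ cls (w : Vec) 2) = decide ((w : Vec) pb ≠ 0) := by
    simp only [hmem pb]
  rw [e1, e2] at hσD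
  have hmemO : ∀ k, k ∈ fset (octRoot (decide ((w : Vec) pa ≠ 0)) (decide ((w : Vec) pb ≠ 0))) ↔
      σ.symm k ∈ cls (w : Vec) 2 := by
    intro k
    rw [← hσD, Finset.mem_smul_finset]
    constructor
    · rintro ⟨y, hy, rfl⟩
      simpa [Equiv.Perm.smul_def] using hy
    · intro h
      exact ⟨σ.symm k, h, by simp [Equiv.Perm.smul_def]⟩
  have hval : ∀ k, signedPerm σ ∅ (w : Vec) k = (w : Vec) (σ.symm k) := by
    intro k
    rw [signedPerm_apply]
    simp
  refine ⟨_, conjV_mono σ ∅ hσ empty_mem_supports hσa hσb (by simp) (by simp) w, ?_, ?_, ?_, ?_⟩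
  · show signedPerm σ ∅ (w : Vec) pa = _
    rw [hval, symm_fix hσa]
  · show signedPerm σ ∅ (w : Vec) pb = _
    rw [hval, symm_fix hσb]
  · intro k hk
    show signedPerm σ ∅ (w : Vec) k = 2 ∨ signedPerm σ ∅ (w : Vec) k = -2
    rw [hval]
    exact hin _ ((hmemO k).mp hk)
  · intro k hk
    show signedPerm σ ∅ (w : Vec) k = 0
    rw [hval]
    exact hout _ (fun h => hk ((hmemO k).mpr h))

/-- two minimal vectors of kind `(2^8, 0^16)` with the same coordinates at the base points are
conjugate -/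
theorem conjV_28 (w r : leechLattice) (hw : sqNorm (w : Vec) = 32)
    (hwpar : ∀ i, (w : Vec) i % 2 = 0) (hw2 : ∃ i, (w : Vec) i % 4 = 2)
    (hr : sqNorm (r : Vec) = 32) (hrpar : ∀ i, (r : Vec) i % 2 = 0)
    (hr2 : ∃ i, (r : Vec) i % 4 = 2)
    (ha : (w : Vec) pa = (r : Vec) pa) (hb : (w : Vec) pb = (r : Vec) pb) : ConjV w r := by
  obtain ⟨w1, hw1, hw1a, hw1b, hw1in, hw1out⟩ := norm28 w hw hwpar hw2
  obtain ⟨r1, hr1, hr1a, hr1b, hr1in, hr1out⟩ := norm28 r hr hrpar hr2
  rw [← ha, ← hb] at hr1in hr1out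
  set ta : Bool := decide ((w : Vec) pa ≠ 0) with hta
  set tb : Bool := decide ((w : Vec) pb ≠ 0) with htb
  set O : Finset GolayPt := fset (octRoot ta tb) with hO
  have hab1 : (w1 : Vec) pa = (r1 : Vec) pa := by rw [hw1a, hr1a, ha]
  have hbb1 : (w1 : Vec) pb = (r1 : Vec) pb := by rw [hw1b, hr1b, hb]
  set M : Finset GolayPt := O.filter (fun k => (w1 : Vec) k ≠ (r1 : Vec) k) with hM
  have hMsub : M ⊆ O := Finset.filter_subset _ _
  have hMa : pa ∉ M := fun h => (Finset.mem_filter.mp h).2 hab1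
  have hMb : pb ∉ M := fun h => (Finset.mem_filter.mp h).2 hbb1
  have hev : Even M.card := by
    have hs1 := sum_mod_eight_even w1 pa (by rw [hw1a]; exact hwpar pa)
    have hs2 := sum_mod_eight_even r1 pa (by rw [hr1a]; exact hrpar pa)
    have hpt : ∀ k, ((w1 : Vec) k - (r1 : Vec) k) % 8 = (if k ∈ M then (4 : ℤ) else 0) % 8 := by
      intro k
      by_cases hk : k ∈ O
      · by_cases hkM : k ∈ M
        · rw [if_pos hkM]
          have hne := (Finset.mem_filter.mp hkM).2
          rcases hw1in k hk with e | e <;> rcases hr1in k hk with e' | e' <;> rw [e, e'] at hne ⊢ <;>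
            first | exact absurd rfl hne | norm_num
        · rw [if_neg hkM]
          have : (w1 : Vec) k = (r1 : Vec) k := by
            by_contra hne
            exact hkM (Finset.mem_filter.mpr ⟨hk, hne⟩)
          rw [this]; norm_num
      · rw [if_neg (fun h => hk (hMsub h)), hw1out k hk, hr1out k hk]; norm_num
    have hsum1 : (∑ k, ((w1 : Vec) k - (r1 : Vec) k)) % 8 =
        (∑ k, (if k ∈ M then (4 : ℤ) else 0)) % 8 := by
      rw [Finset.sum_int_mod, Finset.sum_congr rfl (fun k _ => hpt k), ← Finset.sum_int_mod]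
    rw [Finset.sum_sub_distrib, Finset.sum_ite_mem, Finset.univ_inter, Finset.sum_const] at hsum1
    simp only [nsmul_eq_mul] at hsum1
    rw [Nat.even_iff]
    omega
  obtain ⟨c, hc, hca, hcb, hcM⟩ := exists_sign_root ta tb M hMsub hMa hMb hev
  have h3 : ConjV w1 r1 := by
    refine (conjV_mono 1 c M24.one_mem hc rfl rfl hca hcb w1).trans (conjV_of_eq ?_)
    funext k
    show signedPerm 1 c (w1 : Vec) k = (r1 : Vec) k
    rw [signedPerm_apply, one_symm]
    by_cases hk : k ∈ O
    · by_cases hkM : k ∈ M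
      · rw [if_pos ((hcM k hk).mpr hkM)]
        have hne := (Finset.mem_filter.mp hkM).2
        rcases hw1in k hk with e | e <;> rcases hr1in k hk with e' | e' <;> rw [e, e'] at hne ⊢ <;>
          first | exact absurd rfl hne | norm_num
      · rw [if_neg (fun h => hkM ((hcM k hk).mp h))]
        by_contra hne
        exact hkM (Finset.mem_filter.mpr ⟨hk, hne⟩)
    · rw [hw1out k hk, hr1out k hk]
      split <;> norm_num
  exact hw1.trans (h3.trans hr1.symm)

/-! ### Kind `(3, 1^23)` -/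

theorem odd_data (w : leechLattice) (hn : sqNorm (w : Vec) = 32) (hodd : (w : Vec) none % 2 = 1) :
    (∀ i, (w : Vec) i % 2 = 1) ∧ ∃ k0, ((w : Vec) k0 = 3 ∨ (w : Vec) k0 = -3) ∧
      ∀ k, k ≠ k0 → ((w : Vec) k = 1 ∨ (w : Vec) k = -1) := by
  obtain ⟨m, hpar, -, hcls⟩ := mem_data w.2
  have hall : ∀ i, (w : Vec) i % 2 = 1 := fun i => by rw [hpar i, ← hpar none]; exact hodd
  refine ⟨hall, ?_⟩
  set y : Vec := signedPerm 1 (cls (w : Vec) 1)ᶜ (w : Vec) with hy
  have hyv : ∀ i, y i = (w : Vec) i ∨ y i = -(w : Vec) i := by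
    intro i
    rw [hy, signedPerm_apply, one_symm]
    split
    · right; rfl
    · left; rfl
  have hy4 : ∀ i, y i % 4 = 1 := by
    intro i
    rw [hy, signedPerm_apply, one_symm]
    have := hall i
    by_cases hi : i ∈ (cls (w : Vec) 1)ᶜ
    · rw [if_pos hi]
      rw [Finset.mem_compl, mem_cls] at hi
      omega
    · rw [if_neg hi]
      rw [Finset.mem_compl, not_not, mem_cls] at hi
      omega
  have hyn : sqNorm y = 32 := by
    rw [hy, sqNorm_signedPerm]; exact hn
  obtain ⟨i0, h3, hone⟩ := shape_31 hy4 hyn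
  refine ⟨i0, ?_, fun k hk => ?_⟩
  · rcases hyv i0 with e | e <;> rw [e] at h3 <;> omega
  · have := hone k hk
    rcases hyv k with e | e <;> rw [e] at this <;> omega

/-- two minimal vectors of kind `(3, 1^23)` with the same coordinates at the base points are
conjugate -/
theorem conjV_31 (w r : leechLattice) (hw : sqNorm (w : Vec) = 32) (hwodd : (w : Vec) none % 2 = 1)
    (hr : sqNorm (r : Vec) = 32) (hrodd : (r : Vec) none % 2 = 1)
    (ha : (w : Vec) pa = (r : Vec) pa) (hb : (w : Vec) pb = (r : Vec) pb) : ConjV w r := by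
  obtain ⟨hwall, k0, hk0, hwk⟩ := odd_data w hw hwodd
  obtain ⟨hrall, k0', hk0', hrk⟩ := odd_data r hr hrodd
  -- a permutation fixing the base points and matching the positions of the `3`
  obtain ⟨σ, hσ, hσa, hσb, hσk⟩ : ∃ σ ∈ M24, σ pa = pa ∧ σ pb = pb ∧ σ k0 = k0' := by
    by_cases h1 : k0 = pa
    · have : k0' = pa := by
        by_contra hne
        have := hrk pa (fun h => hne h.symm)
        rw [← ha, ← h1] at this
        rcases hk0 with e | e <;> rw [e] at this <;> omega
      exact ⟨1, M24.one_mem, rfl, rfl, by rw [h1, this]; rfl⟩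
    · by_cases h2 : k0 = pb
      · have : k0' = pb := by
          by_contra hne
          have := hrk pb (fun h => hne h.symm)
          rw [← hb, ← h2] at this
          rcases hk0 with e | e <;> rw [e] at this <;> omega
        exact ⟨1, M24.one_mem, rfl, rfl, by rw [h2, this]; rfl⟩
      · have h1' : k0' ≠ pa := by
          intro h
          have := hwk pa (fun e => h1 e.symm)
          rw [ha, ← h] at this
          rcases hk0' with e | e <;> rw [e] at this <;> omega
        have h2' : k0' ≠ pb := by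
          intro h
          have := hwk pb (fun e => h2 e.symm)
          rw [hb, ← h] at this
          rcases hk0' with e | e <;> rw [e] at this <;> omega
        exact m24_trans3 pa_ne_pb (fun e => h1 e.symm) (fun e => h2 e.symm) pa_ne_pb
          (fun e => h1' e.symm) (fun e => h2' e.symm)
  set w1 : leechLattice :=
    ⟨signedPerm σ ∅ w, signedPerm_mem hσ empty_mem_supports w.2⟩ with hw1
  have h1 : ConjV w w1 :=
    conjV_mono σ ∅ hσ empty_mem_supports hσa hσb (by simp) (by simp) w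
  have hval : ∀ k, (w1 : Vec) k = (w : Vec) (σ.symm k) := by
    intro k
    show signedPerm σ ∅ (w : Vec) k = _
    rw [signedPerm_apply]
    simp
  have hw1a : (w1 : Vec) pa = (r : Vec) pa := by rw [hval, symm_fix hσa, ha]
  have hw1b : (w1 : Vec) pb = (r : Vec) pb := by rw [hval, symm_fix hσb, hb]
  have habs : ∀ k, ((w1 : Vec) k = (r : Vec) k ∨ (w1 : Vec) k = -(r : Vec) k) ∧
      (w1 : Vec) k % 2 = 1 := by
    intro k
    rw [hval]
    refine ⟨?_, hwall _⟩
    by_cases hk : k = k0'
    · rw [hk, (symm_eq_iff hσk k0').mpr rfl]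
      rcases hk0 with e | e <;> rcases hk0' with e' | e' <;> rw [e, e'] <;> norm_num
    · have h1 := hwk (σ.symm k) (fun e => hk ((symm_eq_iff hσk k).mp e))
      have h2 := hrk k hk
      rcases h1 with e | e <;> rcases h2 with e' | e' <;> rw [e, e'] <;> norm_num
  obtain ⟨m1, -, -, hcls1⟩ := mem_data w1.2
  obtain ⟨m2, -, -, hcls2⟩ := mem_data r.2
  set c : Finset GolayPt := symmDiff (cls (w1 : Vec) 1) (cls (r : Vec) 1) with hc
  have hcC : c ∈ CS := symmDiff_mem_supports (hcls1 1) (hcls2 1)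
  have hmemc : ∀ k, k ∈ c ↔ (w1 : Vec) k ≠ (r : Vec) k := by
    intro k
    rw [hc, Finset.mem_symmDiff, mem_cls, mem_cls]
    obtain ⟨h1, h2⟩ := habs k
    constructor
    · rintro (⟨e1, e2⟩ | ⟨e1, e2⟩) e
      · rw [e] at e1; exact e2 e1
      · rw [e] at e2; exact e2 e1
    · intro hne
      rcases h1 with e | e
      · exact absurd e hne
      · rw [e] at h2 ⊢
        omega
  have hca : pa ∉ c := fun h => (hmemc pa).mp h hw1a
  have hcb : pb ∉ c := fun h => (hmemc pb).mp h hw1b
  refine h1.trans ((conjV_mono 1 c M24.one_mem hcC rfl rfl hca hcb w1).trans (conjV_of_eq ?_))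
  funext k
  show signedPerm 1 c (w1 : Vec) k = (r : Vec) k
  rw [signedPerm_apply, one_symm]
  by_cases hk : k ∈ c
  · rw [if_pos hk]
    have hne := (hmemc k).mp hk
    rcases (habs k).1 with e | e
    · exact absurd e hne
    · rw [e]; ring
  · rw [if_neg hk]
    by_contra hne
    exact hk ((hmemc k).mpr hne)

end Cfsg.Agent.Lib.Conway
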