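import Cfsg.Agent.Lib.Conway.Co2Base
import Cfsg.Agent.Lib.Helper93.EncAction
import Cfsg.Agent.Lib.Helper93.Enum

set_option autoImplicit false

/-!
The pointwise stabiliser of the two base points in `M24` is transitive on the octads of each of the
four types (according to which of the base points they contain).
-/

namespace Cfsg.Agent.Lib.Conway

open Cfsg Cfsg.Agent.Lib.Helper93.Leech Cfsg.Agent.Lib.Helper93.Golay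
open scoped Pointwise

/-- the octads of a given type, as masks -/
def octTy (ta tb : Bool) : List ℕ :=
  octList.filter fun m => (m.testBit 0 == ta) && (m.testBit 1 == tb)

def octRootTT : ℕ := 5279
def octWordsTT : List (List ℕ) := [[], [1, 1, 0, 0, 0], [0, 1, 0, 1, 1, 1, 0, 0, 0], [1, 1, 0, 1, 0, 0], [1, 0, 1, 1, 1, 0, 0, 0], [0, 0, 1, 0, 0, 0, 1, 0], [1, 0, 0, 1, 1, 0, 0], [0, 0, 0, 1, 1, 0, 0, 0], [1, 0, 1, 0, 0, 0], [1, 0, 0, 1, 1, 0], [0, 0], [1, 1, 1, 0], [0, 1, 1, 1, 0, 0, 0], [0, 1, 1, 0, 0], [0, 1, 0, 0], [1, 0, 1, 1, 0], [0, 0, 1, 0, 0, 1, 0, 0], [0, 1, 0, 0, 0, 1, 0, 0], [1, 0, 0, 0, 1, 1, 0], [1, 1, 0, 1, 0, 0, 0], [1, 0, 0, 1, 0, 0], [0, 0, 1, 1, 1, 0, 0, 0], [0], [0, 1, 0, 0, 1, 1, 0,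 0, 0], [1, 1, 0, 0, 0, 0, 1, 0], [0, 1, 1, 0], [0, 0, 1, 0, 1, 0, 0, 0], [1, 0, 0, 0, 1, 0], [0, 1, 0, 1, 0, 1, 0], [0, 1, 0, 1, 0, 0], [1, 0, 0, 1, 1, 0, 0, 0], [1, 0, 1, 0, 0], [0, 0, 1, 1, 0, 0], [0, 1, 0, 1, 0], [0, 1, 0, 0, 1, 1, 0, 0], [0, 0, 1, 1, 0, 0, 0], [0, 0, 0, 1, 0, 1, 0], [0, 0, 1, 0, 0], [1, 0, 0, 0], [1, 0, 1, 0, 1, 0], [0, 0, 0, 1, 0], [0, 1, 0, 0, 0, 1, 0], [0, 0, 0], [1, 0, 1, 0], [1, 0, 1, 0, 1, 0, 0, 0], [0, 0, 1, 1, 0], [1, 1, 0, 0, 0, 1, 0, 0], [0, 1, 0, 1, 0, 0, 1, 1, 0], [1, 0, 0, 0, 0, 1, 0], [1, 1, 1, 0, 1, 0, 1, 0], [0, 1, 0, 0, 0], [1, 1, 0], [0, 1, 0, 0, 1, 1, 0], [1, 1, 1, 0, 1, 1, 0], [0, 0, 1, 0], [0, 0, 0, 1, 1, 0], [0, 0, 1, 0, 1, 0, 0], [0, 1, 1, 0, 0, 0], [1, 1, 0,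 1, 0, 1, 0], [1, 0], [0, 0, 0, 1, 0, 0], [0, 1, 0, 1, 1, 0], [0, 1, 1, 1, 0, 1, 1, 0], [0, 0, 0, 1, 0, 1, 0, 0], [0, 1, 0], [0, 1, 0, 0, 1, 0, 0], [0, 0, 0, 0, 1, 0], [1, 1, 1, 0, 0, 0], [1, 0, 0], [1, 0, 1, 0, 0, 1, 1, 0], [1, 1, 1, 0, 1, 0, 0, 0], [1, 1, 0, 1, 1, 0], [0, 1, 0, 1, 0, 0, 0], [1, 0, 0, 0, 1, 0, 0], [1, 1, 0, 0], [0, 1, 1, 1, 0], [0, 0, 1, 0, 1, 0]]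

def octRootTF : ℕ := 15777
def octWordsTF : List (List ℕ) := [[], [0, 0, 0, 1, 0, 1, 1, 1], [1, 1, 0, 0, 1, 1, 0], [1, 0, 1, 0, 0, 1], [0, 1, 0, 0, 0, 1, 0, 1], [1, 0, 1], [1, 0, 0, 1, 0, 1, 0, 1], [0, 1, 1], [0, 1, 0, 1, 1, 0, 1, 1, 0], [1, 0, 0, 0, 0, 1, 1, 0, 0], [0], [0, 0, 0, 0, 1, 1], [0, 0, 0, 1], [0, 0, 1, 1, 0, 0, 0, 0, 1], [0, 0, 1, 1], [0, 1, 0, 0, 0, 1, 0, 1, 0], [1, 1, 1], [1, 1, 1, 0, 1, 1], [0, 1, 1, 0, 0, 1], [0, 0, 0, 1, 0, 0, 1, 0], [0, 0, 0, 0, 0, 0, 1], [0, 1, 0, 1, 1, 0, 0], [0, 1, 0, 0, 0, 1], [0, 0, 0, 1, 1, 1], [0, 0, 0, 1, 0, 1], [1, 0, 1, 1, 0, 1, 0], [1, 0, 0, 1, 0, 0, 1, 0], [0, 0, 0, 0, 0, 1], [1, 0, 1, 1, 0, 0, 1], [0, 1, 1, 1, 0, 0, 0], [0, 1, 0, 0, 1], [0, 1, 1, 0, 1,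 0], [1, 1, 1, 0], [0, 0, 0, 1, 1, 0, 0], [0, 1, 0, 1, 0, 1, 1, 0, 0], [0, 1, 0, 0, 0, 1, 1, 0], [1, 0, 0, 0, 1, 0, 1], [0, 1, 0, 1, 0, 0, 1], [0, 0, 0, 1, 0, 1, 1, 0], [0, 0, 1, 0, 0, 1, 0], [0, 0, 0, 0, 1, 1, 0, 0], [1, 0, 1, 1, 1], [1, 1, 0, 0, 0, 0, 1], [0, 1, 1, 0], [0, 0], [1, 1, 0, 1, 1, 1], [1, 0, 0, 0, 1, 1, 0], [0, 1], [1, 0, 1, 1, 0, 1, 1, 0], [0, 0, 0, 0, 1, 0], [1, 1, 0, 1, 0, 1], [0, 1, 0], [0, 0, 0, 1, 1, 0], [1, 1, 0, 0, 1, 1, 0, 0], [1, 0, 0, 1, 1], [0, 0, 0, 0, 0, 0, 0, 0], [0, 1, 0, 1, 1, 0, 1, 0], [1, 0, 0, 0, 1, 0, 1, 1, 0], [0, 1, 0, 0, 1, 1], [0, 0, 1], [1, 0, 1, 0, 0, 1, 0], [1, 0, 0, 1, 1, 0], [1, 0, 0, 1, 1, 0, 0], [1, 1, 0, 0, 0, 1, 0, 1, 0], [0, 0, 1, 0, 1, 1, 0], [0, 1, 1,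 0, 1, 1, 0], [0, 0, 1, 0, 1, 1, 1], [1, 0, 0, 0, 0, 1, 0], [1, 0, 1, 0, 0, 0], [0, 0, 1, 0, 1, 0, 1], [1, 1, 1, 0, 0, 1], [0, 0, 1, 0, 1, 0, 0, 1, 0], [0, 1, 1, 0, 0, 1, 1, 0], [0, 0, 0, 0, 0, 0, 0], [1, 0, 0], [0, 0, 1, 1, 0, 0, 1, 1, 0], [1, 0, 0, 1, 0], [1, 0, 1, 1, 0, 0, 0, 0, 0], [1, 0, 1, 0, 1, 1, 0, 0], [1, 0, 0, 0, 0, 1, 1], [0, 1, 1, 0, 0, 0, 1, 0], [0, 1, 0, 0, 1, 0], [0, 1, 1, 1, 0, 1, 1, 0, 0], [1, 0, 0, 1, 0, 1], [1, 1, 1, 0, 0, 1, 1], [0, 1, 0, 0, 1, 1, 0, 0], [1, 1, 0], [1, 0, 0, 0, 0, 1, 1, 0], [0, 0, 1, 0], [1, 1, 0, 0, 0, 1, 0], [1, 1, 1, 0, 1, 1, 0], [1, 0, 0, 0], [0, 0, 1, 1, 0, 0], [0, 1, 1, 0, 1, 1, 0, 0], [1, 1, 0, 1, 1, 0, 0, 0, 1, 0], [1, 0, 1, 0, 1, 0, 1], [1, 0, 0, 0, 1, 0,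 1, 0], [1, 0, 0, 0, 0, 0], [0, 0, 0, 0], [0, 1, 1, 1], [0, 1, 0, 1, 0, 0, 1, 0], [1, 0, 1, 0, 1], [0, 1, 1, 0, 0, 0, 0, 1], [1, 1, 1, 0, 0], [1, 1, 1, 0, 0, 0, 1], [0, 1, 0, 0, 0], [1, 0, 1, 1, 1, 0, 0], [1, 0, 1, 1, 1, 0, 1, 1, 0], [0, 0, 0, 1, 0, 1, 0, 1], [1, 0, 1, 0, 0], [0, 0, 1, 1, 0], [1, 1, 0, 0, 1], [1, 1, 0, 1, 1], [1, 0, 0, 0, 0, 1], [1, 1, 1, 0, 1, 1, 0, 0], [1, 1], [0, 0, 0, 0, 0, 0], [0, 0, 0, 1, 1], [0, 0, 1, 1, 0, 0, 1], [0, 1, 1, 0, 0, 0, 0, 0], [0, 0, 0, 0, 1, 0, 1], [0, 0, 1, 1, 0, 0, 0, 0, 0], [0, 0, 1, 1, 0, 1, 1, 0], [1, 0, 0, 1, 0, 1, 1, 0], [1, 1, 0, 1, 1, 0, 1, 0], [1, 0, 0, 1], [1, 0, 1, 0], [0, 0, 0, 0, 1, 1, 0], [1, 1, 1, 0, 0, 0, 1, 0], [0, 1, 1, 1, 0, 0], [0, 0, 0, 0, 0,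 1, 1], [1, 1, 0, 0, 0], [0, 1, 1, 0, 0, 0, 1], [1, 0, 1, 1, 0], [1, 1, 0, 0, 1, 1], [1, 0, 1, 1], [0, 0, 0, 1, 0, 1, 0], [0, 1, 1, 0, 0], [0, 1, 0, 1, 0], [1, 0, 1, 0, 1, 0, 1, 1, 0, 0], [1, 1, 1, 0, 1, 1, 1], [0, 0, 1, 1, 1], [0, 0, 1, 0, 1, 1, 0, 0], [0, 1, 0, 0], [0, 1, 0, 0, 1, 0, 0, 1, 0], [1, 0, 1, 0, 0, 1, 1, 0, 0], [0, 0, 0, 0, 0, 1, 0, 1], [1, 1, 0, 0], [1], [1, 1, 0, 0, 1, 0], [1, 0, 1, 0, 0, 0, 1], [1, 0], [0, 1, 0, 1, 0, 1], [1, 1, 0, 0, 0, 0, 0], [0, 1, 0, 0, 0, 0, 1, 0], [0, 1, 0, 1, 1, 0], [0, 0, 1, 0, 1], [1, 0, 0, 0, 1], [0, 1, 0, 1], [1, 0, 1, 1, 0, 0, 0, 1, 0], [0, 0, 0, 1, 0], [1, 1, 0, 0, 0, 1], [0, 1, 0, 1, 1, 1], [1, 0, 1, 1, 0, 0], [1, 0, 0, 1, 0, 1, 1, 0, 0], [0, 0, 0, 0, 0],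 [0, 0, 0], [0, 0, 1, 0, 1, 0], [1, 0, 0, 0, 1, 0], [0, 0, 0, 0, 1], [1, 1, 0, 1, 0], [1, 1, 0, 1, 1, 0], [0, 1, 1, 1, 0, 1, 1, 0], [1, 1, 0, 1, 1, 0, 0], [1, 1, 1, 0, 0, 0], [1, 1, 1, 0, 0, 1, 0]]

def octRootFT : ℕ := 10558
def octWordsFT : List (List ℕ) := [[], [1, 1, 0, 0, 1, 0], [0, 0, 1, 0, 1, 0, 1, 0, 0], [1, 1, 0, 0, 0, 1, 0, 1], [0, 1, 0, 0, 1, 0], [1, 0, 0, 0, 0, 1, 0, 0], [0, 0, 1, 1], [0, 1, 0, 0, 0, 1, 0, 0], [0, 1, 1, 0, 1, 1], [0, 1, 1, 0], [0, 1, 0, 0, 1, 1, 0], [0, 1, 1, 0, 0, 0, 1, 0, 1], [0, 0, 1, 0, 0, 1, 1, 0], [0, 1, 0, 0, 0], [0, 1, 0, 0, 1], [1, 1, 1], [0, 0, 0, 0, 0, 0], [0, 0, 0, 1, 0, 0, 1], [1, 0, 0, 1, 0, 0, 1], [1, 1, 1, 0, 1], [1, 0, 1, 1], [1, 0, 0, 0, 1, 1, 0, 0], [1, 0,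 0, 0, 0, 0, 0], [1, 1, 1, 0], [0, 1, 0, 1, 0, 1, 0, 0], [0, 0, 0, 0, 0, 1, 1], [0, 1], [0, 1, 1, 0, 1, 1, 0, 1], [1, 0, 1, 1, 0, 1, 0], [1, 0, 0, 0, 1, 0, 1], [1, 1, 1, 0, 1, 0], [0, 1, 1, 0, 0, 1], [1, 0, 0, 0, 0, 0], [0, 1, 1], [0, 0, 0, 0, 1, 0, 1], [0, 0, 1, 0, 1, 1, 0, 0], [0], [1, 0, 0, 1, 0, 1, 0], [1, 0, 1, 1, 0, 1, 1], [1, 0, 0, 0, 0, 0, 1, 1], [0, 0], [1, 0, 0, 0, 1, 1, 0], [1, 1, 1, 0, 0, 0, 1, 0], [1, 0, 0, 0, 0, 0, 0, 0], [1, 0, 0, 1, 0, 0], [1, 0, 1, 0, 0, 0, 0, 0], [0, 0, 0, 0, 1, 0, 1, 0], [1, 1, 0], [0, 0, 0, 0, 1, 0, 0], [1, 0, 1, 0, 1, 0, 1, 0], [0, 0, 0, 1, 1, 1, 0, 1, 0], [0, 0, 0, 0, 0, 1, 0], [1, 0], [1, 0, 0, 1, 1, 0], [1, 0, 1, 0, 0, 1], [0, 1, 0, 0, 1, 0, 1, 0], [0, 1, 0, 0,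 0, 0, 0, 0], [1, 1, 0, 1, 1, 0, 1, 1], [1, 0, 0, 1], [0, 1, 0, 1, 0, 1, 0], [0, 0, 0, 1, 1, 0, 0], [1, 1, 0, 1, 1, 1, 0, 1, 0], [0, 0, 1, 1, 0], [0, 0, 1], [1, 0, 0, 1, 1, 0, 0], [1, 0, 1, 0, 0, 0], [0, 0, 1, 0, 1, 0], [0, 0, 1, 0], [0, 1, 0, 0, 1, 1], [1, 0, 0, 1, 1, 1, 0, 1], [0, 1, 0, 1, 1, 0], [0, 0, 0, 1, 1], [0, 1, 0, 1, 0, 0, 1], [1, 0, 0, 1, 0], [0, 0, 0, 1, 0, 1, 1, 0, 0], [0, 1, 1, 0, 0, 1, 1], [0, 1, 1, 0, 1], [0, 1, 0, 1, 1, 0, 0], [1, 1, 0, 1, 1], [0, 1, 0, 1], [1, 0, 0, 0, 1, 0, 1, 0], [1, 1, 0, 0, 1, 1], [0, 0, 1, 1, 0, 1], [1, 0, 1, 0, 0], [1, 1, 1, 0, 1, 0, 0, 1], [0, 1, 1, 1], [0, 1, 0, 1, 1, 1, 0, 1, 0], [1, 1, 0, 1], [1, 1, 1, 0, 0, 1], [1, 0, 0, 1, 0, 1], [0, 0, 0, 1], [1, 1, 0, 1,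 0, 1, 0, 0], [0, 1, 0, 0, 0, 0, 0], [1, 0, 0, 0, 1, 0, 0], [0, 0, 0, 1, 0, 1], [1, 0, 1, 0, 1, 0], [0, 0, 0, 0, 0], [1, 1, 1, 0, 1, 1, 0, 1], [0, 1, 0, 1, 1, 1], [0, 0, 0, 1, 1, 0], [1, 1, 0, 1, 0, 0, 0, 1], [0, 0, 1, 0, 0, 0], [1, 1, 0, 0], [0, 0, 1, 1, 0, 0, 1], [0, 1, 0, 0, 1, 0, 0, 1], [0, 0, 1, 0, 0], [0, 1, 0, 0, 0, 1], [1, 1, 0, 1, 0], [1, 0, 0, 0, 0, 1, 1], [0, 1, 1, 0, 1, 0], [0, 0, 1, 1, 1, 0, 1], [0, 0, 1, 0, 0, 1], [1, 1, 0, 0, 0, 1, 0], [0, 1, 1, 1, 0, 1], [1, 0, 0, 1, 1, 1], [1, 1], [0, 0, 1, 1, 0, 0], [0, 0, 0, 0, 0, 0, 0], [1, 0, 0, 0], [1, 0, 1, 1, 1, 0, 1, 0], [0, 0, 0, 1, 0], [0, 0, 0, 1, 0, 0], [1, 0, 0, 1, 1], [0, 1, 0, 1, 0, 0], [0, 0, 0, 0, 1, 1], [1, 0, 1, 1, 0], [0, 0, 0, 0, 1,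 1, 0], [1, 0, 1], [1, 0, 0, 0, 1], [1, 0, 0, 1, 0, 0, 0], [0, 1, 1, 0, 0], [0, 0, 0], [1, 0, 1, 0, 1, 1, 1], [0, 0, 1, 1, 1, 0, 1, 0], [1, 0, 1, 1, 0, 1], [1, 1, 0, 1, 0, 0, 1], [0, 1, 0, 1, 1, 0, 1], [0, 0, 0, 0, 1, 0], [0, 0, 1, 0, 1, 0, 0, 0, 1], [0, 0, 0, 0, 0, 1, 0, 1, 0], [0, 0, 1, 0, 0, 1, 0], [0, 1, 0], [1, 0, 0], [0, 0, 1, 1, 1], [1, 0, 1, 1, 1], [0, 0, 1, 0, 1, 0, 0], [0, 0, 1, 0, 0, 1, 0, 0], [0, 1, 0, 0], [1], [0, 0, 0, 0, 0, 1, 0, 1], [0, 0, 0, 1, 0, 1, 0], [1, 0, 1, 0, 0, 1, 1, 0], [1, 1, 0, 1, 0, 0, 0, 0, 0], [1, 0, 1, 0, 0, 0, 1], [0, 1, 0, 1, 0], [1, 1, 0, 0, 1], [1, 1, 0, 0, 1, 0, 1], [1, 0, 0, 1, 0, 0, 1, 1, 0], [1, 0, 0, 0, 1, 1], [1, 0, 0, 1, 1, 0, 1], [1, 1, 0, 0, 0, 1], [0, 1, 0,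 0, 1, 0, 0], [1, 0, 1, 0], [1, 1, 0, 1, 0, 1, 1, 1], [0, 0, 1, 0, 1], [1, 1, 0, 1, 1, 0, 0], [1, 0, 1, 1, 0, 0], [0, 1, 0, 1, 0, 0, 0, 1], [0, 0, 0, 0], [1, 0, 0, 0, 1, 0], [1, 1, 0, 1, 1, 0, 1], [0, 1, 0, 0, 0, 1, 1, 0], [0, 1, 1, 1, 0, 1, 0], [1, 1, 1, 0, 0, 1, 0, 1], [0, 0, 1, 0, 0, 0, 0, 0], [1, 0, 1, 0, 1, 0, 0]]

def octRootFF : ℕ := 21116
def octWordsFF : List (List ℕ) := [[], [1, 1, 0, 0, 0, 0, 0, 0, 0], [1, 0, 0, 1, 0, 1, 0], [1, 0, 1, 1, 0, 0, 1], [0, 1, 0, 1, 0, 0, 1, 1], [1, 0, 0, 1, 0, 1, 1], [0, 1, 0, 1, 1, 0, 0, 0], [0, 1, 0, 1, 1, 1, 0, 0, 0], [1, 1, 0, 0, 1, 1, 0, 1], [1, 0, 1, 0, 1, 0, 1, 0], [0, 0, 1, 1, 0, 0, 1], [1, 1, 1, 0], [1, 1, 0, 0, 1, 1, 1, 0, 0], [1, 0, 0, 0, 1], [0, 0, 0,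 0, 0, 1, 1, 0, 0], [1, 0, 1, 0, 0, 0], [0, 1, 1, 0, 1, 0, 0, 0, 0], [0, 0, 1, 1, 1], [0, 0, 0, 1, 0, 0, 0], [0, 0, 1, 0, 0, 0, 0], [0, 1, 1, 0, 0, 1, 0, 0, 0], [1, 0, 1, 1, 0], [1, 0, 0, 0, 0, 1, 1, 0, 0], [0, 0, 0, 1, 1, 0, 1, 1, 0], [1, 0, 1, 0, 1, 1, 1], [1, 0, 1, 1, 0, 1], [0, 1, 1, 0, 0, 1], [1, 1, 0, 0, 1, 0, 1, 0], [0, 1, 1, 0, 1, 1, 0, 1], [1, 0, 0, 0, 0, 1, 0, 0], [0, 1, 0, 1, 0, 1, 0, 0], [0, 0, 1, 0, 1, 1, 1, 0], [0, 0, 0, 1, 1, 1, 0], [0, 0, 0, 0, 1, 0, 1, 0, 0], [1, 0, 0, 0, 0, 0, 1, 1], [1, 0, 0, 0, 1, 0, 1, 0, 1], [0, 1, 1, 1, 0, 0, 0, 1, 0, 1], [1, 0, 0, 1, 1, 0], [0, 1, 1, 1, 0, 0, 0], [1, 0, 0, 0, 1, 1, 0], [1, 0, 1, 1, 0, 0, 1, 1], [1, 0, 0, 0, 1, 0, 1], [1, 1, 0, 0, 0, 1, 0, 0], [1,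 0, 0, 0, 0, 1, 0, 1], [1, 1, 1, 0, 1, 0, 0, 0, 0], [1, 1, 0, 0, 0, 1], [0, 1, 0, 0, 0, 1, 1], [0, 0, 0, 1, 0, 0, 1, 0, 0, 0], [0, 1, 1, 0, 0, 0, 1], [1, 0, 1, 1, 1, 0, 0, 0], [1, 1, 0, 1, 1, 1, 0, 1, 0], [0, 0, 1, 0, 1, 0, 1, 0, 0], [1, 1, 0, 0, 0, 0, 1, 1, 0, 0], [0, 0, 0, 0, 1], [0, 1, 0, 1, 1, 0, 0, 1], [0, 0, 1, 0, 0, 1, 0, 1, 0, 1], [0, 1, 0, 0, 0, 0], [0, 0, 1], [0, 1, 1, 0, 1, 1, 1], [1, 1, 1, 0, 1, 1], [0, 1, 1, 0, 1], [1, 0, 0, 0, 0, 0, 0, 0], [1, 1, 0, 0, 0, 1, 0, 0, 0, 0], [1, 0, 0, 1, 1, 0, 1], [1, 0, 1, 1, 0, 1, 0], [0, 1, 1, 0, 0, 1, 1, 0], [0, 0, 0, 0, 1, 0, 0, 1, 1], [1, 0, 1, 0, 0, 1, 1], [0, 1, 1, 0, 0], [0, 0, 0, 0, 0, 0, 0, 1, 0, 0], [1, 0, 0, 0, 0, 1], [0, 1], [0, 1, 0, 0], [0, 1,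 1, 0, 1, 1, 0], [0, 1, 0, 1, 0, 1], [0, 0, 0, 0, 1, 0, 0], [0, 0, 0, 0, 0, 1, 1], [1, 1, 0], [1, 0, 0, 1], [0, 0, 0, 0, 0, 1, 0, 0, 1, 1], [0, 1, 0, 1, 0], [1, 0, 1, 1, 0, 1, 1, 0], [1, 1, 1, 0, 1, 1, 0, 0, 1], [0, 0, 1, 0, 1, 0], [0, 0, 0, 0, 1, 1, 0], [1, 1, 0, 1, 1, 0, 1, 0], [0, 0, 1, 0, 1, 1, 1, 0, 0], [0, 1, 0, 1, 0, 1, 0], [0, 0, 1, 1, 0, 0, 0, 1], [0, 0, 1, 1, 1, 0, 0], [0, 0, 1, 0, 0, 1, 1, 0], [0, 0, 1, 0, 0, 1, 0, 1, 0], [1, 1, 0, 0, 1, 0, 1, 0, 1], [0, 1, 0, 0, 1, 1, 1, 0, 0], [1, 0, 0, 0, 1, 1, 0, 1, 0], [1, 0, 1, 0, 1, 1, 0], [1, 1, 1, 0, 1], [0, 1, 1, 0, 0, 1, 1, 1, 0, 0], [1, 1, 0, 1, 1, 0, 0, 1], [1, 0, 1, 1, 0, 1, 1, 1], [1, 0, 1, 0, 1, 0], [1, 0, 1, 0, 1, 0, 1, 0, 0], [0, 0, 1, 0, 1,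 1], [0, 0, 0, 1, 0, 1, 0, 1], [1, 1, 0, 0, 0], [1, 0, 0, 1, 1, 1, 0, 0], [1, 0, 0, 0, 1, 1, 1, 0], [0, 0, 0, 1, 1], [0, 1, 0, 0, 1, 1], [0, 0], [1, 1, 1, 0, 0, 1, 1], [0, 0, 0, 1, 0, 1, 1], [0, 0, 0, 0, 1, 1, 0, 1, 0], [1, 0, 0, 1, 0, 0, 0, 0], [0, 1, 1, 1, 0, 1, 0], [1, 0, 0, 0, 1, 1], [0, 0, 1, 1, 0, 0], [1, 0, 1, 0, 0], [0, 1, 0, 0, 1, 0, 1, 0], [1, 1, 1], [0, 0, 0, 1, 1, 1, 0, 0], [0, 0, 0, 0, 0, 1, 0, 1], [1, 0, 0, 0], [1, 1, 0, 0, 0, 0, 0, 0, 0, 0], [1, 0, 0, 1, 1, 1], [1, 0, 1, 1, 1, 0, 1, 0], [0, 0, 0, 0, 1, 0, 1, 1, 1], [0, 0, 1, 0, 0, 1], [0, 0, 0, 1, 0, 1, 0, 1, 1], [1, 1, 0, 1, 0, 1, 1], [0, 0, 1, 1, 0, 0, 1, 0, 1], [1, 0, 0, 0, 1, 1, 0, 0], [0, 1, 1, 1, 0, 0], [0, 0, 0, 0, 0, 1, 0, 0], [1,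 1], [0, 0, 1, 0, 1, 0, 1, 1, 0], [1, 1, 1, 0, 1, 0], [0, 0, 0], [0, 1, 0, 0, 1, 1, 0], [0, 0, 1, 1, 0, 0, 0, 1, 0, 0], [0, 1, 1, 1], [0, 0, 1, 1, 0, 1], [0, 0, 1, 1, 0], [0, 1, 0, 1, 1, 0, 1, 0], [0, 1, 0, 0, 0, 1, 0, 0], [0, 1, 0, 0, 0], [0, 1, 1, 0, 0, 0, 1, 0, 0], [0, 1, 0, 1, 1, 0], [1, 1, 0, 0, 1, 1], [1, 0, 0, 0, 1, 0, 0], [1, 0, 0, 0, 0], [0, 1, 0, 0, 1, 0, 1, 0, 0], [0, 0, 0, 0, 0, 0, 0], [1, 0, 1, 0], [1, 0, 1, 0, 1, 1], [1, 1, 0, 1, 1, 1], [1, 0, 0, 0, 0, 0, 0, 0, 0], [1, 1, 0, 0, 1, 0, 0, 0], [0, 1, 1, 1, 0, 1, 1, 1], [0, 0, 0, 1, 0, 1], [0, 1, 0, 0, 1, 0, 0, 0], [0, 1, 1, 0, 0, 1, 0, 1], [0, 1, 0, 1, 1, 1], [1, 0, 0, 1, 0, 0], [1, 1, 1, 0, 0, 0, 1, 1], [1, 0, 1, 0, 0, 1, 0, 0, 1], [0, 0, 0,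 1], [0, 0, 0, 1, 1, 0], [0, 0, 1, 1, 0, 1, 1, 0], [0, 0, 0, 0, 1, 0, 1], [0, 0, 0, 1, 0, 0, 1, 1, 0], [0, 1, 0, 1, 0, 1, 1, 0], [1, 0, 0, 1, 0, 0, 1, 1], [1, 0, 1, 0, 0, 0, 0, 0], [0, 0, 1, 0, 1, 1, 0], [1, 0, 0, 0, 1, 0, 0, 0, 0], [1, 0, 0, 1, 0, 0, 1, 0], [0, 0, 0, 1, 1, 0, 1, 0], [1, 1, 1, 0, 0, 1, 1, 1], [0, 0, 0, 0, 1, 1, 0, 0], [0, 0, 0, 0, 0], [1, 1, 0, 1, 1], [1, 0, 1, 1, 0, 0, 0], [0, 1, 0, 1, 0, 0, 0, 0, 0], [0, 0, 0, 0, 1, 0, 0, 0], [0, 0, 1, 0, 0, 1, 0, 0, 0], [1, 1, 1, 0, 0, 1], [0, 0, 1, 0, 0, 0], [1, 0], [0, 0, 1, 1, 0, 1, 1, 1], [1, 0, 0, 1, 0, 1, 0, 1], [0, 1, 0, 0, 1, 1, 0, 1], [0, 1, 1, 0, 0, 1, 1], [0, 1, 1, 0], [1, 0, 0, 1, 0, 1], [1, 0, 0, 0, 0, 0, 0], [0, 1, 0, 0, 1, 0], [0, 0,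 1, 0], [0, 1, 1, 0, 1, 0], [1, 1, 1, 0, 0], [0, 1, 0, 1, 0, 0, 1, 1, 0], [0, 1, 0, 0, 1, 0, 1, 0, 1], [1, 0, 1, 1, 1, 0], [1, 0, 0, 0, 0, 0, 1, 1, 0], [1, 0, 0, 1, 0, 1, 1, 0, 0], [1, 1, 0, 1], [0, 0, 1, 0, 1, 1, 1], [0, 1, 0, 1, 1, 1, 0, 0], [1, 1, 0, 1, 0, 0, 0, 0], [0, 0, 1, 0, 0, 0, 0, 1], [1, 1, 0, 1, 1, 1, 0, 0, 0], [0, 1, 0, 1, 1, 1, 0], [0, 1, 0, 0, 1], [1, 1, 0, 0, 1, 0, 0, 0, 0], [0, 0, 1, 0, 0, 1, 0], [1, 0, 0], [1, 1, 0, 1, 1, 0, 0, 1, 1], [0, 1, 1, 1, 0, 0, 1], [1, 1, 0, 1, 0, 1, 1, 0], [1, 1, 0, 1, 0, 1, 1, 1], [0, 0, 1, 1, 1, 0, 1, 0], [1, 0, 1], [0, 1, 1, 0, 0, 0], [1, 1, 0, 1, 0, 0, 0, 0, 0], [0, 0, 0, 0], [0, 1, 0, 1, 0, 0], [1, 0, 0, 1, 0], [1, 0, 1, 1, 1], [0, 1, 0, 0, 0, 0, 1], [1,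 1, 1, 0, 0, 1, 0, 0, 0], [0, 0, 0, 1, 0, 1, 0, 0], [0, 0, 1, 0, 1, 1, 0, 0], [1, 1, 0, 0, 1, 1, 0], [1, 1, 0, 0, 1, 1, 1], [1, 0, 1, 1, 0, 0], [0, 1, 1, 1, 0, 0, 0, 1], [0, 1, 1, 0, 0, 1, 1, 1], [0, 0, 1, 1], [1, 0, 0, 1, 0, 0, 1, 0, 0, 0], [1, 0, 1, 1, 1, 0, 0], [1, 1, 0, 1, 0], [0, 1, 0, 1], [1, 0, 0, 1, 0, 0, 0], [0, 1, 1], [0, 0, 0, 0, 1, 0, 1, 1], [1, 1, 1, 0, 0, 0, 0, 0, 0, 0], [1, 0, 0, 0, 1, 1, 1, 0, 0], [0, 1, 0, 1, 1, 0, 1], [0, 1, 0, 1, 1, 0, 1, 1, 0], [0, 1, 0, 0, 1, 0, 0], [0], [1, 1, 1, 0, 0, 0], [0, 0, 1, 1, 0, 1, 0], [0, 0, 1, 0, 0], [1, 0, 1, 1, 1, 0, 1, 1, 1], [1, 0, 0, 0, 0, 0], [1], [0, 1, 0, 1, 1], [1, 1, 0, 1, 1, 0, 1], [1, 1, 0, 0, 0, 0, 0, 1, 1], [0, 1, 0, 0, 1, 0, 0, 1], [0, 0,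 1, 1, 1, 0, 0, 1], [1, 1, 0, 0, 0, 1, 1], [0, 1, 0, 1, 0, 1, 1], [1, 1, 1, 0, 0, 1, 0, 1, 0, 1], [1, 1, 0, 0, 0, 1, 0, 1], [0, 0, 0, 0, 0, 1, 1, 0], [1, 1, 0, 1, 1, 0], [0, 0, 0, 0, 0, 1, 0, 0, 0], [1, 0, 0, 1, 0, 0, 1], [0, 0, 0, 1, 1, 0, 1], [0, 0, 0, 1, 1, 0, 0], [0, 1, 0], [0, 0, 0, 0, 0, 0], [1, 0, 1, 0, 0, 1, 1, 0], [1, 1, 1, 0, 0, 0, 1], [0, 0, 0, 1, 0, 0, 1, 1], [1, 0, 0, 0, 1, 0, 0, 0], [1, 0, 1, 0, 0, 0, 0], [0, 0, 1, 1, 0, 0, 1, 1, 1], [1, 1, 1, 0, 1, 1, 1], [1, 0, 1, 0, 1, 0, 0, 1, 1], [0, 0, 0, 0, 0, 0, 1, 0, 0], [1, 1, 0, 1, 1, 0, 1, 1, 1], [0, 0, 0, 0, 0, 0, 0, 0], [0, 1, 1, 1, 0], [1, 1, 0, 0, 1, 0, 1], [1, 1, 0, 0, 1], [0, 1, 0, 1, 1, 0, 0], [0, 0, 1, 0, 1, 0, 1, 1], [1, 1, 0, 0], [0,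 0, 1, 0, 1, 0, 1], [1, 1, 1, 0, 0, 1, 1, 0], [0, 0, 0, 1, 1, 1], [0, 0, 0, 1, 0, 1, 1, 1], [0, 0, 0, 0, 1, 1], [0, 1, 1, 0, 1, 1], [0, 0, 1, 0, 1, 1, 0, 1, 0], [0, 1, 0, 0, 1, 0, 1], [1, 0, 1, 0, 0, 0, 0, 1, 0, 1], [1, 0, 0, 1, 1, 1, 0], [1, 1, 0, 1, 0, 1], [0, 1, 1, 1, 0, 1], [0, 0, 1, 0, 1, 0, 0], [0, 0, 0, 0, 1, 1, 0, 1], [0, 0, 1, 0, 0, 1, 0, 0, 1], [0, 0, 0, 1, 0, 0], [0, 0, 1, 0, 0, 1, 0, 1], [0, 1, 1, 0, 1, 0, 1], [1, 0, 1, 0, 1, 0, 0], [0, 0, 1, 0, 0, 1, 1], [0, 1, 1, 1, 0, 1, 1], [1, 0, 1, 0, 1], [0, 1, 0, 0, 0, 1, 0, 0, 0, 0], [1, 0, 0, 0, 1, 1, 1], [1, 0, 1, 1], [0, 0, 1, 1, 1, 0], [0, 0, 1, 0, 1], [0, 1, 0, 0, 0, 1, 1, 0, 1, 0], [1, 1, 1, 0, 0, 0, 1, 0, 1], [1, 0, 1, 0, 0, 1], [1, 1, 1, 0,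 1, 1, 0], [1, 0, 0, 1, 1], [0, 1, 0, 0, 0, 0, 1, 0, 1], [0, 0, 1, 0, 0, 0, 0, 0], [1, 0, 0, 0, 1, 0, 1, 0, 0], [0, 1, 0, 0, 0, 0, 0], [0, 0, 1, 0, 0, 0, 1, 0, 0], [0, 0, 0, 1, 0, 0, 0, 0], [1, 0, 0, 1, 0, 1, 0, 0]]


/-- the root octad of a type -/
def octRoot : Bool → Bool → ℕ
  | true, true => octRootTT
  | true, false => octRootTF
  | false, true => octRootFT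
  | false, false => octRootFF

set_option maxRecDepth 100000 in
theorem reachTT : encSet.reachOK gensL2 octRootTT (octTy true true) octWordsTT = true := by
  decide +kernel
set_option maxRecDepth 100000 in
theorem reachTF : encSet.reachOK gensL2 octRootTF (octTy true false) octWordsTF = true := by
  decide +kernel
set_option maxRecDepth 100000 in
theorem reachFT : encSet.reachOK gensL2 octRootFT (octTy false true) octWordsFT = true := by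
  decide +kernel
set_option maxRecDepth 100000 in
theorem reachFF : encSet.reachOK gensL2 octRootFF (octTy false false) octWordsFF = true := by
  decide +kernel

theorem gensL2_spec : ∀ S ∈ gensL2, isPerm S = true ∧ permC S ∈ Hfix 3 := by
  intro S hS
  have := List.all_eq_true.1 gens_ok2 S hS
  rw [Bool.and_eq_true] at this
  exact ⟨isPerm_of_isAutC this.1, permC_mem_Hfix this.1 this.2⟩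

theorem octRoot_lt (ta tb : Bool) : octRoot ta tb < 16777216 := by
  cases ta <;> cases tb <;> decide

theorem reach_all (ta tb : Bool) :
    ∀ t ∈ octTy ta tb, ∃ u ∈ Hfix 3, u • fset (octRoot ta tb) = fset t := by
  cases ta <;> cases tb
  · exact Enc.reach_spec encSet gensL2 octRootFF (octRoot_lt false false) (Hfix 3) gensL2_spec _ _ reachFF
  · exact Enc.reach_spec encSet gensL2 octRootFT (octRoot_lt false true) (Hfix 3) gensL2_spec _ _ reachFT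
  · exact Enc.reach_spec encSet gensL2 octRootTF (octRoot_lt true false) (Hfix 3) gensL2_spec _ _ reachTF
  · exact Enc.reach_spec encSet gensL2 octRootTT (octRoot_lt true true) (Hfix 3) gensL2_spec _ _ reachTT

theorem pa_mem_fset3 : pa ∈ fset 3 := by rw [mem_fset_P]; decide
theorem pb_mem_fset3 : pb ∈ fset 3 := by rw [mem_fset_P]; decide

/-- every octad is mapped to the root octad of its type by an element of `M24` fixing both base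
points -/
theorem exists_map_root (D : Finset GolayPt) (hD : D ∈ octads) :
    ∃ σ ∈ M24, σ pa = pa ∧ σ pb = pb ∧
      σ • D = fset (octRoot (decide (pa ∈ D)) (decide (pb ∈ D))) := by
  have hmem : fmask D ∈ octTy (decide (pa ∈ D)) (decide (pb ∈ D)) := by
    unfold octTy
    rw [List.mem_filter]
    refine ⟨(fmask_mem_octList_iff D).mpr hD, ?_⟩
    have h0 := testBit_fmask D pa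
    have h1 := testBit_fmask D pb
    rw [ptIdx_P] at h0 h1
    rw [h0, h1]
    simp
  obtain ⟨u, hu, hu'⟩ := reach_all _ _ _ hmem
  rw [fset_fmask] at hu'
  refine ⟨u⁻¹, M24.inv_mem hu.1, ?_, ?_, ?_⟩
  · have := hu.2 pa pa_mem_fset3
    conv_lhs => rw [← this]
    simp
  · have := hu.2 pb pb_mem_fset3
    conv_lhs => rw [← this]
    simp
  · exact inv_smul_eq_iff.mpr hu'.symm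

end Cfsg.Agent.Lib.Conway
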