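import Cfsg.Agent.Lib.Conway.Table

set_option autoImplicit false

/-!
The extra automorphism `xi` of the Leech lattice (Conway's `ξ_T` for the sextet of the tetrad
`{0, 1, 2, ∞}`), given by the table of images of the basis vectors.
-/

namespace Cfsg.Agent.Lib.Conway

open Cfsg Cfsg.Agent.Lib.Helper93.Leech Cfsg.Agent.Lib.Helper93.Golay
open Cfsg.Agent.Lib.Golay.LeechBasis

def XiTab : List (List ℤ) :=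
  [[-4, 4, 4, 0, 0, 0, 0, 0, 0, 0, 0, 0, 0, 0, 0, 0, 0, 0, 0, 0, 0, 0, 0, 4],
   [0, 0, 4, 0, 0, 0, 0, 0, 0, 0, 0, 0, 0, 0, 0, 0, 0, 0, 0, 0, 0, 0, 0, 4],
   [0, 4, 0, 0, 0, 0, 0, 0, 0, 0, 0, 0, 0, 0, 0, 0, 0, 0, 0, 0, 0, 0, 0, 4],
   [-2, 2, 2, 2, 0, -2, 0, 0, 0, 0, 0, 0, 0, 0, -2, 0, 0, -2, 0, 0, 0, 0, 0, 2],
   [-2, 2, 2, 0, 2, 0, 0, 0, 0, 0, 0, 0, 0, -2, 0, 0, -2, 0, 0, 0, 0, 0, -2, 2],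
   [-2, 2, 2, -2, 0, 2, 0, 0, 0, 0, 0, 0, 0, 0, -2, 0, 0, -2, 0, 0, 0, 0, 0, 2],
   [-2, 2, 2, 0, 0, 0, 2, -2, 0, 0, 0, 0, 0, 0, 0, 0, 0, 0, 0, -2, 0, -2, 0, 2],
   [-2, 2, 2, 0, 0, 0, -2, 2, 0, 0, 0, 0, 0, 0, 0, 0, 0, 0, 0, -2, 0, -2, 0, 2],
   [-2, 2, 2, 0, 0, 0, 0, 0, 2, 0, 0, -2, -2, 0, 0, 0, 0, 0, -2, 0, 0, 0, 0, 2],
   [-2, 2, 2, 0, 0, 0, 0, 0, 0, 2, -2, 0, 0, 0, 0, -2, 0, 0, 0, 0, -2, 0, 0, 2],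
   [-2, 2, 2, 0, 0, 0, 0, 0, 0, -2, 2, 0, 0, 0, 0, -2, 0, 0, 0, 0, -2, 0, 0, 2],
   [-2, 2, 2, 0, 0, 0, 0, 0, -2, 0, 0, 2, -2, 0, 0, 0, 0, 0, -2, 0, 0, 0, 0, 2],
   [1, 1, 1, 1, 1, -1, -1, 1, -1, -1, 1, -1, 1, -1, -1, -1, -1, -1, -1, -1, -1, -1, -1, 3],
   [2, 0, 0, 0, 0, 0, 0, 0, 0, 0, 0, 0, -2, 0, -2, 0, -2, -2, -2, 0, 0, 0, -2, 2],
   [0, 0, 2, -2, 0, 0, 0, 0, 0, 0, 0, 0, 0, 0, 0, -2, 0, -2, 0, -2, -2, -2, 0, 2],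
   [2, 0, 0, 0, 0, 0, 0, 0, 0, -2, 0, 0, -2, 0, 0, 0, 0, 0, -2, -2, -2, -2, 0, 2],
   [0, 0, 2, 0, 0, 0, 0, 0, 0, 0, 0, 0, -2, -2, 0, -2, 0, 0, -2, 0, -2, 0, -2, 2],
   [-1, 1, 1, -1, 1, -1, -1, 1, -1, 1, -1, 1, -1, -1, -3, -1, -1, -1, -1, -1, -1, -1, -1, 1],
   [0, 2, 0, 0, 0, 0, 0, 0, 0, 0, 0, -2, -2, 0, -2, 0, 0, -2, 0, -2, 0, -2, 0, 2],
   [1, -1, 1, 1, 1, -1, -1, -1, 1, 1, -1, -1, -1, -1, -1, -1, -1, -1, -1, -1, -1, -3, -1, 1],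
   [1, 1, -1, -1, 1, 1, -1, 1, 1, -1, -1, -1, -1, -1, -1, -3, -1, -1, -1, -1, -1, -1, -1, 1],
   [0, 0, 0, 0, 0, 0, 0, -2, 0, 0, 0, 0, -2, 0, -2, -2, 0, -2, -2, -2, -2, 0, 0, 0],
   [1, 1, 1, 1, -1, -1, 1, -1, -1, 1, -1, 1, -1, -1, -1, -1, -1, -1, -1, -1, -1, -1, 1, 3],
   [-1, 3, 3, -1, -1, -1, -1, -1, -1, -1, -1, -1, -1, -1, -1, -1, -1, -1, -1, -1, -1, -1, -1, 3]]

def XiInvTab : List (List ℤ) :=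
  [[-4, 4, 4, 0, 0, 0, 0, 0, 0, 0, 0, 0, 0, 0, 0, 0, 0, 0, 0, 0, 0, 0, 0, 4],
   [0, 0, 4, 0, 0, 0, 0, 0, 0, 0, 0, 0, 0, 0, 0, 0, 0, 0, 0, 0, 0, 0, 0, 4],
   [0, 4, 0, 0, 0, 0, 0, 0, 0, 0, 0, 0, 0, 0, 0, 0, 0, 0, 0, 0, 0, 0, 0, 4],
   [-2, 2, 2, 2, 0, -2, 0, 0, 0, 0, 0, 0, 0, 0, -2, 0, 0, -2, 0, 0, 0, 0, 0, 2],
   [-2, 2, 2, 0, 2, 0, 0, 0, 0, 0, 0, 0, 0, -2, 0, 0, -2, 0, 0, 0, 0, 0, -2, 2],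
   [-2, 2, 2, -2, 0, 2, 0, 0, 0, 0, 0, 0, 0, 0, -2, 0, 0, -2, 0, 0, 0, 0, 0, 2],
   [-2, 2, 2, 0, 0, 0, 2, -2, 0, 0, 0, 0, 0, 0, 0, 0, 0, 0, 0, -2, 0, -2, 0, 2],
   [-2, 2, 2, 0, 0, 0, -2, 2, 0, 0, 0, 0, 0, 0, 0, 0, 0, 0, 0, -2, 0, -2, 0, 2],
   [-2, 2, 2, 0, 0, 0, 0, 0, 2, 0, 0, -2, -2, 0, 0, 0, 0, 0, -2, 0, 0, 0, 0, 2],
   [-2, 2, 2, 0, 0, 0, 0, 0, 0, 2, -2, 0, 0, 0, 0, -2, 0, 0, 0, 0, -2, 0, 0, 2],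
   [-2, 2, 2, 0, 0, 0, 0, 0, 0, -2, 2, 0, 0, 0, 0, -2, 0, 0, 0, 0, -2, 0, 0, 2],
   [-2, 2, 2, 0, 0, 0, 0, 0, -2, 0, 0, 2, -2, 0, 0, 0, 0, 0, -2, 0, 0, 0, 0, 2],
   [1, 1, 1, 1, 1, -1, -1, 1, -1, -1, 1, -1, 1, -1, -1, -1, -1, -1, -1, -1, -1, -1, -1, 3],
   [2, 0, 0, 0, 0, 0, 0, 0, 0, 0, 0, 0, -2, 0, -2, 0, -2, -2, -2, 0, 0, 0, -2, 2],
   [0, 0, 2, -2, 0, 0, 0, 0, 0, 0, 0, 0, 0, 0, 0, -2, 0, -2, 0, -2, -2, -2, 0, 2],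
   [2, 0, 0, 0, 0, 0, 0, 0, 0, -2, 0, 0, -2, 0, 0, 0, 0, 0, -2, -2, -2, -2, 0, 2],
   [0, 0, 2, 0, 0, 0, 0, 0, 0, 0, 0, 0, -2, -2, 0, -2, 0, 0, -2, 0, -2, 0, -2, 2],
   [-1, 1, 1, -1, 1, -1, -1, 1, -1, 1, -1, 1, -1, -1, -3, -1, -1, -1, -1, -1, -1, -1, -1, 1],
   [0, 2, 0, 0, 0, 0, 0, 0, 0, 0, 0, -2, -2, 0, -2, 0, 0, -2, 0, -2, 0, -2, 0, 2],
   [1, -1, 1, 1, 1, -1, -1, -1, 1, 1, -1, -1, -1, -1, -1, -1, -1, -1, -1, -1, -1, -3, -1, 1],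
   [1, 1, -1, -1, 1, 1, -1, 1, 1, -1, -1, -1, -1, -1, -1, -3, -1, -1, -1, -1, -1, -1, -1, 1],
   [0, 0, 0, 0, 0, 0, 0, -2, 0, 0, 0, 0, -2, 0, -2, -2, 0, -2, -2, -2, -2, 0, 0, 0],
   [1, 1, 1, 1, -1, -1, 1, -1, -1, 1, -1, 1, -1, -1, -1, -1, -1, -1, -1, -1, -1, -1, 1, 3],
   [-1, 3, 3, -1, -1, -1, -1, -1, -1, -1, -1, -1, -1, -1, -1, -1, -1, -1, -1, -1, -1, -1, -1, 3]]

/-- images of the basis vectors under `xi` -/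
def xiW : Fin 24 → Vec := tabVec XiTab
/-- images of the basis vectors under the inverse of `xi` -/
def xiW' : Fin 24 → Vec := tabVec XiInvTab

set_option maxRecDepth 100000 in
theorem xiW_cond : ∀ j : Fin 24, LeechCond (xiW j) (xiW j (ptOf 0)) := by decide +kernel

set_option maxRecDepth 100000 in
theorem xiW'_cond : ∀ j : Fin 24, LeechCond (xiW' j) (xiW' j (ptOf 0)) := by decide +kernel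

set_option maxRecDepth 100000 in
theorem xiW_gram : ∀ j k : Fin 24, dotInt (xiW j) (xiW k) = dotInt (bvec j) (bvec k) := by
  unfold dotInt; decide +kernel

set_option maxRecDepth 100000 in
theorem xi_inv1 : ∀ (j : Fin 24) (p : GolayPt), (∑ k, coef (xiW j) k * xiW' k p) = bvec j p := by
  unfold coef dotInt; decide +kernel

set_option maxRecDepth 100000 in
theorem xi_inv2 : ∀ (j : Fin 24) (p : GolayPt), (∑ k, coef (xiW' j) k * xiW k p) = bvec j p := by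
  unfold coef dotInt; decide +kernel

/-- the extra automorphism -/
def xi : Co0 :=
  tableAut xiW xiW' (fun j => mem_of_leechCond (xiW_cond j)) (fun j => mem_of_leechCond (xiW'_cond j))
    xiW_gram (fun j => funext fun p => by rw [lin_apply]; exact xi_inv1 j p)
    (fun j => funext fun p => by rw [lin_apply]; exact xi_inv2 j p)

theorem xi_smul (v : leechLattice) : ((xi • v : leechLattice) : Vec) = lin xiW v := rfl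

end Cfsg.Agent.Lib.Conway
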