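import Cfsg.Agent.Lib.Conway.Restrict
import Cfsg.Agent.Lib.Conway.Xi
import Cfsg.Agent.S0367
import Cfsg.Prelude.Def_Spor_Conway

set_option autoImplicit false

/-!
Transitivity of `Co0` on the vectors of sum of squares 32.
-/

namespace Cfsg.Agent.Lib.Conway

open Cfsg Cfsg.Agent.Lib.Helper93.Leech Cfsg.Agent.Lib.Helper93.Golay
open Cfsg.Agent.Lib.Golay.LeechBasis
open scoped Pointwise

set_option maxRecDepth 100000 in
theorem sep_bool' : ∀ i j : Fin 24, i ≠ j →
    (List.range 4096).any (fun a => (combF a).testBit j.val && !(combF a).testBit i.val) = true := by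
  decide +kernel

/-- two distinct points are separated by a code word -/
theorem exists_sep {i j : GolayPt} (h : i ≠ j) : ∃ c ∈ CS, j ∈ c ∧ i ∉ c := by
  have hne : ptIdx i ≠ ptIdx j := fun e => h (ptEquiv.injective e)
  have := sep_bool' (ptIdx i) (ptIdx j) hne
  rw [List.any_eq_true] at this
  obtain ⟨a, ha, hb⟩ := this
  rw [List.mem_range] at ha
  rw [Bool.and_eq_true, Bool.not_eq_true'] at hb
  refine ⟨fset (combF a), fset_combF_mem' a ha, ?_, ?_⟩
  · rw [mem_fset]; exact hb.1
  · rw [mem_fset, hb.2]; simp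

theorem four_card_cls_le (y : Vec) : 4 * ((cls y 2).card : ℤ) ≤ sqNorm y := by
  have hle : ∀ i, (if i ∈ cls y 2 then (4 : ℤ) else 0) ≤ y i ^ 2 := by
    intro i
    split
    · rename_i hi
      rw [mem_cls] at hi
      have h' : y i ≤ -2 ∨ 2 ≤ y i := by omega
      rcases h' with h' | h' <;> nlinarith
    · exact sq_nonneg _
  calc 4 * ((cls y 2).card : ℤ) = ∑ i, (if i ∈ cls y 2 then (4 : ℤ) else 0) := by
        rw [Finset.sum_ite_mem, Finset.univ_inter, Finset.sum_const]
        simp [mul_comm]
    _ ≤ sqNorm y := Finset.sum_le_sum fun i _ => hle i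

/-- twice the indicator of a code word is in the lattice -/
theorem two_ind_mem {b : Finset GolayPt} (hb : b ∈ CS) :
    (fun p => if p ∈ b then (2 : ℤ) else 0) ∈ leechLattice := by
  rw [mem_leechLattice_iff, mem_leechSet_iff']
  refine ⟨0, fun i => ?_, ?_, ?_⟩
  · split <;> norm_num
  · rw [Finset.sum_ite_mem, Finset.univ_inter, Finset.sum_const]
    obtain ⟨r, hr⟩ := four_dvd_card_of_mem_supports hb
    rw [hr]
    simp only [nsmul_eq_mul, Nat.cast_mul, Nat.cast_ofNat]
    omega
  · have : cls (fun p => if p ∈ b then (2 : ℤ) else 0) (0 + 2) = b := by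
      ext i
      rw [mem_cls]
      by_cases hi : i ∈ b <;> simp [hi]
    rw [this]
    exact hb

/-! ### The three representatives -/

/-- representative `(4, 4, 0^22)` -/
def LA : leechLattice := Cfsg.Spor.leechU

/-- the standard octad, as a mask -/
def o0 : ℕ := 8536111
/-- the standard octad -/
def O0 : Finset GolayPt := fset o0

theorem fmask_O0 : fmask O0 = o0 := fmask_fset o0 (by norm_num [o0])

theorem O0_mem : O0 ∈ octads := by
  rw [mem_octads_iff, fmask_O0]
  decide +kernel

theorem O0_mem_CS : O0 ∈ CS := O0_mem.1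

/-- representative `(2^8, 0^16)` -/
def LB : leechLattice := ⟨fun p => if p ∈ O0 then (2 : ℤ) else 0, two_ind_mem O0_mem_CS⟩

/-- the vector `(-3, 1^23)` -/
def vC : Vec := fun p => if p = none then -3 else 1

set_option maxRecDepth 100000 in
theorem vC_cond : LeechCond vC 1 := by decide +kernel

/-- representative `(-3, 1^23)` -/
def LC : leechLattice := ⟨vC, mem_of_leechCond vC_cond⟩

/-! ### The three shapes -/

theorem one_symm (i : GolayPt) : (Equiv.symm (1 : Equiv.Perm GolayPt)) i = i := rfl

theorem conjC (v : leechLattice) (hn : sqNorm (v : Vec) = 32) (hodd : (v : Vec) none % 2 = 1) :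
    Conj v LC := by
  obtain ⟨m, hpar, -, hcls⟩ := mem_data v.2
  have hall : ∀ i, (v : Vec) i % 2 = 1 := fun i => by rw [hpar i, ← hpar none]; exact hodd
  have hc : (cls (v : Vec) 1)ᶜ ∈ CS := compl_mem_supports (hcls 1)
  set w : leechLattice :=
    ⟨signedPerm 1 (cls (v : Vec) 1)ᶜ v, signedPerm_mem M24.one_mem hc v.2⟩ with hw
  have h1 : Conj v w := conj_mono 1 _ M24.one_mem hc v
  have hw4 : ∀ i, (w : Vec) i % 4 = 1 := by
    intro i
    show signedPerm 1 _ (v : Vec) i % 4 = 1
    rw [signedPerm_apply, one_symm]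
    have := hall i
    by_cases hi : i ∈ (cls (v : Vec) 1)ᶜ
    · rw [if_pos hi]
      rw [Finset.mem_compl, mem_cls] at hi
      omega
    · rw [if_neg hi]
      rw [Finset.mem_compl, not_not, mem_cls] at hi
      omega
  have hwn : sqNorm (w : Vec) = 32 := by
    show sqNorm (signedPerm 1 _ (v : Vec)) = 32
    rw [sqNorm_signedPerm]; exact hn
  obtain ⟨i0, h3, hone⟩ := shape_31 hw4 hwn
  obtain ⟨σ, hσ, hσi⟩ := m24_trans1 i0 none
  have h2 := conj_mono σ ∅ hσ empty_mem_supports w
  refine h1.trans (h2.trans (conj_of_eq ?_))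
  funext j
  show signedPerm σ ∅ (w : Vec) j = vC j
  rw [signedPerm_apply]
  simp only [Finset.notMem_empty, if_false]
  unfold vC
  by_cases hj : j = none
  · subst hj
    rw [if_pos rfl]
    have : σ.symm none = i0 := by rw [← hσi]; simp
    rw [this, h3]
  · rw [if_neg hj]
    apply hone
    intro e
    apply hj
    rw [← hσi, ← e]; simp

theorem conjA (v : leechLattice) (hn : sqNorm (v : Vec) = 32) (h4 : ∀ i, (v : Vec) i % 4 = 0) :
    Conj v LA := by
  obtain ⟨i, j, hij, hi, hj, hk⟩ := shape_44 h4 hn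
  obtain ⟨σ, hσ, hσi, hσj⟩ := m24_trans2 hij (show (none : GolayPt) ≠ some 0 by decide)
  set w : leechLattice :=
    ⟨signedPerm σ ∅ v, signedPerm_mem hσ empty_mem_supports v.2⟩ with hw
  have h1 : Conj v w := conj_mono σ ∅ hσ empty_mem_supports v
  have hwval : ∀ k, (w : Vec) k = (v : Vec) (σ.symm k) := by
    intro k
    show signedPerm σ ∅ (v : Vec) k = _
    rw [signedPerm_apply]
    simp
  have hsn : σ.symm none = i := by rw [← hσi]; simp
  have hs0 : σ.symm (some 0) = j := by rw [← hσj]; simp
  obtain ⟨c, hc, hcn, hc0⟩ : ∃ c ∈ CS, (none ∈ c ↔ (v : Vec) i = -4) ∧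
      (some 0 ∈ c ↔ (v : Vec) j = -4) := by
    rcases hi with hi | hi <;> rcases hj with hj | hj
    · exact ⟨∅, empty_mem_supports, by simp [hi], by simp [hj]⟩
    · obtain ⟨c, hc, h1, h2⟩ := exists_sep (i := none) (j := some 0) (by decide)
      exact ⟨c, hc, by simp [hi, h2], by simp [hj, h1]⟩
    · obtain ⟨c, hc, h1, h2⟩ := exists_sep (i := some 0) (j := none) (by decide)
      exact ⟨c, hc, by simp [hi, h1], by simp [hj, h2]⟩
    · exact ⟨Finset.univ, univ_mem_supports, by simp [hi], by simp [hj]⟩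
  have h2 := conj_mono 1 c M24.one_mem hc w
  refine h1.trans (h2.trans (conj_of_eq ?_))
  funext k
  show signedPerm 1 c (w : Vec) k = Cfsg.Spor.vecU k
  rw [signedPerm_apply, one_symm, hwval]
  unfold Cfsg.Spor.vecU
  by_cases hkn : k = none
  · subst hkn
    rw [hsn]
    simp only [true_or, if_true]
    by_cases hc' : none ∈ c
    · rw [if_pos hc', hcn.mp hc']; norm_num
    · rw [if_neg hc']
      rcases hi with hi | hi
      · exact hi
      · exact absurd (hcn.mpr hi) hc'
  · by_cases hk0 : k = some 0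
    · subst hk0
      rw [hs0]
      simp only [or_true, if_true]
      by_cases hc' : some 0 ∈ c
      · rw [if_pos hc', hc0.mp hc']; norm_num
      · rw [if_neg hc']
        rcases hj with hj | hj
        · exact hj
        · exact absurd (hc0.mpr hj) hc'
    · have h0 : (v : Vec) (σ.symm k) = 0 := by
        apply hk
        · intro e; apply hkn; rw [← hσi, ← e]; simp
        · intro e; apply hk0; rw [← hσj, ← e]; simp
      rw [h0]
      simp [hkn, hk0]

set_option maxRecDepth 100000 in
theorem pairCheck_o0 : pairCheck o0 = true := by decide +kernel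

theorem conjB (v : leechLattice) (hn : sqNorm (v : Vec) = 32) (hpar : ∀ i, (v : Vec) i % 2 = 0)
    (h2 : ∃ i, (v : Vec) i % 4 = 2) : Conj v LB := by
  obtain ⟨m, -, -, hcls⟩ := mem_data v.2
  have hD : cls (v : Vec) 2 ∈ CS := hcls 2
  obtain ⟨i2, hi2⟩ := h2
  have hDne : i2 ∈ cls (v : Vec) 2 := by rw [mem_cls]; omega
  have hle := four_card_cls_le (v : Vec)
  rw [hn] at hle
  have hDcard : (cls (v : Vec) 2).card = 8 := by
    rcases card_of_mem_supports hD with h | h | h | h | h
    · rw [Finset.card_eq_zero] at h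
      rw [h] at hDne
      simp at hDne
    · exact h
    · rw [h] at hle; norm_num at hle
    · rw [h] at hle; norm_num at hle
    · rw [h] at hle; norm_num at hle
  have hDoct : cls (v : Vec) 2 ∈ octads := ⟨hD, hDcard⟩
  obtain ⟨hin, hout⟩ := shape_2n hpar (by rw [hn, hDcard]; norm_num)
  obtain ⟨⟨σ, hσ⟩, hσD⟩ := Cfsg.Agent.S0367.result _ _ hDoct O0_mem
  have hσD' : σ • cls (v : Vec) 2 = O0 := hσD
  set w : leechLattice :=
    ⟨signedPerm σ ∅ v, signedPerm_mem hσ empty_mem_supports v.2⟩ with hw
  have h1 : Conj v w := conj_mono σ ∅ hσ empty_mem_supports v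
  have hwval : ∀ k, (w : Vec) k = (v : Vec) (σ.symm k) := by
    intro k
    show signedPerm σ ∅ (v : Vec) k = _
    rw [signedPerm_apply]
    simp
  have hmemO : ∀ k, k ∈ O0 ↔ σ.symm k ∈ cls (v : Vec) 2 := by
    intro k
    rw [← hσD', Finset.mem_smul_finset]
    constructor
    · rintro ⟨y, hy, rfl⟩
      simpa [Equiv.Perm.smul_def] using hy
    · intro h
      exact ⟨σ.symm k, h, by simp [Equiv.Perm.smul_def]⟩
  have hwin : ∀ k ∈ O0, (w : Vec) k = 2 ∨ (w : Vec) k = -2 := by
    intro k hk
    rw [hwval]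
    exact hin _ ((hmemO k).mp hk)
  have hwout : ∀ k, k ∉ O0 → (w : Vec) k = 0 := by
    intro k hk
    rw [hwval]
    exact hout _ (fun h => hk ((hmemO k).mpr h))
  -- the set of minus signs
  set M : Finset GolayPt := O0.filter (fun k => (w : Vec) k = -2) with hM
  have hMsub : M ⊆ O0 := Finset.filter_subset _ _
  have hMfs : M ⊆ fset o0 := hMsub
  have hev : Even M.card := by
    obtain ⟨m', hpar', hsum', -⟩ := mem_data w.2
    have hm' : m' % 2 = 0 := by
      rw [← hpar' none]
      rcases Decidable.em (none ∈ O0) with h | h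
      · rcases hwin none h with e | e <;> rw [e] <;> norm_num
      · rw [hwout none h]; norm_num
    have hsumw : ∑ k, (w : Vec) k = 16 - 4 * (M.card : ℤ) := by
      have hpt : ∀ k, (w : Vec) k = (if k ∈ O0 then (2 : ℤ) else 0) - (if k ∈ M then (4 : ℤ) else 0) := by
        intro k
        by_cases hk : k ∈ O0
        · rw [if_pos hk]
          by_cases hkM : k ∈ M
          · rw [if_pos hkM]
            rw [hM, Finset.mem_filter] at hkM
            rw [hkM.2]; norm_num
          · rw [if_neg hkM]
            rcases hwin k hk with e | e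
            · rw [e]; norm_num
            · exact absurd (Finset.mem_filter.mpr ⟨hk, e⟩) hkM
        · rw [if_neg hk, if_neg (fun h => hk (hMsub h)), hwout k hk]; norm_num
      simp_rw [hpt]
      rw [Finset.sum_sub_distrib, Finset.sum_ite_mem, Finset.sum_ite_mem, Finset.univ_inter,
        Finset.univ_inter, Finset.sum_const, Finset.sum_const, O0_mem.2]
      simp only [nsmul_eq_mul]
      push_cast
      ring
    rw [hsumw] at hsum'
    have h2 : (M.card : ℤ) % 2 = 0 := by omega
    rw [Nat.even_iff]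
    omega
  obtain ⟨c, hc, hcM⟩ := restrict_even_mask o0 pairCheck_o0 M hMfs hev
  have h2' := conj_mono 1 c M24.one_mem hc w
  refine h1.trans (h2'.trans (conj_of_eq ?_))
  funext k
  show signedPerm 1 c (w : Vec) k = (if k ∈ O0 then (2 : ℤ) else 0)
  rw [signedPerm_apply, one_symm]
  by_cases hk : k ∈ O0
  · rw [if_pos hk]
    have hkc : k ∈ c ↔ k ∈ M := by
      rw [← hcM]
      show k ∈ c ↔ k ∈ c ∩ O0
      rw [Finset.mem_inter]
      exact ⟨fun h => ⟨h, hk⟩, fun h => h.1⟩
    by_cases hkM : k ∈ M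
    · rw [if_pos (hkc.mpr hkM)]
      rw [hM, Finset.mem_filter] at hkM
      rw [hkM.2]; norm_num
    · rw [if_neg (fun h => hkM (hkc.mp h))]
      rcases hwin k hk with e | e
      · exact e
      · exact absurd (Finset.mem_filter.mpr ⟨hk, e⟩) hkM
  · rw [if_neg hk, hwout k hk]
    split <;> norm_num

end Cfsg.Agent.Lib.Conway
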