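import Cfsg.Agent.Lib.Conway.Co2Reach
import Cfsg.Agent.Lib.Conway.Norm4

set_option autoImplicit false

/-!
Tools for the normal forms under the monomial part of the stabiliser of `V0`.
-/

namespace Cfsg.Agent.Lib.Conway

open Cfsg Cfsg.Agent.Lib.Helper93.Leech Cfsg.Agent.Lib.Helper93.Golay
open scoped Pointwise

/-! ### Restriction of code words, relative version -/

theorem restrict_even2 (Y Z : Finset GolayPt)
    (hpair : ∀ p ∈ Y, ∀ q ∈ Y, p ≠ q → ∃ c ∈ CS, c ∩ Z = {p, q}) :
    ∀ M : Finset GolayPt, M ⊆ Y → Even M.card → ∃ c ∈ CS, c ∩ Z = M := by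
  intro M
  induction M using Finset.strongInduction with
  | H M ih =>
    intro hMY hev
    by_cases hM : M = ∅
    · subst hM
      exact ⟨∅, empty_mem_supports, by simp⟩
    · obtain ⟨p, hp⟩ := Finset.nonempty_iff_ne_empty.mpr hM
      have hcard : 2 ≤ M.card := by
        have : M.card ≠ 0 := by simpa [Finset.card_eq_zero] using hM
        obtain ⟨k, hk⟩ := hev
        omega
      obtain ⟨q, hq, hqp⟩ : ∃ q ∈ M, q ≠ p := by
        have : (M.erase p).Nonempty := by
          rw [← Finset.card_pos, Finset.card_erase_of_mem hp]; omega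
        obtain ⟨q, hq⟩ := this
        exact ⟨q, Finset.mem_of_mem_erase hq, Finset.ne_of_mem_erase hq⟩
      have hq' : q ∈ M.erase p := Finset.mem_erase.mpr ⟨hqp, hq⟩
      have hsub : (M.erase p).erase q ⊂ M :=
        lt_of_le_of_lt (Finset.erase_subset _ _) (Finset.erase_ssubset hp)
      have hc2 : ((M.erase p).erase q).card + 2 = M.card := by
        rw [Finset.card_erase_of_mem hq', Finset.card_erase_of_mem hp]; omega
      have hev' : Even ((M.erase p).erase q).card := by
        obtain ⟨k, hk⟩ := hev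
        exact ⟨k - 1, by omega⟩
      obtain ⟨c', hc', hc'Y⟩ := ih _ hsub (hsub.subset.trans hMY) hev'
      obtain ⟨d, hd, hdY⟩ := hpair p (hMY hp) q (hMY hq) hqp.symm
      refine ⟨symmDiff c' d, symmDiff_mem_supports hc' hd, ?_⟩
      have e : symmDiff c' d ∩ Z = symmDiff (c' ∩ Z) (d ∩ Z) := by
        ext r
        simp only [Finset.mem_inter, Finset.mem_symmDiff]
        tauto
      rw [e, hc'Y, hdY]
      ext r
      simp only [Finset.mem_symmDiff, Finset.mem_erase, Finset.mem_insert, Finset.mem_singleton]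
      by_cases h1 : r = p
      · subst h1; simp [hp]
      · by_cases h2 : r = q
        · subst h2; simp [hq]
        · simp [h1, h2]

/-- all pairs of the mask `y0` are restrictions to `z0` of code words -/
def pairCheck2 (y0 z0 : ℕ) : Bool :=
  (List.range 24).all fun i => (List.range 24).all fun j =>
    !(y0.testBit i && y0.testBit j && !(Nat.beq i j)) ||
      (List.range 4096).any fun a => Nat.beq (combF a &&& z0) (2 ^ i ||| 2 ^ j)

theorem restrict_pairs2 (y0 z0 : ℕ) (h : pairCheck2 y0 z0 = true) :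
    ∀ p ∈ fset y0, ∀ q ∈ fset y0, p ≠ q → ∃ c ∈ CS, c ∩ fset z0 = {p, q} := by
  intro p hp q hq hpq
  rw [mem_fset] at hp hq
  unfold pairCheck2 at h
  rw [List.all_eq_true] at h
  have h1 := h (ptIdx p).val (List.mem_range.mpr (ptIdx p).isLt)
  rw [List.all_eq_true] at h1
  have h2 := h1 (ptIdx q).val (List.mem_range.mpr (ptIdx q).isLt)
  have hne : Nat.beq (ptIdx p).val (ptIdx q).val = false := by
    rw [← Bool.not_eq_true]
    intro e
    exact hpq (ptIdx_injective (Fin.ext (Nat.eq_of_beq_eq_true e)))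
  rw [hp, hq, hne] at h2
  simp only [Bool.and_self, Bool.not_false, Bool.not_true, Bool.false_or, List.any_eq_true,
    List.mem_range] at h2
  obtain ⟨a, ha, hb⟩ := h2
  exact ⟨fset (combF a), fset_combF_mem' a ha, pair_of_mask (Nat.eq_of_beq_eq_true hb)⟩

theorem restrict_even_mask2 (y0 z0 : ℕ) (h : pairCheck2 y0 z0 = true) (M : Finset GolayPt)
    (hM : M ⊆ fset y0) (hev : Even M.card) : ∃ c ∈ CS, c ∩ fset z0 = M :=
  restrict_even2 (fset y0) (fset z0) (restrict_pairs2 y0 z0 h) M hM hev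

theorem mem_fset_and (m n : ℕ) (p : GolayPt) : p ∈ fset (m &&& n) ↔ p ∈ fset m ∧ p ∈ fset n := by
  simp only [mem_fset, Nat.testBit_and, Bool.and_eq_true]

theorem mem_fset_or (m n : ℕ) (p : GolayPt) : p ∈ fset (m ||| n) ↔ p ∈ fset m ∨ p ∈ fset n := by
  simp only [mem_fset, Nat.testBit_or, Bool.or_eq_true]

theorem mem_fset_three : ∀ p : GolayPt, p ∈ fset 3 ↔ p = pa ∨ p = pb := by decide

theorem mem_fset_compl_three : ∀ p : GolayPt, p ∈ fset 16777212 ↔ p ≠ pa ∧ p ≠ pb := by decide

set_option maxRecDepth 100000 in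
theorem pairCheck2_root : ∀ ta tb : Bool,
    pairCheck2 (octRoot ta tb &&& 16777212) (octRoot ta tb ||| 3) = true := by decide +kernel

/-- code words avoiding the base points with prescribed restriction to the root octad minus the
base points -/
theorem exists_sign_root (ta tb : Bool) (M : Finset GolayPt) (hM : M ⊆ fset (octRoot ta tb))
    (ha : pa ∉ M) (hb : pb ∉ M) (hev : Even M.card) :
    ∃ c ∈ CS, pa ∉ c ∧ pb ∉ c ∧ ∀ k ∈ fset (octRoot ta tb), (k ∈ c ↔ k ∈ M) := by
  have hM' : M ⊆ fset (octRoot ta tb &&& 16777212) := by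
    intro k hk
    rw [mem_fset_and, mem_fset_compl_three]
    exact ⟨hM hk, fun e => ha (e ▸ hk), fun e => hb (e ▸ hk)⟩
  obtain ⟨c, hc, hcM⟩ := restrict_even_mask2 _ _ (pairCheck2_root ta tb) M hM' hev
  have key : ∀ k, k ∈ fset (octRoot ta tb ||| 3) → (k ∈ c ↔ k ∈ M) := by
    intro k hk
    rw [← hcM, Finset.mem_inter]
    exact ⟨fun h => ⟨h, hk⟩, fun h => h.1⟩
  refine ⟨c, hc, ?_, ?_, ?_⟩
  · intro h
    exact ha ((key pa (by rw [mem_fset_or, mem_fset_three]; exact Or.inr (Or.inl rfl))).mp h)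
  · intro h
    exact hb ((key pb (by rw [mem_fset_or, mem_fset_three]; exact Or.inr (Or.inr rfl))).mp h)
  · intro k hk
    exact key k (by rw [mem_fset_or]; exact Or.inl hk)

/-! ### Code words with prescribed restriction to four standard points -/

set_option maxRecDepth 100000 in
theorem sepStd_bool : ∀ m : Fin 4,
    (List.range 4096).any (fun a => Nat.beq (combF a &&& 15) (4 * m.val)) = true := by
  decide +kernel

theorem sepStd (b2 b3 : Prop) [Decidable b2] [Decidable b3] :
    ∃ c ∈ CS, pa ∉ c ∧ pb ∉ c ∧ (P 2 ∈ c ↔ b2) ∧ (P 3 ∈ c ↔ b3) := by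
  let m : Fin 4 := ⟨(if b2 then 1 else 0) + (if b3 then 2 else 0), by split <;> split <;> norm_num⟩
  have := sepStd_bool m
  rw [List.any_eq_true] at this
  obtain ⟨a, ha, hb⟩ := this
  rw [List.mem_range] at ha
  have hb' := Nat.eq_of_beq_eq_true hb
  have hbit : ∀ i, i < 4 → (combF a).testBit i = (4 * m.val).testBit i := by
    intro i hi
    have := congrArg (fun n => n.testBit i) hb'
    simp only [Nat.testBit_and] at this
    have h15 : (15 : ℕ).testBit i = true := by
      interval_cases i <;> rfl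
    rw [h15, Bool.and_true] at this
    exact this
  refine ⟨fset (combF a), fset_combF_mem' a ha, ?_, ?_, ?_, ?_⟩
  · rw [mem_fset_P, hbit 0 (by norm_num)]
    by_cases h2 : b2 <;> by_cases h3 : b3 <;> simp [m, h2, h3] <;> decide
  · rw [mem_fset_P, hbit 1 (by norm_num)]
    by_cases h2 : b2 <;> by_cases h3 : b3 <;> simp [m, h2, h3] <;> decide
  · rw [mem_fset_P, hbit 2 (by norm_num)]
    by_cases h2 : b2 <;> by_cases h3 : b3 <;> simp [m, h2, h3] <;> decide
  · rw [mem_fset_P, hbit 3 (by norm_num)]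
    by_cases h2 : b2 <;> by_cases h3 : b3 <;> simp [m, h2, h3] <;> decide

/-! ### Four-fold transitivity -/

theorem m24_trans4 {a b c d a' b' c' d' : GolayPt} (hab : a ≠ b) (hac : a ≠ c) (had : a ≠ d)
    (hbc : b ≠ c) (hbd : b ≠ d) (hcd : c ≠ d) (hab' : a' ≠ b') (hac' : a' ≠ c') (had' : a' ≠ d')
    (hbc' : b' ≠ c') (hbd' : b' ≠ d') (hcd' : c' ≠ d') :
    ∃ σ ∈ M24, σ a = a' ∧ σ b = b' ∧ σ c = c' ∧ σ d = d' := by
  have inj : ∀ {u v w x : GolayPt}, u ≠ v → u ≠ w → u ≠ x → v ≠ w → v ≠ x → w ≠ x →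
      Function.Injective ![u, v, w, x] := by
    intro u v w x h1 h2 h3 h4 h5 h6 i j hij
    fin_cases i <;> fin_cases j <;> simp_all
  obtain ⟨σ, hσ, h⟩ := m24_trans_emb (k := 4) (by norm_num)
    ⟨![a, b, c, d], inj hab hac had hbc hbd hcd⟩
    ⟨![a', b', c', d'], inj hab' hac' had' hbc' hbd' hcd'⟩
  exact ⟨σ, hσ, h 0, h 1, h 2, h 3⟩

/-! ### Action of a permutation fixing the base points -/

theorem symm_fix {σ : Equiv.Perm GolayPt} {p : GolayPt} (h : σ p = p) : σ.symm p = p := by
  conv_lhs => rw [← h]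
  simp

theorem symm_eq_iff {σ : Equiv.Perm GolayPt} {p q : GolayPt} (h : σ p = q) (k : GolayPt) :
    σ.symm k = p ↔ k = q := by
  constructor
  · intro e; rw [← h, ← e]; simp
  · intro e; rw [e, ← h]; simp

end Cfsg.Agent.Lib.Conway
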