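import Cfsg.Agent.Lib.Conway.Co3EntE

set_option autoImplicit false

namespace Cfsg.Agent.Lib.Conway.Co3Data

open Cfsg.Agent.Lib.Conway.VecCert

set_option maxRecDepth 100000 in
theorem okE : allOK gens rootE entE = true := by decide +kernel

end Cfsg.Agent.Lib.Conway.Co3Data
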