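import Cfsg.Agent.Lib.Conway.Co3EntA
import Cfsg.Agent.Lib.Conway.Co3EntB
import Cfsg.Agent.Lib.Conway.Co3EntD

set_option autoImplicit false

namespace Cfsg.Agent.Lib.Conway.Co3Data

open Cfsg.Agent.Lib.Conway.VecCert

set_option maxRecDepth 100000 in
theorem gens_ok : gens.all goodGen = true := by decide +kernel

set_option maxRecDepth 100000 in
theorem okA : allOK gens rootA entA = true := by decide +kernel

set_option maxRecDepth 100000 in
theorem okB : allOK gens rootB entB = true := by decide +kernel

set_option maxRecDepth 100000 in
theorem okD : allOK gens rootD entD = true := by decide +kernel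

end Cfsg.Agent.Lib.Conway.Co3Data
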