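import Cfsg.Agent.Lib.Conway.Basic
import Cfsg.Agent.S0393

set_option autoImplicit false

/-!
Automorphisms of the Leech lattice from the table of the images of the explicit basis `bvec`.
-/

namespace Cfsg.Agent.Lib.Conway

open Cfsg Cfsg.Agent.Lib.Helper93.Leech Cfsg.Agent.Lib.Helper93.Golay
open Cfsg.Agent.Lib.Golay.LeechBasis

/-- the coordinates of a lattice vector with respect to the basis `bvec` -/
def coef (x : Vec) (j : Fin 24) : ℤ := dotInt x (avec j) / 8

theorem dotInt_add_left (x y z : Vec) : dotInt (x + y) z = dotInt x z + dotInt y z := by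
  unfold dotInt
  rw [← Finset.sum_add_distrib]
  exact Finset.sum_congr rfl fun p _ => by simp only [Pi.add_apply]; ring

theorem dotInt_smul_left (a : ℤ) (x z : Vec) : dotInt (a • x) z = a * dotInt x z := by
  unfold dotInt
  rw [Finset.mul_sum]
  exact Finset.sum_congr rfl fun p _ => by simp only [Pi.smul_apply, smul_eq_mul]; ring

theorem dotInt_sum_left {ι : Type*} (s : Finset ι) (f : ι → Vec) (z : Vec) :
    dotInt (∑ i ∈ s, f i) z = ∑ i ∈ s, dotInt (f i) z := by
  unfold dotInt
  rw [Finset.sum_comm]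
  exact Finset.sum_congr rfl fun p _ => by rw [Finset.sum_apply, Finset.sum_mul]

theorem dotInt_symm (x y : Vec) : dotInt x y = dotInt y x := by
  unfold dotInt
  exact Finset.sum_congr rfl fun p _ => mul_comm _ _

theorem sqNorm_eq_dotInt (x : Vec) : sqNorm x = dotInt x x := by
  unfold sqNorm dotInt
  exact Finset.sum_congr rfl fun p _ => sq _

theorem coef_add {x y : Vec} (hx : x ∈ leechLattice) (hy : y ∈ leechLattice) (j : Fin 24) :
    coef (x + y) j = coef x j + coef y j := by
  unfold coef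
  rw [dotInt_add_left]
  obtain ⟨a, ha⟩ := Cfsg.Agent.S0393.eight_dvd_dot hx (avec_mem j)
  obtain ⟨b, hb⟩ := Cfsg.Agent.S0393.eight_dvd_dot hy (avec_mem j)
  rw [ha, hb]
  omega

theorem coef_zero (j : Fin 24) : coef 0 j = 0 := by
  simp [coef, dotInt]

theorem coef_bvec (i j : Fin 24) : coef (bvec i) j = if i = j then 1 else 0 := by
  unfold coef
  rw [dot_bvec_avec]
  split <;> norm_num

/-- the vector in row `j` of a table -/
def tabVec (tab : List (List ℤ)) (j : Fin 24) : Vec :=
  fun p => (tab.getD j.val []).getD (ptIdx p).val 0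

/-- the additive map with prescribed images of the basis vectors -/
def lin (W : Fin 24 → Vec) (x : Vec) : Vec := ∑ j, coef x j • W j

theorem lin_apply (W : Fin 24 → Vec) (x : Vec) (p : GolayPt) :
    lin W x p = ∑ j, coef x j * W j p := by
  simp [lin, Finset.sum_apply]

theorem lin_bvec_self {x : Vec} (hx : x ∈ leechLattice) : lin bvec x = x :=
  (Cfsg.Agent.S0393.expand hx).symm

theorem lin_add (W : Fin 24 → Vec) {x y : Vec} (hx : x ∈ leechLattice) (hy : y ∈ leechLattice) :
    lin W (x + y) = lin W x + lin W y := by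
  unfold lin
  rw [← Finset.sum_add_distrib]
  exact Finset.sum_congr rfl fun j _ => by rw [coef_add hx hy, add_smul]

theorem lin_zero (W : Fin 24 → Vec) : lin W 0 = 0 := by
  unfold lin
  simp [coef_zero]

theorem lin_mem (W : Fin 24 → Vec) (hW : ∀ j, W j ∈ leechLattice) (x : Vec) :
    lin W x ∈ leechLattice :=
  sum_mem fun j _ => zsmul_mem (hW j) _

theorem lin_bvec (W : Fin 24 → Vec) (i : Fin 24) : lin W (bvec i) = W i := by
  unfold lin
  rw [Finset.sum_eq_single i]
  · rw [coef_bvec, if_pos rfl, one_smul]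
  · intro j _ hji
    rw [coef_bvec, if_neg (Ne.symm hji), zero_smul]
  · intro h; exact absurd (Finset.mem_univ i) h

theorem dot_lin (W : Fin 24 → Vec) (x y : Vec) :
    dotInt (lin W x) (lin W y) = ∑ j, ∑ k, coef x j * coef y k * dotInt (W j) (W k) := by
  unfold lin
  rw [dotInt_sum_left]
  apply Finset.sum_congr rfl
  intro j _
  rw [dotInt_smul_left, dotInt_symm, dotInt_sum_left, Finset.mul_sum]
  apply Finset.sum_congr rfl
  intro k _
  rw [dotInt_smul_left, dotInt_symm]
  ring

theorem sqNorm_lin (W : Fin 24 → Vec)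
    (hG : ∀ j k, dotInt (W j) (W k) = dotInt (bvec j) (bvec k)) {x : Vec} (hx : x ∈ leechLattice) :
    sqNorm (lin W x) = sqNorm x := by
  conv_rhs => rw [← lin_bvec_self hx]
  rw [sqNorm_eq_dotInt, sqNorm_eq_dotInt, dot_lin, dot_lin]
  simp_rw [hG]

/-- `lin W` as an additive homomorphism on the lattice -/
def linHom (W : Fin 24 → Vec) : leechLattice →+ Vec where
  toFun v := lin W v
  map_zero' := lin_zero W
  map_add' v w := lin_add W v.2 w.2

theorem lin_lin (W W' : Fin 24 → Vec) (hW : ∀ j, W j ∈ leechLattice)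
    (h : ∀ j, lin W' (W j) = bvec j) {x : Vec} (hx : x ∈ leechLattice) :
    lin W' (lin W x) = x := by
  have e1 : lin W x = ((∑ j, coef x j • (⟨W j, hW j⟩ : leechLattice) : leechLattice) : Vec) := by
    rw [AddSubgroup.val_finsetSum]
    rfl
  have e2 : lin W' (lin W x) = linHom W' (∑ j, coef x j • (⟨W j, hW j⟩ : leechLattice)) := by
    rw [e1]; rfl
  rw [e2, map_sum]
  conv_rhs => rw [← lin_bvec_self hx]
  unfold lin
  apply Finset.sum_congr rfl
  intro j _
  rw [map_zsmul]
  show coef x j • lin W' (W j) = _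
  rw [h j]

/-- version of `mkCo0` with hypotheses on the lattice only -/
def mkCo0L (φ ψ : Vec → Vec)
    (hφ : ∀ x ∈ leechLattice, φ x ∈ leechLattice) (hψ : ∀ x ∈ leechLattice, ψ x ∈ leechLattice)
    (h1 : ∀ x ∈ leechLattice, ψ (φ x) = x) (h2 : ∀ x ∈ leechLattice, φ (ψ x) = x)
    (hadd : ∀ x ∈ leechLattice, ∀ y ∈ leechLattice, φ (x + y) = φ x + φ y)
    (hn : ∀ x ∈ leechLattice, sqNorm (φ x) = sqNorm x) : Co0 :=
  ⟨mkPerm φ ψ hφ hψ h1 h2, ⟨fun v w => Subtype.ext (hadd v v.2 w w.2), fun v => hn v v.2⟩⟩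

/-- the automorphism with prescribed images `W` of the basis vectors, `W'` being the images under
the inverse -/
def tableAut (W W' : Fin 24 → Vec) (hW : ∀ j, W j ∈ leechLattice) (hW' : ∀ j, W' j ∈ leechLattice)
    (hG : ∀ j k, dotInt (W j) (W k) = dotInt (bvec j) (bvec k))
    (h1 : ∀ j, lin W' (W j) = bvec j) (h2 : ∀ j, lin W (W' j) = bvec j) : Co0 :=
  mkCo0L (lin W) (lin W') (fun x _ => lin_mem W hW x) (fun x _ => lin_mem W' hW' x)
    (fun _ hx => lin_lin W W' hW h1 hx) (fun _ hx => lin_lin W' W hW' h2 hx)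
    (fun _ hx _ hy => lin_add W hx hy) (fun _ hx => sqNorm_lin W hG hx)

theorem tableAut_smul (W W' : Fin 24 → Vec) (hW : ∀ j, W j ∈ leechLattice)
    (hW' : ∀ j, W' j ∈ leechLattice)
    (hG : ∀ j k, dotInt (W j) (W k) = dotInt (bvec j) (bvec k))
    (h1 : ∀ j, lin W' (W j) = bvec j) (h2 : ∀ j, lin W (W' j) = bvec j) (v : leechLattice) :
    ((tableAut W W' hW hW' hG h1 h2 • v : leechLattice) : Vec) = lin W v := rfl

end Cfsg.Agent.Lib.Conway
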