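import Cfsg.Agent.Lib.Conway.VecCert
import Cfsg.Agent.Lib.Conway.Table

set_option autoImplicit false

/-! Data for the action of the stabiliser of `L5 = (5, 1^23)` on the 11178 minimal vectors with
scalar product -16 with it (generated by a Python search; every use is kernel-checked). -/

namespace Cfsg.Agent.Lib.Conway.Co3Data

/-- ten elements of `M24` fixing the extra point (coded as in `Helper93`) -/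
def gens : List ℕ := [984210487688190674769446500915783792, 984774851700623201070980095148075502, 961981072189589940821056675118401888, 966600223468248866768553978873828544, 957270278339005300929682933952489481, 959972004444937067599656087492081345, 971798703798819895443101291992167762, 981573710067343527876107974859664787, 970458956772000716879326200569935948, 966583159859702578538474691638887783]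

/-- the root of the orbit of kind A -/
def rootA : ℕ := 22447979379041562318170785932

/-- the root of the orbit of kind D -/
def rootD : ℕ := 27688592214466334404518713753

/-- the root of the orbit of kind C -/
def rootC : ℕ := 32934192456752401892862486664

/-- the root of the orbit of kind E -/
def rootE : ℕ := 36936875322364062497926248825

/-- the root of the orbit of kind B -/
def rootB : ℕ := 42254859410244731602922268776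

/-- the vector of kind A mapped to `rootC` by `g3`, with a word from `rootA` -/
def linkC : ℕ := 22447979379041562318170785932
def linkWordC : List ℕ := []

/-- the vector of kind A mapped to `rootB` by `g3`, with a word from `rootA` -/
def linkB : ℕ := 22447979379042688218077628552
def linkWordB : List ℕ := [8]

/-- the vector of kind A mapped to `rootE` by `g3`, with a word from `rootA` -/
def linkE : ℕ := 22447979379329792694322497672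
def linkWordE : List ℕ := [1]

/-- the vector of kind C mapped to `rootD` by `g3`, with a word from `rootC` -/
def linkD : ℕ := 32349082431836507350841722504
def linkWordD : List ℕ := [3]

/-- images of the basis vectors under `g3` -/
def G3Tab : List (List ℤ) :=
  [[0, 2, 0, -2, -2, 0, 0, 0, 0, 0, 2, 0, 0, 2, 0, 0, -2, 0, -2, 2, 4, 0, 4, 0],
   [1, 1, -1, -1, -1, 1, 1, 1, -1, -1, 1, 1, -1, 1, -1, 1, -1, -1, -1, 1, 1, -1, 3, 1],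
   [0, 2, 0, -2, -2, 0, 2, 0, 0, 0, 0, 0, 2, 2, 0, 0, 0, 0, 0, 0, 2, 0, 2, 0],
   [0, 0, 0, 0, 0, 0, 0, 0, 0, 0, 0, 0, 0, 0, 0, 0, 0, 0, 0, 0, 4, 0, 4, 0],
   [0, 2, 0, -2, 0, 0, 0, 0, 0, 2, 0, 0, 0, 0, 0, 2, 0, 0, -2, 2, 2, 0, 2, 0],
   [0, 2, 0, 0, -2, 2, 0, 0, 2, 0, 0, 0, 0, 0, 0, 0, -2, 0, 0, 2, 2, 0, 2, 0],
   [0, 0, 0, 0, 0, 0, 2, 0, 0, 0, 2, 0, 2, 0, 0, 0, -2, 0, -2, 2, 2, 0, 2, 0],
   [0, 0, 2, -2, 0, 0, 0, 0, 0, 0, 0, 2, 0, 2, 0, 0, -2, 0, 0, 2, 2, 0, 2, 0],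
   [0, 2, 2, 0, -2, 0, 0, 0, 0, 0, 2, 2, 0, 0, 0, 0, 0, 0, -2, 0, 2, 0, 2, 0],
   [-1, 1, -1, -1, -1, 1, -1, 1, -1, 1, 1, 1, 1, 1, 1, -1, -1, -1, -1, 1, 3, -1, 1, 1],
   [-1, 1, -1, -1, -1, -1, 1, -1, 1, -1, 1, 1, -1, 1, 1, 1, -1, 1, -1, 1, 3, -1, 1, 1],
   [1, 1, 1, -1, -1, -1, -1, 1, 1, -1, 1, -1, 1, 1, -1, 1, -1, -1, -1, 1, 3, -1, 1, 1],
   [0, 0, 0, -2, 0, 0, 2, 0, 0, 0, -2, 2, 0, 0, 0, 2, 0, 0, 0, 0, 2, 0, 2, 2],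
   [1, 1, 1, 1, -1, 1, 1, 1, 1, 1, -1, 1, 1, -1, -1, 3, 1, -1, 1, -1, 1, -1, 1, 1],
   [0, 0, 0, 0, 0, 2, 2, 0, 0, 0, 0, 2, 0, 0, 0, 0, -2, 0, 0, 2, 2, -2, 0, 2],
   [0, 0, 2, 0, 0, 0, 2, 0, 0, -2, 0, 2, 2, 0, 0, 2, 0, 0, 0, 0, 0, -2, 0, 2],
   [0, 2, 0, 0, 0, 0, 0, 2, 0, 0, 0, 2, 0, 0, 0, 2, 0, 0, -2, 0, 2, -2, 0, 2],
   [1, 1, 1, -1, 1, 1, -1, 1, 1, 1, -1, 1, 1, -1, 1, 1, -1, -1, 1, 1, 3, -1, 1, 1],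
   [0, 0, 2, 0, 0, 2, 2, 0, 2, 0, 0, 2, 2, 0, 0, 0, 0, 0, 0, 0, 2, 0, 2, 0],
   [1, -1, 1, 1, 1, 1, 1, 1, -1, 1, -1, 3, 1, -1, 1, 1, 1, -1, -1, 1, 1, -1, 1, 1],
   [-1, 1, 1, -1, -1, 1, 1, 1, 1, 1, -1, 3, 1, -1, 1, 1, 1, 1, 1, 1, 1, -1, -1, 1],
   [0, 0, 0, 2, 0, 0, 0, 0, 2, 0, 0, 2, 2, -2, 0, 0, 0, 0, 0, 0, 2, -2, 0, 2],
   [0, 0, 0, 0, 0, 0, 2, 2, 0, 0, 0, 0, 2, 0, 0, 0, 0, -2, 0, 0, 2, -2, 2, 2],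
   [1, 1, 1, -1, -1, 1, 1, 1, 1, 1, 1, 1, 1, 1, 1, 1, -1, 1, -1, 1, 3, -1, 3, 3]]

/-- images of the basis vectors under the inverse of `g3` -/
def G3InvTab : List (List ℤ) :=
  [[0, 2, 0, 0, 0, 0, 0, 0, 0, -2, -2, 2, 0, 0, 2, -2, 0, 4, 0, 4, 0, 2, -2, 0],
   [1, 1, 1, -1, 1, 1, -1, -1, 1, -1, -1, 1, -1, -1, 1, -1, 1, 3, -1, 1, -1, 1, -1, 1],
   [0, 0, 0, 0, 0, 0, 0, 2, 2, -2, -2, 2, 0, 0, 2, 0, 0, 2, 0, 2, 0, 0, 0, 0],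
   [-1, 1, -1, 1, -1, 1, 1, -1, 1, -1, -1, 1, -1, 1, 1, -1, 1, 1, -1, 3, -1, 1, -1, 1],
   [-1, 1, -1, 1, 1, -1, 1, 1, -1, -1, -1, 1, -1, -1, 1, -1, 1, 3, 1, 1, -1, 1, -1, 1],
   [0, 2, 0, 0, 0, 2, 0, 0, 0, 0, -2, 0, 0, 0, 2, 0, 0, 2, 2, 2, 0, 0, -2, 0],
   [0, 2, 2, 0, 0, 0, 2, 0, 0, -2, 0, 0, 0, 0, 2, -2, 0, 2, 0, 2, 0, 0, 0, 0],
   [0, 2, 0, 0, 0, 0, 0, 0, 0, 0, -2, 2, 0, 0, 0, -2, 2, 2, 0, 2, 2, 0, 0, 0],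
   [0, 0, 0, 0, 0, 2, 0, 0, 0, -2, 0, 2, 0, 0, 0, -2, 0, 2, 2, 2, 0, 2, 0, 0],
   [0, 0, 0, 0, 2, 0, 0, 0, 0, 0, -2, 0, 0, 2, 2, -2, 0, 2, 0, 2, 0, 2, 0, 0],
   [1, 1, -1, -1, -1, -1, 1, -1, 1, -1, -1, 1, -1, 1, 1, -1, -1, 3, 1, 1, 1, 1, -1, 1],
   [0, 2, 0, 0, 0, 0, 0, 2, 2, 0, 0, 0, 0, 0, 0, -2, 0, 2, 0, 2, 0, 2, -2, 0],
   [0, 0, 0, 0, 0, 0, 2, 0, 2, 0, -2, 2, -2, 0, 0, 0, 2, 2, 0, 0, 0, 0, 0, 2],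
   [0, 0, 0, 0, 0, 2, 0, 2, 2, 0, 0, 0, -2, 0, 0, 0, 2, 0, 2, 0, -2, 0, 0, 2],
   [1, 1, 1, -1, 1, 1, 1, -1, 1, 1, -1, -1, -1, 1, 1, -1, 1, 3, 1, 1, 1, -1, 1, 1],
   [1, 1, 1, -1, 1, 1, 1, 1, 3, -1, 1, 1, -1, 1, -1, -1, 1, 1, 1, -1, 1, -1, 1, 1],
   [0, 0, 0, 0, 2, 0, 0, 0, 2, 0, 0, 0, -2, 0, 0, -2, 0, 2, 2, 0, 0, 2, 0, 2],
   [-1, 1, -1, 1, 1, 1, 1, 1, 1, 1, -1, -1, -1, 1, 1, -1, 3, 1, 1, 1, 1, 1, -1, 1],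
   [-1, 1, 1, 1, -1, 3, 1, 1, 1, -1, -1, 1, -1, 1, 1, -1, 1, 1, 1, 1, 1, -1, 1, 1],
   [0, 0, 0, 0, 2, 2, 2, 0, 0, 0, 0, 0, -2, 0, 0, -2, 2, 0, 0, 0, 0, 0, 2, 2],
   [1, -1, -1, 1, 1, 1, 1, 1, 1, 1, -1, 1, -1, 1, 1, -1, 1, 1, 3, -1, 1, -1, 1, 1],
   [0, 0, 0, 0, 0, 2, 2, 0, 2, 0, 0, -2, 0, 2, 0, -2, 0, 0, 2, 0, 0, 0, 0, 2],
   [1, 1, 1, 1, 1, 1, 1, 1, 3, -1, -1, -1, -1, 1, 1, -1, 1, 1, -1, 1, -1, 1, 1, 1],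
   [1, 1, 1, 1, 1, 1, 1, 1, 1, -1, -1, 1, -1, 1, 1, -1, 1, 3, 1, 3, 1, 1, -1, 3]]

end Cfsg.Agent.Lib.Conway.Co3Data
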