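import Cfsg.Agent.Lib.Conway.Co3Data

set_option autoImplicit false

namespace Cfsg.Agent.Lib.Conway.Co3Data

def entA0 : List (ℕ × List ℕ) := [
  (22447979379041562318170785932, []),
  (22447979379041562318170785992, [5]),
  (22447979379041562318170786952, [1, 9]),
  (22447979379041562318170802312, [4, 2]),
  (22447979379041562318171048072, [6, 4]),
  (22447979379041562318174980232, [4, 9]),
  (22447979379041562318237894792, [4, 6]),
  (22447979379041562319244527752, [9]),
  (22447979379041562335350655112, [7, 2]),
  (22447979379041562593048692872, [4]),
  (22447979379041566716217297032, [5, 6]),
  (22447979379041632686914963592, [4, 0]),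
  (22447979379042688218077628552, [8]),
  (22447979379059576716680267912, [9, 3]),
  (22447979379329792694322497672, [1]),
  (22447979383653248336598173832, [0, 4]),
  (22447979452828538613008992392, [0]),
  (22447980559633183035582089352, [1, 8]),
  (22447998268507493796751640712, [6]),
  (22448281610496465975464462472, [7]),
  (22452815082320020834869610632, [6, 0]),
  (22525350631496898585351981192, [1, 5]),
  (23685919418326942593069910152, [5, 5])]

/-- the orbit of kind A: codes (increasing) with words from the root -/
def entA : List (ℕ × List ℕ) :=
  entA0

end Cfsg.Agent.Lib.Conway.Co3Data
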