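import Cfsg.Agent.Lib.Conway.Norm6b

set_option autoImplicit false

/-!
`Co0` is transitive on the vectors of sum of squares 48.
-/

namespace Cfsg.Agent.Lib.Conway

open Cfsg Cfsg.Agent.Lib.Helper93.Leech Cfsg.Agent.Lib.Helper93.Golay
open Cfsg.Agent.Lib.Golay.LeechBasis
open scoped Pointwise

def x61 : Vec := vecOfList [0, 0, 0, 0, 0, 2, 0, 0, 0, 2, 0, 2, 0, 0, 0, -2, 0, -2, -2, 2, 0, 2, -4, 0]
def y61 : Vec := vecOfList [0, 0, 0, 0, 2, 2, -2, -2, 0, 2, 0, 2, 0, 2, 0, -2, 2, -2, -2, 0, 0, 0, -2, 0]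
def x62 : Vec := vecOfList [2, 0, 0, 0, 0, 0, 0, 0, 0, 0, 0, -2, 2, -2, -2, -2, 4, 0, -2, 0, 0, 2, 0, 0]
def y62 : Vec := vecOfList [-1, 1, 1, 1, -1, 1, -1, -1, 1, 1, 1, -1, 3, -3, -1, -1, 3, 1, -1, -1, 1, 1, -1, 1]
def x64 : Vec := vecOfList [0, -2, 0, 0, 0, 0, 0, 0, 2, 0, 0, 4, -2, 0, 2, 0, 0, 0, 2, 0, -2, 2, 2, 0]
def y64 : Vec := vecOfList [-1, 1, -1, -1, -1, -1, -1, -1, -1, 1, 1, 1, -5, -1, 1, 1, -1, -1, -1, -1, -1, 1, 1, -1]

set_option maxRecDepth 100000 in
theorem x61_cond : LeechCond x61 0 := by decide +kernel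
set_option maxRecDepth 100000 in
theorem y61_cond : LeechCond y61 0 := by decide +kernel
set_option maxRecDepth 100000 in
theorem x62_cond : LeechCond x62 0 := by decide +kernel
set_option maxRecDepth 100000 in
theorem y62_cond : LeechCond y62 1 := by decide +kernel
set_option maxRecDepth 100000 in
theorem x64_cond : LeechCond x64 0 := by decide +kernel
set_option maxRecDepth 100000 in
theorem y64_cond : LeechCond y64 1 := by decide +kernel

def X61 : leechLattice := ⟨x61, mem_of_leechCond x61_cond⟩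
def Y61 : leechLattice := ⟨y61, mem_of_leechCond y61_cond⟩
def X62 : leechLattice := ⟨x62, mem_of_leechCond x62_cond⟩
def Y62 : leechLattice := ⟨y62, mem_of_leechCond y62_cond⟩
def X64 : leechLattice := ⟨x64, mem_of_leechCond x64_cond⟩
def Y64 : leechLattice := ⟨y64, mem_of_leechCond y64_cond⟩

set_option maxRecDepth 100000 in
theorem xi_x61 : ∀ p, (∑ j, coef x61 j * xiW j p) = y61 p := by
  unfold coef dotInt; decide +kernel
set_option maxRecDepth 100000 in
theorem xi_x62 : ∀ p, (∑ j, coef x62 j * xiW j p) = y62 p := by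
  unfold coef dotInt; decide +kernel
set_option maxRecDepth 100000 in
theorem xi_x64 : ∀ p, (∑ j, coef x64 j * xiW j p) = y64 p := by
  unfold coef dotInt; decide +kernel

theorem conj_X61_Y61 : Conj X61 Y61 :=
  ⟨xi, Subtype.ext (funext fun p => by rw [xi_smul, lin_apply]; exact xi_x61 p)⟩
theorem conj_X62_Y62 : Conj X62 Y62 :=
  ⟨xi, Subtype.ext (funext fun p => by rw [xi_smul, lin_apply]; exact xi_x62 p)⟩
theorem conj_X64_Y64 : Conj X64 Y64 :=
  ⟨xi, Subtype.ext (funext fun p => by rw [xi_smul, lin_apply]; exact xi_x64 p)⟩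

set_option maxRecDepth 100000 in
theorem x61_facts : sqNorm x61 = 48 ∧ (∀ i, x61 i % 2 = 0) ∧ (cls x61 2).card = 8 := by
  unfold sqNorm; decide +kernel
set_option maxRecDepth 100000 in
theorem x62_facts : sqNorm x62 = 48 ∧ (∀ i, x62 i % 2 = 0) ∧ (cls x62 2).card = 8 := by
  unfold sqNorm; decide +kernel
set_option maxRecDepth 100000 in
theorem x64_facts : sqNorm x64 = 48 ∧ (∀ i, x64 i % 2 = 0) ∧ (cls x64 2).card = 8 := by
  unfold sqNorm; decide +kernel
set_option maxRecDepth 100000 in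
theorem y61_facts : sqNorm y61 = 48 ∧ (∀ i, y61 i % 2 = 0) ∧ (cls y61 2).card = 12 := by
  unfold sqNorm; decide +kernel
set_option maxRecDepth 100000 in
theorem y62_facts : sqNorm y62 = 48 ∧ y62 none % 2 = 1 ∧ ∀ i, y62 i ≠ 5 ∧ y62 i ≠ -5 := by
  unfold sqNorm; decide +kernel
set_option maxRecDepth 100000 in
theorem y64_facts : sqNorm y64 = 48 ∧ y64 none % 2 = 1 ∧ y64 (some 12) = -5 := by
  unfold sqNorm; decide +kernel

theorem conj_L212_L42 : Conj L212 L42 :=
  (conj6_212 Y61 y61_facts.1 y61_facts.2.1 y61_facts.2.2).symm.trans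
    (conj_X61_Y61.symm.trans (conj6_42 X61 x61_facts.1 x61_facts.2.1 x61_facts.2.2))

theorem conj_L3_L42 : Conj L3 L42 := by
  rcases conj6_odd Y62 y62_facts.1 y62_facts.2.1 with ⟨⟨i0, h⟩, -⟩ | ⟨-, h⟩
  · exact absurd h (by
      have := y62_facts.2.2 i0
      show ¬ (y62 i0 = 5 ∨ y62 i0 = -5)
      tauto)
  · exact h.symm.trans
      (conj_X62_Y62.symm.trans (conj6_42 X62 x62_facts.1 x62_facts.2.1 x62_facts.2.2))

theorem conj_L5_L42 : Conj L5 L42 := by
  rcases conj6_odd Y64 y64_facts.1 y64_facts.2.1 with ⟨-, h⟩ | ⟨h, -⟩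
  · exact h.symm.trans
      (conj_X64_Y64.symm.trans (conj6_42 X64 x64_facts.1 x64_facts.2.1 x64_facts.2.2))
  · exact absurd y64_facts.2.2 (h (some 12)).2

/-- every vector of sum of squares 48 is conjugate to `(4, -2, 2^7, 0^15)` -/
theorem conj_L42 (v : leechLattice) (hn : sqNorm (v : Vec) = 48) : Conj v L42 := by
  obtain ⟨m, hpar, hsum, hcls⟩ := mem_data v.2
  rcases Int.emod_two_eq_zero_or_one ((v : Vec) none) with h0 | h1
  · have hev : ∀ i, (v : Vec) i % 2 = 0 := fun i => by rw [hpar i, ← hpar none]; exact h0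
    by_cases h2 : ∃ i, (v : Vec) i % 4 = 2
    · obtain ⟨i2, hi2⟩ := h2
      have hD : cls (v : Vec) 2 ∈ CS := hcls 2
      have hDne : i2 ∈ cls (v : Vec) 2 := by rw [mem_cls]; omega
      have hle := four_card_cls_le (v : Vec)
      rw [hn] at hle
      rcases card_of_mem_supports hD with h | h | h | h | h
      · rw [Finset.card_eq_zero] at h
        rw [h] at hDne
        simp at hDne
      · exact conj6_42 v hn hev h
      · exact (conj6_212 v hn hev h).trans conj_L212_L42
      · rw [h] at hle; norm_num at hle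
      · rw [h] at hle; norm_num at hle
    · exfalso
      push Not at h2
      have h4 : ∀ i, (v : Vec) i % 4 = 0 := by
        intro i
        have := hev i
        have := h2 i
        omega
      have hm : m % 2 = 0 := by rw [← hpar none]; exact h0
      exact shape6_none h4 (by omega) hn
  · rcases conj6_odd v hn h1 with ⟨-, h⟩ | ⟨-, h⟩
    · exact h.trans conj_L5_L42
    · exact h.trans conj_L3_L42

/-- transitivity on the vectors of sum of squares 48 -/
theorem trans6 (v w : leechLattice) (hv : sqNorm (v : Vec) = 48) (hw : sqNorm (w : Vec) = 48) :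
    Conj v w :=
  (conj_L42 v hv).trans (conj_L42 w hw).symm

end Cfsg.Agent.Lib.Conway
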