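import Cfsg.Agent.Lib.Conway.Co3CertS
import Cfsg.Agent.Lib.Conway.Co3CertC
import Cfsg.Agent.Lib.Conway.Co3CertE
import Cfsg.Agent.Lib.Conway.Trans6
import Cfsg.Agent.Lib.Helper93.Enum
import Cfsg.Agent.Lib.Helper26.LeechDot3

set_option autoImplicit false

/-!
The stabiliser of `L5 = (5, 1^23)` in `Co0` is transitive on the 11178 minimal vectors whose scalar
product with `L5` is `-16`.
-/

namespace Cfsg.Agent.Lib.Conway.Co3Data

open Cfsg Cfsg.Agent.Lib.Helper93.Leech Cfsg.Agent.Lib.Helper93.Golay
open Cfsg.Agent.Lib.Golay.LeechBasis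
open Cfsg.Agent.Lib.Conway Cfsg.Agent.Lib.Conway.VecCert

/-! ### The extra automorphism `g3` -/

/-- images of the basis vectors under `g3` -/
def g3W : Fin 24 → Vec := tabVec G3Tab
/-- images of the basis vectors under the inverse of `g3` -/
def g3W' : Fin 24 → Vec := tabVec G3InvTab

set_option maxRecDepth 100000 in
theorem g3W_cond : ∀ j : Fin 24, LeechCond (g3W j) (g3W j (ptOf 0)) := by decide +kernel

set_option maxRecDepth 100000 in
theorem g3W'_cond : ∀ j : Fin 24, LeechCond (g3W' j) (g3W' j (ptOf 0)) := by decide +kernel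

set_option maxRecDepth 100000 in
theorem g3W_gram : ∀ j k : Fin 24, dotInt (g3W j) (g3W k) = dotInt (bvec j) (bvec k) := by
  unfold dotInt; decide +kernel

set_option maxRecDepth 100000 in
theorem g3_inv1 : ∀ (j : Fin 24) (p : GolayPt), (∑ k, coef (g3W j) k * g3W' k p) = bvec j p := by
  unfold coef dotInt; decide +kernel

set_option maxRecDepth 100000 in
theorem g3_inv2 : ∀ (j : Fin 24) (p : GolayPt), (∑ k, coef (g3W' j) k * g3W k p) = bvec j p := by
  unfold coef dotInt; decide +kernel

/-- the extra automorphism -/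
def g3 : Co0 :=
  tableAut g3W g3W' (fun j => mem_of_leechCond (g3W_cond j)) (fun j => mem_of_leechCond (g3W'_cond j))
    g3W_gram (fun j => funext fun p => by rw [lin_apply]; exact g3_inv1 j p)
    (fun j => funext fun p => by rw [lin_apply]; exact g3_inv2 j p)

theorem g3_smul (v : leechLattice) : ((g3 • v : leechLattice) : Vec) = lin g3W v := rfl

set_option maxRecDepth 100000 in
theorem g3_v5 : ∀ p, (∑ j, coef v5 j * g3W j p) = v5 p := by
  unfold coef dotInt; decide +kernel

theorem g3_L5 : g3 • L5 = L5 :=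
  Subtype.ext (funext fun p => by rw [g3_smul, lin_apply]; exact g3_v5 p)

theorem reach_g3 {y r : ℕ} (h : ∀ p, (∑ j, coef (decV y) j * g3W j p) = decV r p) : Reach y r :=
  ⟨g3, g3_L5, fun v hv => by
    rw [g3_smul, hv]
    funext p
    rw [lin_apply]
    exact h p⟩

/-! ### The links between the five orbits of the monomial stabiliser -/

theorem gens_spec : ∀ S ∈ gens, goodGen S = true := fun S hS => List.all_eq_true.1 gens_ok S hS

set_option maxRecDepth 100000 in
theorem linkC_ok : wordOK gens rootA linkWordC linkC = true := by decide +kernel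
set_option maxRecDepth 100000 in
theorem linkB_ok : wordOK gens rootA linkWordB linkB = true := by decide +kernel
set_option maxRecDepth 100000 in
theorem linkE_ok : wordOK gens rootA linkWordE linkE = true := by decide +kernel
set_option maxRecDepth 100000 in
theorem linkD_ok : wordOK gens rootC linkWordD linkD = true := by decide +kernel

set_option maxRecDepth 100000 in
theorem linkC_g3 : ∀ p, (∑ j, coef (decV linkC) j * g3W j p) = decV rootC p := by
  unfold coef dotInt; decide +kernel
set_option maxRecDepth 100000 in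
theorem linkB_g3 : ∀ p, (∑ j, coef (decV linkB) j * g3W j p) = decV rootB p := by
  unfold coef dotInt; decide +kernel
set_option maxRecDepth 100000 in
theorem linkE_g3 : ∀ p, (∑ j, coef (decV linkE) j * g3W j p) = decV rootE p := by
  unfold coef dotInt; decide +kernel
set_option maxRecDepth 100000 in
theorem linkD_g3 : ∀ p, (∑ j, coef (decV linkD) j * g3W j p) = decV rootD p := by
  unfold coef dotInt; decide +kernel

theorem reach_rootC : Reach rootA rootC :=
  (reach_of_wordOK gens gens_spec _ _ _ linkC_ok).trans (reach_g3 linkC_g3)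
theorem reach_rootB : Reach rootA rootB :=
  (reach_of_wordOK gens gens_spec _ _ _ linkB_ok).trans (reach_g3 linkB_g3)
theorem reach_rootE : Reach rootA rootE :=
  (reach_of_wordOK gens gens_spec _ _ _ linkE_ok).trans (reach_g3 linkE_g3)
theorem reach_rootD : Reach rootA rootD :=
  reach_rootC.trans ((reach_of_wordOK gens gens_spec _ _ _ linkD_ok).trans (reach_g3 linkD_g3))

/-! ### All the codes -/

/-- the codes of the 11178 vectors, in increasing order -/
def allCodes : List ℕ :=
  entA.map Prod.fst ++ (entD.map Prod.fst ++ (entC.map Prod.fst ++ (entE.map Prod.fst ++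
    entB.map Prod.fst)))

set_option maxRecDepth 100000 in
theorem allCodes_chain : chainLt allCodes = true := by decide +kernel

set_option maxRecDepth 100000 in
theorem allCodes_length : allCodes.length = 11178 := by decide +kernel

set_option maxRecDepth 100000 in
theorem allCodes_lt : allCodes.all (fun c => Nat.blt c (2 ^ 96)) = true := by decide +kernel

theorem reach_ent (root : ℕ) (ent : List (ℕ × List ℕ)) (hr : Reach rootA root)
    (h : allOK gens root ent = true) : ∀ c ∈ ent.map Prod.fst, Reach rootA c := by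
  intro c hc
  obtain ⟨e, he, rfl⟩ := List.mem_map.1 hc
  exact hr.trans (reach_of_allOK gens gens_spec root ent h e he)

theorem reach_all : ∀ c ∈ allCodes, Reach rootA c := by
  intro c hc
  unfold allCodes at hc
  rcases List.mem_append.1 hc with h | hc
  · exact reach_ent rootA entA (Reach.refl _) okA c h
  rcases List.mem_append.1 hc with h | hc
  · exact reach_ent rootD entD reach_rootD okD c h
  rcases List.mem_append.1 hc with h | hc
  · exact reach_ent rootC entC reach_rootC okC c h
  rcases List.mem_append.1 hc with h | h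
  · exact reach_ent rootE entE reach_rootE okE c h
  · exact reach_ent rootB entB reach_rootB okB c h

/-! ### The root vector and the orbit -/

set_option maxRecDepth 100000 in
theorem rootA_cond : LeechCond (decV rootA) 0 := by decide +kernel

/-- the root vector `(4 at 0, -4 at the extra point)` -/
def RA : leechLattice := ⟨decV rootA, mem_of_leechCond rootA_cond⟩

set_option maxRecDepth 100000 in
theorem RA_facts : sqNorm (decV rootA) = 32 ∧ dotInt v5 (decV rootA) = -16 := by
  unfold sqNorm dotInt; decide +kernel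

/-- the set of the minimal vectors with scalar product `-16` with `L5` -/
def Xs : Set leechLattice :=
  {x | sqNorm (x : Vec) = 32 ∧ dotInt (L5 : Vec) (x : Vec) = -16}

/-- the orbit of the root under the stabiliser of `L5` -/
def Orb : Set leechLattice := {x | ∃ g : Co0, g • L5 = L5 ∧ g • RA = x}

theorem Orb_sub : Orb ⊆ Xs := by
  rintro x ⟨g, hg, rfl⟩
  refine ⟨?_, ?_⟩
  · rw [co0_norm]; exact RA_facts.1
  · have h := Cfsg.Agent.Lib.Helper26.LeechDot.co0_dot g L5 RA
    rw [hg] at h
    rw [h]
    exact RA_facts.2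

theorem mem_Orb_of_reach {t : ℕ} (h : Reach rootA t) : ∃ x ∈ Orb, (x : Vec) = decV t := by
  obtain ⟨g, hg, hv⟩ := h
  exact ⟨g • RA, ⟨g, hg, rfl⟩, hv RA rfl⟩

/-! ### The census -/

open Cfsg.Agent.Lib.Helper26.LeechDot Cfsg.Agent.Lib.Golay.LeechCount in
theorem hsum51 : ∀ m : ℤ, m = 0 ∨ m = 1 → ∀ (c : Finset GolayPt),
    ∀ x ∈ box K5 m c, dotInt (zv 5 1) x = -16 → (∑ i, x i) % 8 = (4 * m) % 8 := by
  intro m hm c x hx hdot
  rw [dot_zv] at hdot
  have := (mem_box.1 hx none).2
  split_ifs at this <;> rcases hm with rfl | rfl <;> omega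

open Cfsg.Agent.Lib.Helper26.LeechDot in
theorem Zc51 : Zc 5 1 = 140 := by decide

open Cfsg.Agent.Lib.Helper26.LeechDot in
set_option maxRecDepth 100000 in
theorem tot16 : totalD (gz 5 0) (gz 5 1) (gz 5 2) (gz 5 3) (gz 1 0) (gz 1 1) (gz 1 2) (gz 1 3)
    (400 * 32 + ((-16 : ℤ) + Zc 5 1).toNat) = 11178 := by decide +kernel

open Cfsg.Agent.Lib.Helper26.LeechDot in
theorem census :
    {w : GolayPt → ℤ | w ∈ leechLattice ∧ sqNorm w = 32 ∧ dotInt (L5 : Vec) w = -16}.ncard =
      11178 := by
  have h := ncard_SD_eq 5 1 (by rw [Zc51]; norm_num) 32 (by norm_num) (-16)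
    (by rw [Zc51]; norm_num) (by rw [Zc51]; norm_num) hsum51
  rw [tot16] at h
  exact h

theorem ncard_Xs : Xs.ncard = 11178 := by
  rw [← census]
  symm
  apply Set.ncard_congr (fun w hw => (⟨w, hw.1⟩ : leechLattice))
  · rintro w ⟨h1, h2, h3⟩
    exact ⟨h2, h3⟩
  · intro w w' _ _ h
    exact congrArg Subtype.val h
  · rintro ⟨w, hw⟩ ⟨h2, h3⟩
    exact ⟨w, ⟨hw, h2, h3⟩, rfl⟩

/-! ### Transitivity -/

theorem Orb_eq : Orb = Xs := by
  have hfin : Xs.Finite := Set.finite_of_ncard_pos (by rw [ncard_Xs]; norm_num)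
  apply Set.eq_of_subset_of_ncard_le Orb_sub _ hfin
  rw [ncard_Xs]
  -- the decoded codes are 11178 distinct vectors in the image of `Orb`
  have hlt : ∀ c ∈ allCodes, c < 2 ^ 96 := by
    intro c hc
    have := List.all_eq_true.1 allCodes_lt c hc
    simpa [Nat.blt_eq] using this
  have hD : ({v : Vec | ∃ c ∈ allCodes, decV c = v} : Set Vec).ncard = allCodes.length :=
    ncard_eq_length decV allCodes (nodup_of_chainLt allCodes_chain)
      (fun x hx y hy h => decV_inj (hlt x hx) (hlt y hy) h) _ (fun _ => Iff.rfl)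
  have himg : ((fun x : leechLattice => (x : Vec)) '' Orb).ncard = Orb.ncard :=
    Set.ncard_image_of_injective _ Subtype.val_injective
  have hsub : {v : Vec | ∃ c ∈ allCodes, decV c = v} ⊆ (fun x : leechLattice => (x : Vec)) '' Orb := by
    rintro v ⟨c, hc, rfl⟩
    obtain ⟨x, hx, hxv⟩ := mem_Orb_of_reach (reach_all c hc)
    exact ⟨x, hx, hxv⟩
  have hfin2 : ((fun x : leechLattice => (x : Vec)) '' Orb).Finite :=
    (hfin.subset Orb_sub).image _
  have := Set.ncard_le_ncard hsub hfin2
  rw [hD, allCodes_length, himg] at this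
  exact this

/-- the stabiliser of `L5` is transitive on the minimal vectors with scalar product `-16` -/
theorem stab_L5_trans (x x' : leechLattice) (hx : x ∈ Xs) (hx' : x' ∈ Xs) :
    ∃ g : Co0, g • L5 = L5 ∧ g • x = x' := by
  rw [← Orb_eq] at hx hx'
  obtain ⟨g1, hg1, rfl⟩ := hx
  obtain ⟨g2, hg2, rfl⟩ := hx'
  refine ⟨g2 * g1⁻¹, ?_, ?_⟩
  · rw [mul_smul]
    have : g1⁻¹ • L5 = L5 := by
      conv_lhs => rw [← hg1]
      rw [inv_smul_smul]
    rw [this, hg2]
  · rw [mul_smul, inv_smul_smul]

end Cfsg.Agent.Lib.Conway.Co3Data
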