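import Cfsg.Agent.Lib.Conway.Trans8
import Cfsg.Agent.S1571
import Cfsg.Agent.S0396

set_option autoImplicit false

/-!
The order of `Co0`, from the transitivity on the vectors of sum of squares 64 and the stabiliser of
the standard cross.
-/

namespace Cfsg.Agent.Lib.Conway

open Cfsg Cfsg.Agent.Lib.Helper93.Leech Cfsg.Agent.Lib.Helper93.Golay
open Cfsg.Agent.Lib.Golay.LeechBasis
open Cfsg.Agent.S1571 (Stab mono_stab signedPerm_single fr_mem_stdCross)
open scoped Pointwise

/-- the base frame vector -/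
def F0 : leechLattice := fr pa

theorem sqNorm_single (i : GolayPt) (s : ℤ) : sqNorm (Pi.single i s : Vec) = s ^ 2 := by
  unfold sqNorm
  rw [Finset.sum_eq_single i]
  · simp
  · intro j _ hj; simp [hj]
  · intro h; exact absurd (Finset.mem_univ i) h

theorem dot_single (i : GolayPt) (s : ℤ) (y : Vec) : dotInt (Pi.single i s) y = s * y i := by
  unfold dotInt
  rw [Finset.sum_eq_single i]
  · simp
  · intro j _ hj; simp [hj]
  · intro h; exact absurd (Finset.mem_univ i) h

theorem sqNorm_F0 : sqNorm (F0 : Vec) = 64 := by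
  show sqNorm (Pi.single pa 8 : Vec) = 64
  rw [sqNorm_single]; norm_num

/-! ### The orbit of the base frame vector -/

theorem orbit_F0 : MulAction.orbit Co0 F0 = {x : leechLattice | sqNorm (x : Vec) = 64} := by
  ext x
  constructor
  · rintro ⟨g, rfl⟩
    show sqNorm ((g • F0 : leechLattice) : Vec) = 64
    rw [co0_norm]; exact sqNorm_F0
  · intro hx
    obtain ⟨g, hg⟩ := trans8 F0 x sqNorm_F0 hx
    exact ⟨g, hg⟩

theorem card_orbit_F0 : Nat.card (MulAction.orbit Co0 F0) = 398034000 := by
  rw [orbit_F0, Nat.card_coe_set_eq, ← Cfsg.Agent.S0396.result,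
    ← Set.ncard_image_of_injective _ Subtype.val_injective]
  congr 1
  ext x
  simp only [Set.mem_image, Set.mem_setOf_eq]
  constructor
  · rintro ⟨y, hy, rfl⟩; exact ⟨y.2, hy⟩
  · rintro ⟨h1, h2⟩; exact ⟨⟨x, h1⟩, h2, rfl⟩

theorem card_Co0_eq :
    Nat.card Co0 = 398034000 * Nat.card (MulAction.stabilizer Co0 F0) := by
  rw [Subgroup.card_eq_card_quotient_mul_card_subgroup (MulAction.stabilizer Co0 F0),
    ← Nat.card_congr (MulAction.orbitEquivQuotientStabilizer Co0 F0), card_orbit_F0]

/-! ### The stabiliser of the base frame vector stabilises the standard cross -/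

set_option maxRecDepth 100000 in
theorem diff_cond : ∀ i : GolayPt,
    LeechCond (fun k => (if k = pa then 4 else 0) - (if k = i then 4 else 0)) 0 ∧
    LeechCond (fun k => (if k = pa then 4 else 0) + (if k = i then 4 else 0)) 0 := by
  decide +kernel

theorem frame_cong (i : GolayPt) (s : ℤ) (hs : s = 8 ∨ s = -8) :
    ∃ z ∈ leechLattice, (F0 : Vec) - Pi.single i s = z + z := by
  rcases hs with rfl | rfl
  · refine ⟨_, mem_of_leechCond (diff_cond i).1, ?_⟩
    funext k
    show (Pi.single pa 8 : Vec) k - (Pi.single i 8 : Vec) k = _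
    simp only [Pi.single_apply, Pi.add_apply]
    split_ifs <;> norm_num
  · refine ⟨_, mem_of_leechCond (diff_cond i).2, ?_⟩
    funext k
    show (Pi.single pa 8 : Vec) k - (Pi.single i (-8) : Vec) k = _
    simp only [Pi.single_apply, Pi.add_apply]
    split_ifs <;> norm_num

theorem mem_stdCross_of_cong (y : Vec) (hy : y ∈ leechLattice) (hn : sqNorm y = 64)
    (hc : ∃ z ∈ leechLattice, (F0 : Vec) - y = z + z) : y ∈ stdCross := by
  by_contra hnot
  have hzero : ∀ i, y i = 0 := by
    intro i
    obtain ⟨z, hz, hzy⟩ := hc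
    obtain ⟨z', hz', hzi⟩ := frame_cong i 8 (Or.inl rfl)
    have hne : (Pi.single i 8 : Vec) ≠ y := fun h => hnot ⟨i, 8, Or.inl rfl, h.symm⟩
    have hcong : ∃ u ∈ leechLattice, (Pi.single i 8 : Vec) - y = 2 • u := by
      refine ⟨z - z', leechLattice.sub_mem hz hz', ?_⟩
      have e1 : (Pi.single i 8 : Vec) - y = ((F0 : Vec) - y) - ((F0 : Vec) - Pi.single i 8) := by abel
      rw [e1, hzy, hzi, two_smul]
      abel
    have hs8 : sqNorm (Pi.single i 8 : Vec) ≤ 64 := by rw [sqNorm_single]; norm_num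
    rcases Cfsg.Agent.S5592.result (Pi.single i 8) y (single8_mem i) hy hne hs8 hn.le hcong
      with h | h
    · exfalso
      apply hnot
      refine ⟨i, -8, Or.inr rfl, ?_⟩
      have : y = -(Pi.single i 8 : Vec) := by rw [h]; simp
      rw [this, ← Pi.single_neg]
    · have := h.2.2
      rw [dot_single] at this
      omega
  have : sqNorm y = 0 := by
    unfold sqNorm
    simp [hzero]
  omega

theorem co0_sub (g : Co0) (v w : leechLattice) : g • (v - w) = g • v - g • w :=
  (co0Hom g).map_sub v w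

theorem stab_of_fix (h : Co0) (hh : h • F0 = F0) : Stab h := by
  rintro v ⟨i, s, hs, hv⟩
  apply mem_stdCross_of_cong _ (h • v).2
  · rw [co0_norm, hv, sqNorm_single]
    rcases hs with rfl | rfl <;> norm_num
  · obtain ⟨z, hz, hzv⟩ := frame_cong i s hs
    have e : F0 - v = (⟨z, hz⟩ : leechLattice) + ⟨z, hz⟩ := by
      apply Subtype.ext
      rw [AddSubgroup.coe_sub, hv, hzv]
      rfl
    refine ⟨((h • (⟨z, hz⟩ : leechLattice) : leechLattice) : Vec),
      (h • (⟨z, hz⟩ : leechLattice)).2, ?_⟩
    have e2 := congrArg (fun x : leechLattice => ((h • x : leechLattice) : Vec)) e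
    simp only [co0_sub, co0_add, hh, AddSubgroup.coe_sub, AddSubgroup.coe_add] at e2
    exact e2

/-! ### Monomial elements reaching every frame vector -/

theorem exists_mono_frame (f : leechLattice) (hf : (f : Vec) ∈ stdCross) :
    ∃ g : Co0, Stab g ∧ g • F0 = f := by
  obtain ⟨j, s, hs, hfv⟩ := hf
  obtain ⟨σ, hσ, hσj⟩ := m24_trans1 pa j
  rcases hs with rfl | rfl
  · refine ⟨mono σ ∅ hσ empty_mem_supports, mono_stab _ _ _ _, Subtype.ext ?_⟩
    rw [mono_smul, hfv]
    show signedPerm σ ∅ (Pi.single pa 8) = _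
    rw [signedPerm_single, hσj]
    simp
  · refine ⟨mono σ Finset.univ hσ univ_mem_supports, mono_stab _ _ _ _, Subtype.ext ?_⟩
    rw [mono_smul, hfv]
    show signedPerm σ Finset.univ (Pi.single pa 8) = _
    rw [signedPerm_single, hσj]
    simp

/-- the frame vectors -/
abbrev Frame : Type := {f : leechLattice // (f : Vec) ∈ stdCross}

noncomputable def mf (f : Frame) : Co0 := (exists_mono_frame f.1 f.2).choose

theorem mf_stab (f : Frame) : Stab (mf f) := (exists_mono_frame f.1 f.2).choose_spec.1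

theorem mf_smul (f : Frame) : mf f • F0 = f.1 := (exists_mono_frame f.1 f.2).choose_spec.2

theorem stab_mul {g h : Co0} (hg : Stab g) (hh : Stab h) : Stab (g * h) :=
  fun v hv => hg _ (hh v hv)

/-- the stabiliser of the standard cross, fibred over the frame vectors -/
noncomputable def stabEquiv :
    {g : Co0 // Stab g} ≃ Frame × MulAction.stabilizer Co0 F0 where
  toFun g :=
    (⟨g.1 • F0, g.2 F0 (fr_mem_stdCross pa)⟩,
      ⟨(mf ⟨g.1 • F0, g.2 F0 (fr_mem_stdCross pa)⟩)⁻¹ * g.1, by
        rw [MulAction.mem_stabilizer_iff, mul_smul, inv_smul_eq_iff, mf_smul]⟩)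
  invFun p := ⟨mf p.1 * p.2.1, stab_mul (mf_stab p.1) (stab_of_fix p.2.1 p.2.2)⟩
  left_inv g := Subtype.ext (mul_inv_cancel_left _ _)
  right_inv p := by
    obtain ⟨f, h, hh⟩ := p
    have hh' : h • F0 = F0 := hh
    have key : (⟨(mf f * h) • F0, stab_mul (mf_stab f) (stab_of_fix h hh) F0 (fr_mem_stdCross pa)⟩ :
        Frame) = f := by
      apply Subtype.ext
      show (mf f * h) • F0 = f.1
      rw [mul_smul, hh', mf_smul]
    have aux : ∀ f' : Frame, f' = f → (mf f')⁻¹ * (mf f * h) = h := by
      rintro _ rfl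
      exact inv_mul_cancel_left _ _
    refine Prod.ext key (Subtype.ext ?_)
    exact aux _ key

theorem fr_ne_neg_fr (i j : GolayPt) : fr i ≠ -fr j := by
  intro h
  have := congrArg (fun v : leechLattice => (v : Vec) i) h
  simp only [fr_coe, AddSubgroup.coe_neg, Pi.neg_apply, Pi.single_eq_same, Pi.single_apply] at this
  split at this <;> omega

theorem card_frame : Nat.card Frame = 48 := by
  let φ : GolayPt × Bool → Frame := fun p =>
    if p.2 then ⟨fr p.1, fr_mem_stdCross p.1⟩
    else ⟨-fr p.1, ⟨p.1, -8, Or.inr rfl, by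
      show -(Pi.single p.1 8 : Vec) = _
      rw [← Pi.single_neg]⟩⟩
  have hinj : Function.Injective φ := by
    rintro ⟨i, b⟩ ⟨j, b'⟩ h
    have h' := congrArg Subtype.val h
    cases b <;> cases b' <;> simp only [φ, if_true, if_false, Bool.false_eq_true] at h'
    · have := Cfsg.Agent.S1571.fr_injective (neg_injective h')
      rw [this]
    · exact absurd h'.symm (fr_ne_neg_fr j i)
    · exact absurd h' (fr_ne_neg_fr i j)
    · have := Cfsg.Agent.S1571.fr_injective h'
      rw [this]
  have hsurj : Function.Surjective φ := by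
    rintro ⟨f, j, s, hs, hfv⟩
    rcases hs with rfl | rfl
    · exact ⟨(j, true), Subtype.ext (Subtype.ext hfv.symm)⟩
    · refine ⟨(j, false), Subtype.ext (Subtype.ext ?_)⟩
      show -(Pi.single j 8 : Vec) = (f : Vec)
      rw [hfv, ← Pi.single_neg]
  rw [← Nat.card_congr (Equiv.ofBijective φ ⟨hinj, hsurj⟩), Nat.card_prod, card_golayPt']
  simp

/-- the order of `Co0` -/
theorem card_Co0 : Nat.card Co0 = 8315553613086720000 := by
  have h1 := card_Co0_eq
  have h2 := Nat.card_congr stabEquiv
  rw [Nat.card_prod, card_frame] at h2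
  have h3 := Cfsg.Agent.S1571.result.2
  have h4 : Nat.card {g : Co0 // Stab g} = 4096 * 244823040 := h3
  rw [h4] at h2
  omega

end Cfsg.Agent.Lib.Conway
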