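import Cfsg.Agent.Lib.Conway.PrimSimple2
import Cfsg.Agent.Lib.Conway.Order
import Cfsg.Agent.Lib.Conway.Co2Base
import Cfsg.Prelude.Def_Sporadic

set_option autoImplicit false

/-!
The stabiliser of a vector of sum of squares 48 is simple of order 495766656000 (the Conway group
`Co3`), from its transitive action on the 11178 minimal vectors of scalar product `-16` (S1640), the
sizes of the suborbits (S1641) and the simplicity of the point stabiliser (S0405).
-/

namespace Cfsg.Agent.Lib.Conway.Co3S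

open Cfsg Cfsg.Agent.Lib.Conway MulAction

/-- the minimal vectors of scalar product `-16` with `u` -/
def Om (u : leechLattice) : Set leechLattice :=
  {x : leechLattice | sqNorm (x : Vec) = 32 ∧ dotInt (u : Vec) (x : Vec) = -16}

/-- the statement S1640 -/
def P40 : Prop := ∀ u : leechLattice, sqNorm (u : Vec) = 48 →
  (Om u).ncard = 11178 ∧ ∀ x ∈ Om u, ∀ x' ∈ Om u, ∃ g : Co0, g • u = u ∧ g • x = x'

/-- the statement S1641 -/
def P41 : Prop := ∀ u x : leechLattice, sqNorm (u : Vec) = 48 → x ∈ Om u →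
  ∃ y₁ ∈ Om u, ∃ y₂ ∈ Om u, ∃ y₃ ∈ Om u, ∃ y₄ ∈ Om u,
    (orbit ↥(stabilizer Co0 u ⊓ stabilizer Co0 x) y₁).ncard = 352 ∧
    (orbit ↥(stabilizer Co0 u ⊓ stabilizer Co0 x) y₂).ncard = 1100 ∧
    (orbit ↥(stabilizer Co0 u ⊓ stabilizer Co0 x) y₃).ncard = 4125 ∧
    (orbit ↥(stabilizer Co0 u ⊓ stabilizer Co0 x) y₄).ncard = 5600 ∧
    Om u = {x} ∪ orbit ↥(stabilizer Co0 u ⊓ stabilizer Co0 x) y₁ ∪
      orbit ↥(stabilizer Co0 u ⊓ stabilizer Co0 x) y₂ ∪
      orbit ↥(stabilizer Co0 u ⊓ stabilizer Co0 x) y₃ ∪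
      orbit ↥(stabilizer Co0 u ⊓ stabilizer Co0 x) y₄

/-- the statement S0405 -/
def P05 : Prop := ∀ v w : leechLattice, sqNorm (v : Vec) = 48 → sqNorm (w : Vec) = 48 →
  dotInt (v : Vec) (w : Vec) = -32 → IsHS ↥(stabilizer Co0 v ⊓ stabilizer Co0 w)

theorem smul_mem_Om {u : leechLattice} {g : Co0} (hg : g • u = u) {x : leechLattice}
    (hx : x ∈ Om u) : g • x ∈ Om u := by
  refine ⟨?_, ?_⟩
  · rw [co0_norm]; exact hx.1
  · have := co0_dot g u x
    rw [hg] at this
    rw [this]; exact hx.2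

instance act (u : leechLattice) : MulAction (stabilizer Co0 u) (Om u) where
  smul g x := ⟨(g : Co0) • (x : leechLattice), smul_mem_Om (mem_stabilizer_iff.1 g.2) x.2⟩
  one_smul x := Subtype.ext (one_smul Co0 (x : leechLattice))
  mul_smul g h x := Subtype.ext (mul_smul (g : Co0) (h : Co0) (x : leechLattice))

theorem act_coe (u : leechLattice) (g : stabilizer Co0 u) (x : Om u) :
    ((g • x : Om u) : leechLattice) = (g : Co0) • (x : leechLattice) := rfl

theorem finite_Co0 : Finite Co0 :=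
  Nat.finite_of_card_ne_zero (by rw [card_Co0]; norm_num)

/-- the image of an orbit of the point stabiliser -/
theorem orbit_val (u : leechLattice) (x0 z : Om u) :
    Subtype.val '' (orbit (stabilizer (stabilizer Co0 u) x0) z) =
      orbit ↥(stabilizer Co0 u ⊓ stabilizer Co0 (x0 : leechLattice)) (z : leechLattice) := by
  ext t
  constructor
  · rintro ⟨_, ⟨h, rfl⟩, rfl⟩
    refine ⟨⟨((h : stabilizer Co0 u) : Co0), ?_⟩, rfl⟩
    rw [Subgroup.mem_inf]
    refine ⟨(h : stabilizer Co0 u).2, ?_⟩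
    rw [mem_stabilizer_iff]
    exact congrArg Subtype.val (mem_stabilizer_iff.1 h.2)
  · rintro ⟨k, rfl⟩
    have hk := Subgroup.mem_inf.1 k.2
    refine ⟨(⟨(k : Co0), hk.1⟩ : stabilizer Co0 u) • z, ⟨⟨⟨(k : Co0), hk.1⟩, ?_⟩, rfl⟩, rfl⟩
    rw [mem_stabilizer_iff]
    apply Subtype.ext
    exact mem_stabilizer_iff.1 hk.2

theorem ncard_orbit (u : leechLattice) (x0 z : Om u) :
    (orbit (stabilizer (stabilizer Co0 u) x0) z).ncard =
      (orbit ↥(stabilizer Co0 u ⊓ stabilizer Co0 (x0 : leechLattice)) (z : leechLattice)).ncard := by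
  rw [← orbit_val, Set.ncard_image_of_injective _ Subtype.val_injective]

theorem mem_orbit_of_val (u : leechLattice) (x0 z t : Om u)
    (h : (t : leechLattice) ∈
      orbit ↥(stabilizer Co0 u ⊓ stabilizer Co0 (x0 : leechLattice)) (z : leechLattice)) :
    t ∈ orbit (stabilizer (stabilizer Co0 u) x0) z := by
  rw [← orbit_val] at h
  obtain ⟨t', ht', e⟩ := h
  rwa [Subtype.ext e] at ht'

theorem fix_of_fix (g : Co0) (u t : leechLattice) (h1 : g • u = u) (h2 : g • (-(u + t)) = -(u + t)) :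
    g • t = t := by
  have e : t = -(u + -(u + t)) := by abel
  calc g • t = g • (-(u + -(u + t))) := by rw [← e]
    _ = -(u + -(u + t)) := by rw [co0_neg, co0_add, h1, h2]
    _ = t := e.symm

/-- the point stabiliser as a joint stabiliser of two vectors of sum of squares 48 -/
def stabEquiv (u : leechLattice) (x0 : Om u) :
    stabilizer (stabilizer Co0 u) x0 ≃*
      ↥(stabilizer Co0 u ⊓ stabilizer Co0 (-(u + (x0 : leechLattice)))) where
  toFun h := ⟨((h : stabilizer Co0 u) : Co0), by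
    rw [Subgroup.mem_inf]
    refine ⟨(h : stabilizer Co0 u).2, ?_⟩
    rw [mem_stabilizer_iff, co0_neg, co0_add, mem_stabilizer_iff.1 (h : stabilizer Co0 u).2]
    have : ((h : stabilizer Co0 u) : Co0) • (x0 : leechLattice) = x0 :=
      congrArg Subtype.val (mem_stabilizer_iff.1 h.2)
    rw [this]⟩
  invFun k := ⟨⟨(k : Co0), (Subgroup.mem_inf.1 k.2).1⟩, by
    rw [mem_stabilizer_iff]
    apply Subtype.ext
    show (k : Co0) • (x0 : leechLattice) = x0
    exact fix_of_fix (k : Co0) u x0 (mem_stabilizer_iff.1 (Subgroup.mem_inf.1 k.2).1)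
      (mem_stabilizer_iff.1 (Subgroup.mem_inf.1 k.2).2)⟩
  left_inv h := rfl
  right_inv k := rfl
  map_mul' a b := rfl

theorem w_facts {u x : leechLattice} (hu : sqNorm (u : Vec) = 48) (hx : x ∈ Om u) :
    sqNorm ((-(u + x) : leechLattice) : Vec) = 48 ∧
      dotInt (u : Vec) ((-(u + x) : leechLattice) : Vec) = -32 := by
  have h1 := Cfsg.Agent.S0393.sqNorm_add (u : Vec) (x : Vec)
  rw [hu, hx.1, hx.2] at h1
  have e : ((-(u + x) : leechLattice) : Vec) = -((u : Vec) + (x : Vec)) := rfl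
  refine ⟨?_, ?_⟩
  · rw [e]
    have : sqNorm (-((u : Vec) + (x : Vec))) = sqNorm ((u : Vec) + (x : Vec)) := by
      unfold sqNorm
      exact Finset.sum_congr rfl fun i _ => by simp only [Pi.neg_apply, Pi.add_apply]; ring
    rw [this, h1]
    norm_num
  · rw [e]
    have : dotInt (u : Vec) (-((u : Vec) + (x : Vec))) =
        -(dotInt (u : Vec) (u : Vec) + dotInt (u : Vec) (x : Vec)) := by
      unfold dotInt
      rw [← Finset.sum_add_distrib, ← Finset.sum_neg_distrib]
      exact Finset.sum_congr rfl fun i _ => by simp only [Pi.neg_apply, Pi.add_apply]; ring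
    rw [this, ← sqNorm_eq_dotInt, hu, hx.2]
    norm_num

set_option maxRecDepth 100000 in
theorem arith : ∀ I : Finset (Fin 4), I.Nonempty → I ≠ Finset.univ →
    ¬ (1 + ∑ i ∈ I, (![352, 1100, 4125, 5600] : Fin 4 → ℕ) i) ∣ 11178 := by decide

theorem isCo3_of (h40 : P40) (h41 : P41) (h05 : P05) (u : leechLattice)
    (hu : sqNorm (u : Vec) = 48) : IsCo3 (stabilizer Co0 u) := by
  have := finite_Co0
  obtain ⟨hcount, htr⟩ := h40 u hu
  have hfinS : (Om u).Finite := Set.finite_of_ncard_ne_zero (by rw [hcount]; norm_num)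
  have : Finite (Om u) := hfinS.to_subtype
  obtain ⟨x, hx⟩ : (Om u).Nonempty := Set.nonempty_of_ncard_ne_zero (by rw [hcount]; norm_num)
  set x0 : Om u := ⟨x, hx⟩ with hx0
  have htrans : ∀ z : Om u, ∃ g : stabilizer Co0 u, g • x0 = z := by
    intro z
    obtain ⟨g, hg1, hg2⟩ := htr x hx z.1 z.2
    exact ⟨⟨g, mem_stabilizer_iff.2 hg1⟩, Subtype.ext hg2⟩
  have : IsPretransitive (stabilizer Co0 u) (Om u) := ⟨fun a b => by
    obtain ⟨g, rfl⟩ := htrans a
    obtain ⟨g', rfl⟩ := htrans b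
    exact ⟨g' * g⁻¹, by rw [mul_smul, inv_smul_smul]⟩⟩
  -- the point stabiliser
  obtain ⟨hw1, hw2⟩ := w_facts hu hx
  obtain ⟨hHS, hHScard⟩ := h05 u (-(u + x)) hu hw1 hw2
  have hH : IsSimpleGroup (stabilizer (stabilizer Co0 u) x0) :=
    ((stabEquiv u x0).isSimpleGroup_congr).2 hHS
  have hHcard : Nat.card (stabilizer (stabilizer Co0 u) x0) = 44352000 := by
    rw [Nat.card_congr (stabEquiv u x0).toEquiv]; exact hHScard
  -- the suborbits
  obtain ⟨y1, hy1, y2, hy2, y3, hy3, y4, hy4, c1, c2, c3, c4, hcov⟩ := h41 u x hu hx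
  set y : Fin 4 → Om u := ![⟨y1, hy1⟩, ⟨y2, hy2⟩, ⟨y3, hy3⟩, ⟨y4, hy4⟩] with hy
  have hcard : ∀ i, (orbit (stabilizer (stabilizer Co0 u) x0) (y i)).ncard =
      (![352, 1100, 4125, 5600] : Fin 4 → ℕ) i := by
    intro i
    rw [ncard_orbit]
    fin_cases i
    · exact c1
    · exact c2
    · exact c3
    · exact c4
  have hcover : ∀ z : Om u, z = x0 ∨ ∃ i, z ∈ orbit (stabilizer (stabilizer Co0 u) x0) (y i) := by
    intro z
    have hz := (Set.ext_iff.1 hcov (z : leechLattice)).1 z.2
    rcases hz with (((hz | hz) | hz) | hz) | hz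
    · left
      exact Subtype.ext hz
    · exact Or.inr ⟨0, mem_orbit_of_val u x0 (y 0) z hz⟩
    · exact Or.inr ⟨1, mem_orbit_of_val u x0 (y 1) z hz⟩
    · exact Or.inr ⟨2, mem_orbit_of_val u x0 (y 2) z hz⟩
    · exact Or.inr ⟨3, mem_orbit_of_val u x0 (y 3) z hz⟩
  have hcardΩ : Nat.card (Om u) = 11178 := by
    rw [Nat.card_coe_set_eq]; exact hcount
  have hmax := PrimSimple.stab_max_of_orbits x0 y ![352, 1100, 4125, 5600] hcard
    (by decide) (by decide) hcover (by rw [hcardΩ]; exact arith)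
  have hidx : (stabilizer (stabilizer Co0 u) x0).index = 11178 := by
    rw [index_stabilizer_of_transitive (stabilizer Co0 u) x0, hcardΩ]
  -- faithfulness
  have hfaith : ∀ g : stabilizer Co0 u, (∀ z : Om u, g • z = z) → g = 1 := by
    set Ker : Subgroup (stabilizer Co0 u) :=
      { carrier := {g | ∀ z : Om u, g • z = z}
        mul_mem' := fun {a b} ha hb z => by rw [mul_smul, hb z, ha z]
        one_mem' := fun z => one_smul _ z
        inv_mem' := fun {a} ha z => by rw [inv_smul_eq_iff, ha z] } with hKer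
    have hKn : Ker.Normal := ⟨fun n hn g z => by
      show (g * n * g⁻¹) • z = z
      rw [mul_smul, mul_smul, hn (g⁻¹ • z), smul_inv_smul]⟩
    have hKle : Ker ≤ stabilizer (stabilizer Co0 u) x0 := fun g hg => mem_stabilizer_iff.2 (hg x0)
    have hnorm : (Ker.subgroupOf (stabilizer (stabilizer Co0 u) x0)).Normal := inferInstance
    intro g hg
    have hgK : g ∈ Ker := hg
    rcases hH.eq_bot_or_eq_top_of_normal _ hnorm with h | h
    · have hmem : (⟨g, hKle hgK⟩ : stabilizer (stabilizer Co0 u) x0) ∈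
          Ker.subgroupOf (stabilizer (stabilizer Co0 u) x0) := by
        rw [Subgroup.mem_subgroupOf]; exact hgK
      rw [h, Subgroup.mem_bot] at hmem
      exact congrArg (fun z : stabilizer (stabilizer Co0 u) x0 => (z : stabilizer Co0 u)) hmem
    · exfalso
      -- the point stabiliser would act trivially
      have h1 : orbit (stabilizer (stabilizer Co0 u) x0) (y 0) = {y 0} := by
        ext t
        constructor
        · rintro ⟨k, rfl⟩
          have hk : k ∈ Ker.subgroupOf (stabilizer (stabilizer Co0 u) x0) := by rw [h]; trivial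
          rw [Subgroup.mem_subgroupOf] at hk
          exact hk (y 0)
        · rintro rfl
          exact mem_orbit_self _
      have h2 := hcard 0
      rw [h1, Set.ncard_singleton] at h2
      revert h2
      decide
  have hsimple : IsSimpleGroup (stabilizer Co0 u) := by
    apply PrimSimple.isSimpleGroup_of_char x0 hfaith htrans hH hmax
    intro K hK
    rw [hidx] at hK
    exact PrimSimple.exists_char_of_two_mul_odd 5589 (by rw [hK]) (by decide) (by norm_num)
  refine ⟨hsimple, ?_⟩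
  rw [← Subgroup.card_mul_index (stabilizer (stabilizer Co0 u) x0), hidx, hHcard]

end Cfsg.Agent.Lib.Conway.Co3S
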