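import Mathlib

set_option autoImplicit false

/-!
A simplicity criterion: a finite group acting faithfully and transitively with a maximal, simple
point stabiliser is simple as soon as the degree `p ^ a * r` forces a unique Sylow `p`-subgroup
in every group of that order (so that no regular normal subgroup can exist).
-/

namespace Cfsg.Agent.Lib.Conway.PrimSimple

open MulAction Subgroup

variable {G : Type*} [Group G] {Ω : Type*} [MulAction G Ω]

/-- a nontrivial normal subgroup together with a maximal point stabiliser generates the group -/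
theorem sup_eq_top (x0 : Ω) (hfaith : ∀ g : G, (∀ x : Ω, g • x = x) → g = 1)
    (htrans : ∀ x : Ω, ∃ g : G, g • x0 = x)
    (hmax : ∀ M : Subgroup G, stabilizer G x0 ≤ M → M = stabilizer G x0 ∨ M = ⊤)
    (N : Subgroup G) [hNn : N.Normal] (hN : N ≠ ⊥) : N ⊔ stabilizer G x0 = ⊤ := by
  rcases hmax (N ⊔ stabilizer G x0) le_sup_right with h | h
  · exfalso
    apply hN
    have hle : N ≤ stabilizer G x0 := h ▸ le_sup_left
    rw [eq_bot_iff]
    intro k hk
    rw [mem_bot]
    apply hfaith
    intro x
    obtain ⟨g, rfl⟩ := htrans x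
    have h1 : g⁻¹ * k * g ∈ N := by
      have := hNn.conj_mem k hk g⁻¹
      simpa using this
    have h2 := hle h1
    rw [mem_stabilizer_iff, mul_smul, mul_smul] at h2
    calc k • g • x0 = g • (g⁻¹ • k • g • x0) := by rw [smul_inv_smul]
      _ = g • x0 := by rw [h2]
  · exact h

/-- a nontrivial normal subgroup is transitive -/
theorem normal_trans (x0 : Ω) (hfaith : ∀ g : G, (∀ x : Ω, g • x = x) → g = 1)
    (htrans : ∀ x : Ω, ∃ g : G, g • x0 = x)
    (hmax : ∀ M : Subgroup G, stabilizer G x0 ≤ M → M = stabilizer G x0 ∨ M = ⊤)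
    (N : Subgroup G) [hNn : N.Normal] (hN : N ≠ ⊥) (x : Ω) : ∃ k ∈ N, k • x0 = x := by
  obtain ⟨g, rfl⟩ := htrans x
  have hg : g ∈ ((N ⊔ stabilizer G x0 : Subgroup G) : Set G) := by
    rw [sup_eq_top x0 hfaith htrans hmax N hN]; trivial
  rw [normal_mul] at hg
  obtain ⟨k, hk, h, hh, rfl⟩ := Set.mem_mul.1 hg
  refine ⟨k, hk, ?_⟩
  rw [mul_smul, mem_stabilizer_iff.1 hh]

/-- the degree divides the order of every nontrivial normal subgroup -/
theorem card_dvd_normal [Finite G] (x0 : Ω) (hfaith : ∀ g : G, (∀ x : Ω, g • x = x) → g = 1)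
    (htrans : ∀ x : Ω, ∃ g : G, g • x0 = x)
    (hmax : ∀ M : Subgroup G, stabilizer G x0 ≤ M → M = stabilizer G x0 ∨ M = ⊤)
    (N : Subgroup G) [hNn : N.Normal] (hN : N ≠ ⊥) :
    (stabilizer G x0).index ∣ Nat.card N := by
  have : IsPretransitive G Ω := ⟨fun x y => by
    obtain ⟨g, rfl⟩ := htrans x
    obtain ⟨g', rfl⟩ := htrans y
    exact ⟨g' * g⁻¹, by rw [mul_smul, inv_smul_smul]⟩⟩
  have : IsPretransitive N Ω := ⟨fun x y => by
    obtain ⟨k, hk, rfl⟩ := normal_trans x0 hfaith htrans hmax N hN x
    obtain ⟨k', hk', rfl⟩ := normal_trans x0 hfaith htrans hmax N hN y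
    exact ⟨⟨k' * k⁻¹, N.mul_mem hk' (N.inv_mem hk)⟩, by
      show (k' * k⁻¹) • k • x0 = k' • x0
      rw [mul_smul, inv_smul_smul]⟩⟩
  rw [index_stabilizer_of_transitive G x0, ← index_stabilizer_of_transitive N x0]
  exact Subgroup.index_dvd_card _

/-- the simplicity criterion -/
theorem isSimpleGroup_of_maximal_simple_stabilizer [Finite G] (x0 : Ω)
    (hfaith : ∀ g : G, (∀ x : Ω, g • x = x) → g = 1)
    (htrans : ∀ x : Ω, ∃ g : G, g • x0 = x)
    (hH : IsSimpleGroup (stabilizer G x0))
    (hmax : ∀ M : Subgroup G, stabilizer G x0 ≤ M → M = stabilizer G x0 ∨ M = ⊤)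
    (p a r : ℕ) [hp : Fact p.Prime] (hidx : (stabilizer G x0).index = p ^ a * r)
    (ha : 0 < a) (hr : 1 < r) (hpr : ¬ p ∣ r)
    (huniq : ∀ m : ℕ, m ∣ r → m % p = 1 → m = 1) : IsSimpleGroup G := by
  have hnt : Nontrivial G := by
    obtain ⟨h, hne⟩ := @exists_ne _ hH.toNontrivial (1 : stabilizer G x0)
    exact ⟨⟨(h : G), 1, fun e => hne (Subtype.ext e)⟩⟩
  refine ⟨fun K hK => ?_⟩
  by_cases hK0 : K = ⊥
  · exact Or.inl hK0
  right
  have hsup := sup_eq_top x0 hfaith htrans hmax K hK0
  -- the intersection with the stabiliser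
  have hnorm : (K.subgroupOf (stabilizer G x0)).Normal := inferInstance
  rcases hH.eq_bot_or_eq_top_of_normal _ hnorm with h | h
  · -- the regular case
    exfalso
    have hdvd := card_dvd_normal x0 hfaith htrans hmax K hK0
    -- the order of `K` is the index
    have hKcard : Nat.card K = p ^ a * r := by
      have : IsPretransitive G Ω := ⟨fun x y => by
        obtain ⟨g, rfl⟩ := htrans x
        obtain ⟨g', rfl⟩ := htrans y
        exact ⟨g' * g⁻¹, by rw [mul_smul, inv_smul_smul]⟩⟩
      have : IsPretransitive K Ω := ⟨fun x y => by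
        obtain ⟨k, hk, rfl⟩ := normal_trans x0 hfaith htrans hmax K hK0 x
        obtain ⟨k', hk', rfl⟩ := normal_trans x0 hfaith htrans hmax K hK0 y
        exact ⟨⟨k' * k⁻¹, K.mul_mem hk' (K.inv_mem hk)⟩, by
          show (k' * k⁻¹) • k • x0 = k' • x0
          rw [mul_smul, inv_smul_smul]⟩⟩
      have h1 : (stabilizer K x0) = ⊥ := by
        rw [eq_bot_iff]
        intro k hk
        rw [mem_bot]
        have hk' : (k : G) ∈ stabilizer G x0 := by
          rw [mem_stabilizer_iff] at hk ⊢
          exact hk
        have : (⟨(k : G), hk'⟩ : stabilizer G x0) ∈ K.subgroupOf (stabilizer G x0) := by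
          rw [mem_subgroupOf]; exact k.2
        rw [h, mem_bot] at this
        exact Subtype.ext (congrArg (fun z : stabilizer G x0 => (z : G)) this)
      have h2 := index_stabilizer_of_transitive K x0
      rw [h1, index_bot] at h2
      rw [h2, ← index_stabilizer_of_transitive G x0, hidx]
    -- the Sylow subgroup of `K` is unique
    have : Finite K := inferInstance
    obtain ⟨P⟩ : Nonempty (Sylow p K) := inferInstance
    have hone : Nat.card (Sylow p K) = 1 := by
      apply huniq
      · have h1 := P.card_dvd_index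
        have h2 : (P : Subgroup K).index = r := by
          have h3 := (P : Subgroup K).card_mul_index
          rw [hKcard, P.card_eq_multiplicity, hKcard] at h3
          have hfac : (p ^ a * r).factorization p = a := by
            rw [Nat.factorization_mul (pow_ne_zero _ hp.out.ne_zero) (by omega),
              Nat.Prime.factorization_pow hp.out]
            simp [Nat.factorization_eq_zero_of_not_dvd hpr]
          rw [hfac] at h3
          exact Nat.eq_of_mul_eq_mul_left (pow_pos hp.out.pos a) h3
        rwa [h2] at h1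
      · have := card_sylow_modEq_one p K
        rw [Nat.ModEq, Nat.mod_eq_of_lt hp.out.one_lt] at this
        exact this
    have : Subsingleton (Sylow p K) := (Nat.card_eq_one_iff_unique.1 hone).1
    have hchar : (P : Subgroup K).Characteristic := Sylow.characteristic_of_subsingleton P
    have hPn : ((P : Subgroup K).map K.subtype).Normal :=
      ConjAct.normal_of_characteristic_of_normal
    have hPcard : Nat.card ((P : Subgroup K).map K.subtype) = p ^ a := by
      rw [Nat.card_congr ((P : Subgroup K).equivMapOfInjective K.subtype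
        K.subtype_injective).symm.toEquiv, P.card_eq_multiplicity, hKcard]
      rw [Nat.factorization_mul (pow_ne_zero _ hp.out.ne_zero) (by omega),
        Nat.Prime.factorization_pow hp.out]
      simp [Nat.factorization_eq_zero_of_not_dvd hpr]
    have hPne : (P : Subgroup K).map K.subtype ≠ ⊥ := by
      intro e
      rw [e, Subgroup.card_bot] at hPcard
      have : 1 < p ^ a := Nat.one_lt_pow ha.ne' hp.out.one_lt
      omega
    have h5 := card_dvd_normal x0 hfaith htrans hmax _ hPne
    rw [hidx, hPcard] at h5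
    -- `p ^ a * r ∣ p ^ a` is impossible
    have : r ∣ 1 := by
      have := Nat.dvd_of_mul_dvd_mul_left (pow_pos hp.out.pos a) (by simpa using h5 : p ^ a * r ∣ p ^ a * 1)
      exact this
    have := Nat.le_of_dvd one_pos this
    omega
  · -- the stabiliser lies in `K`
    have hle : stabilizer G x0 ≤ K := by
      intro g hg
      have : (⟨g, hg⟩ : stabilizer G x0) ∈ K.subgroupOf (stabilizer G x0) := by rw [h]; trivial
      exact mem_subgroupOf.1 this
    rw [← hsup]
    exact (sup_eq_left.2 hle).symm

end Cfsg.Agent.Lib.Conway.PrimSimple
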