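import Cfsg.Agent.Lib.Conway.HSStd
import Cfsg.Agent.Lib.Conway.PrimSimple
import Cfsg.Agent.Lib.Conway.Trans6
import Cfsg.Prelude.Def_Sporadic

set_option autoImplicit false

/-!
The joint stabiliser of the standard Higman-Sims pair is simple of order 44352000, given the
transitivity and the rank three property on the 100 attached minimal vectors.
-/

namespace Cfsg.Agent.Lib.Conway.HS

open Cfsg Cfsg.Agent.Lib.Conway Cfsg.Agent.Lib.Helper93.Leech Cfsg.Agent.Lib.Helper93.Golay
open Cfsg.Agent.Lib.Golay.LeechBasis Cfsg.Agent.S1571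
open scoped Pointwise

/-- the 100 minimal vectors attached to a pair -/
def Om (v w : leechLattice) : Set leechLattice :=
  {x : leechLattice | sqNorm (x : Vec) = 32 ∧ dotInt (v : Vec) (x : Vec) = 24 ∧
    dotInt (w : Vec) (x : Vec) = -24}

/-- the joint stabiliser of a pair -/
abbrev G2 (v w : leechLattice) : Subgroup Co0 :=
  MulAction.stabilizer Co0 v ⊓ MulAction.stabilizer Co0 w

theorem mem_G2 {v w : leechLattice} {g : Co0} : g ∈ G2 v w ↔ g • v = v ∧ g • w = w := by
  simp only [Subgroup.mem_inf, MulAction.mem_stabilizer_iff]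

theorem smul_mem_Om {v w : leechLattice} {g : Co0} (hg : g ∈ G2 v w) {x : leechLattice}
    (hx : x ∈ Om v w) : g • x ∈ Om v w := by
  obtain ⟨h1, h2⟩ := mem_G2.1 hg
  obtain ⟨hn, hv, hw⟩ := hx
  refine ⟨by rw [co0_norm]; exact hn, ?_, ?_⟩
  · have := co0_dot g v x
    rw [h1] at this
    rw [this]; exact hv
  · have := co0_dot g w x
    rw [h2] at this
    rw [this]; exact hw

instance actOm (v w : leechLattice) : MulAction (G2 v w) (Om v w) where
  smul g x := ⟨(g : Co0) • (x : leechLattice), smul_mem_Om g.2 x.2⟩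
  one_smul x := Subtype.ext (one_smul Co0 (x : leechLattice))
  mul_smul g h x := Subtype.ext (mul_smul (g : Co0) (h : Co0) (x : leechLattice))

theorem actOm_coe (v w : leechLattice) (g : G2 v w) (x : Om v w) :
    ((g • x : Om v w) : leechLattice) = (g : Co0) • (x : leechLattice) := rfl

theorem XH_mem : XH ∈ Om VH WH := ⟨facts.2.2.2.1, facts.2.2.2.2.1, facts.2.2.2.2.2⟩

/-- the base point -/
def x0 : Om VH WH := ⟨XH, XH_mem⟩

/-- the vectors `(1, 1, 1, …, -3, …, 1)` -/
def oddv (j : GolayPt) : Vec := fun p => if p = j then -3 else 1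

set_option maxRecDepth 100000 in
theorem oddv_facts : ∀ j : GolayPt, j ≠ pa → j ≠ pb →
    LeechCond (oddv j) 1 ∧ sqNorm (oddv j) = 32 ∧ dotInt vh (oddv j) = 24 ∧
      dotInt wh (oddv j) = -24 := by
  unfold sqNorm dotInt; decide +kernel

def OddV (j : GolayPt) (ha : j ≠ pa) (hb : j ≠ pb) : leechLattice :=
  ⟨oddv j, mem_of_leechCond (oddv_facts j ha hb).1⟩

theorem OddV_mem (j : GolayPt) (ha : j ≠ pa) (hb : j ≠ pb) : OddV j ha hb ∈ Om VH WH :=
  ⟨(oddv_facts j ha hb).2.1, (oddv_facts j ha hb).2.2.1, (oddv_facts j ha hb).2.2.2⟩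

/-- faithfulness on the 100 vectors -/
theorem faithful (g : G2 VH WH) (h : ∀ x : Om VH WH, g • x = x) : g = 1 := by
  obtain ⟨g, hg⟩ := g
  obtain ⟨h1, h2⟩ := mem_G2.1 hg
  have h3 : g • XH = XH := congrArg Subtype.val (h x0)
  have hT : g ∈ T3 := mem_T3.2 ⟨h1, h2, h3⟩
  obtain ⟨σ, hσ, ha, hb, rfl⟩ := T3_form hT
  have hfix : ∀ j, σ j = j := by
    intro j
    by_cases hja : j = pa
    · rw [hja]; exact ha
    by_cases hjb : j = pb
    · rw [hjb]; exact hb
    have h4 := congrArg Subtype.val (h ⟨OddV j hja hjb, OddV_mem j hja hjb⟩)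
    have h5 := congrArg (fun v : leechLattice => (v : Vec) (σ j)) h4
    simp only [actOm_coe, mono_smul, signedPerm_apply, Finset.notMem_empty, if_false] at h5
    change oddv j (σ.symm (σ j)) = oddv j (σ j) at h5
    have h6 : σ.symm (σ j) = j := by simp
    rw [h6] at h5
    unfold oddv at h5
    rw [if_pos rfl] at h5
    by_contra hne
    rw [if_neg hne] at h5
    omega
  have hσ1 : σ = 1 := Equiv.ext hfix
  subst hσ1
  apply Subtype.ext
  apply co0_ext
  intro v
  apply Subtype.ext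
  show ((mono 1 ∅ hσ empty_mem_supports • v : leechLattice) : Vec) = ((1 : Co0) • v : leechLattice)
  rw [mono_smul, one_smul]
  exact signedPerm_one_empty _

/-- the stabiliser of the base point is `T3` -/
noncomputable def stabEquivT3 : MulAction.stabilizer (G2 VH WH) x0 ≃* T3 where
  toFun g := ⟨((g : G2 VH WH) : Co0), by
    obtain ⟨h1, h2⟩ := mem_G2.1 (g : G2 VH WH).2
    have h3 : ((g : G2 VH WH) : Co0) • XH = XH :=
      congrArg Subtype.val (MulAction.mem_stabilizer_iff.1 g.2)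
    exact mem_T3.2 ⟨h1, h2, h3⟩⟩
  invFun g := ⟨⟨(g : Co0), by
      obtain ⟨h1, h2, -⟩ := mem_T3.1 g.2
      exact mem_G2.2 ⟨h1, h2⟩⟩, by
    rw [MulAction.mem_stabilizer_iff]
    apply Subtype.ext
    exact (mem_T3.1 g.2).2.2⟩
  left_inv g := rfl
  right_inv g := rfl
  map_mul' g h := rfl

theorem stab_simple : IsSimpleGroup (MulAction.stabilizer (G2 VH WH) x0) := by
  haveI := T3_simple
  exact (stabEquivT3.isSimpleGroup_congr).2 inferInstance

theorem card_stab : Nat.card (MulAction.stabilizer (G2 VH WH) x0) = 443520 := by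
  rw [Nat.card_congr stabEquivT3.toEquiv]
  exact card_T3

/-- transitivity on the 100 vectors (the statement S1583 at the standard pair) -/
def H83 : Prop := (Om VH WH).ncard = 100 ∧ ∀ x ∈ Om VH WH, ∀ x' ∈ Om VH WH,
  ∃ g : Co0, g • VH = VH ∧ g • WH = WH ∧ g • x = x'

/-- the rank three property at the base point (from the statement S1584) -/
def H84 : Prop :=
  {y : leechLattice | y ∈ Om VH WH ∧ dotInt (XH : Vec) (y : Vec) = 8}.ncard = 22 ∧
  {y : leechLattice | y ∈ Om VH WH ∧ y ≠ XH ∧ dotInt (XH : Vec) (y : Vec) ≠ 8}.ncard = 77 ∧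
  ∀ y ∈ Om VH WH, ∀ y' ∈ Om VH WH, y ≠ XH → y' ≠ XH →
    (dotInt (XH : Vec) (y : Vec) = 8 ↔ dotInt (XH : Vec) (y' : Vec) = 8) →
    ∃ g : Co0, g • VH = VH ∧ g • WH = WH ∧ g • XH = XH ∧ g • y = y'

theorem finite_Co0 : Finite Co0 :=
  Nat.finite_of_card_ne_zero (by rw [card_Co0]; norm_num)

set_option maxRecDepth 100000 in
theorem dot_xh_xh : dotInt xh xh = 32 := by unfold dotInt; decide +kernel

section
variable (h83 : H83) (h84 : H84)

include h83 in
theorem trans0 (x : Om VH WH) : ∃ g : G2 VH WH, g • x0 = x := by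
  obtain ⟨g, h1, h2, h3⟩ := h83.2 XH XH_mem x.1 x.2
  exact ⟨⟨g, mem_G2.2 ⟨h1, h2⟩⟩, Subtype.ext h3⟩

/-- the first suborbit -/
def SA : Set (Om VH WH) := {x | dotInt (XH : Vec) ((x : leechLattice) : Vec) = 8}
/-- the second suborbit -/
def SB : Set (Om VH WH) := {x | x ≠ x0 ∧ dotInt (XH : Vec) ((x : leechLattice) : Vec) ≠ 8}

include h84 in
theorem card_SA : SA.ncard = 22 := by
  rw [← h84.1]
  have : SA = Subtype.val ⁻¹'
      {y : leechLattice | y ∈ Om VH WH ∧ dotInt (XH : Vec) (y : Vec) = 8} := by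
    ext x
    simp only [SA, Set.mem_setOf_eq, Set.mem_preimage]
    exact ⟨fun h => ⟨x.2, h⟩, fun h => h.2⟩
  rw [this]
  apply Set.ncard_preimage_of_injective_subset_range Subtype.val_injective
  rintro y ⟨hy, -⟩
  exact ⟨⟨y, hy⟩, rfl⟩

include h84 in
theorem card_SB : SB.ncard = 77 := by
  rw [← h84.2.1]
  have : SB = Subtype.val ⁻¹'
      {y : leechLattice | y ∈ Om VH WH ∧ y ≠ XH ∧ dotInt (XH : Vec) (y : Vec) ≠ 8} := by
    ext x
    simp only [SB, Set.mem_setOf_eq, Set.mem_preimage]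
    constructor
    · rintro ⟨h1, h2⟩
      exact ⟨x.2, fun e => h1 (Subtype.ext e), h2⟩
    · rintro ⟨-, h1, h2⟩
      exact ⟨fun e => h1 (congrArg Subtype.val e), h2⟩
  rw [this]
  apply Set.ncard_preimage_of_injective_subset_range Subtype.val_injective
  rintro y ⟨hy, -⟩
  exact ⟨⟨y, hy⟩, rfl⟩

theorem x0_notMem_SA : x0 ∉ SA := by
  show ¬ dotInt xh xh = 8
  rw [dot_xh_xh]; norm_num

theorem x0_notMem_SB : x0 ∉ SB := fun h => h.1 rfl

theorem cases3 (x : Om VH WH) : x = x0 ∨ x ∈ SA ∨ x ∈ SB := by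
  by_cases h1 : x = x0
  · exact Or.inl h1
  by_cases h2 : dotInt (XH : Vec) ((x : leechLattice) : Vec) = 8
  · exact Or.inr (Or.inl h2)
  · exact Or.inr (Or.inr ⟨h1, h2⟩)

include h84 in
/-- the point stabiliser is transitive on each suborbit -/
theorem stab_trans {y y' : Om VH WH} (h : (y ∈ SA ∧ y' ∈ SA) ∨ (y ∈ SB ∧ y' ∈ SB)) :
    ∃ g ∈ MulAction.stabilizer (G2 VH WH) x0, g • y = y' := by
  have hne : ∀ z : Om VH WH, z ∈ SA ∨ z ∈ SB → (z : leechLattice) ≠ XH := by
    intro z hz e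
    have : z = x0 := Subtype.ext e
    rcases hz with hz | hz
    · exact x0_notMem_SA (this ▸ hz)
    · exact x0_notMem_SB (this ▸ hz)
  have hiff : dotInt (XH : Vec) ((y : leechLattice) : Vec) = 8 ↔
      dotInt (XH : Vec) ((y' : leechLattice) : Vec) = 8 := by
    rcases h with ⟨h1, h2⟩ | ⟨h1, h2⟩
    · exact ⟨fun _ => h2, fun _ => h1⟩
    · exact ⟨fun e => absurd e h1.2, fun e => absurd e h2.2⟩
  have hy : (y : leechLattice) ≠ XH := hne y (by rcases h with h | h; exact Or.inl h.1; exact Or.inr h.1)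
  have hy' : (y' : leechLattice) ≠ XH :=
    hne y' (by rcases h with h | h; exact Or.inl h.2; exact Or.inr h.2)
  obtain ⟨g, h1, h2, h3, h4⟩ := h84.2.2 y.1 y.2 y'.1 y'.2 hy hy' hiff
  refine ⟨⟨g, mem_G2.2 ⟨h1, h2⟩⟩, ?_, Subtype.ext h4⟩
  rw [MulAction.mem_stabilizer_iff]
  exact Subtype.ext h3

include h83 h84 in
/-- the point stabiliser is a maximal subgroup -/
theorem stab_max (M : Subgroup (G2 VH WH)) (hM : MulAction.stabilizer (G2 VH WH) x0 ≤ M) :
    M = MulAction.stabilizer (G2 VH WH) x0 ∨ M = ⊤ := by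
  haveI := finite_Co0
  haveI : Finite (Om VH WH) :=
    (Set.finite_of_ncard_ne_zero (by rw [h83.1]; norm_num)).to_subtype
  haveI : MulAction.IsPretransitive (G2 VH WH) (Om VH WH) := ⟨fun x y => by
    obtain ⟨g, rfl⟩ := trans0 h83 x
    obtain ⟨g', rfl⟩ := trans0 h83 y
    exact ⟨g' * g⁻¹, by rw [mul_smul, inv_smul_smul]⟩⟩
  set O : Set (Om VH WH) := {x | ∃ m ∈ M, m • x0 = x} with hO
  have hx0O : x0 ∈ O := ⟨1, M.one_mem, one_smul _ _⟩
  -- the orbit has `[M : H0]` elements
  have hcard : O.ncard * M.index = 100 := by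
    have h1 := Subgroup.relIndex_mul_index hM
    rw [MulAction.index_stabilizer_of_transitive (G2 VH WH) x0, Nat.card_coe_set_eq, h83.1] at h1
    rw [← h1]
    congr 1
    have h2 : (MulAction.stabilizer (G2 VH WH) x0).subgroupOf M = MulAction.stabilizer M x0 := by
      ext m
      rw [Subgroup.mem_subgroupOf, MulAction.mem_stabilizer_iff, MulAction.mem_stabilizer_iff]
      rfl
    rw [Subgroup.relIndex, h2, MulAction.index_stabilizer]
    congr 1
    ext x
    constructor
    · rintro ⟨m, hm, rfl⟩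
      exact ⟨⟨m, hm⟩, rfl⟩
    · rintro ⟨m, rfl⟩
      exact ⟨m.1, m.2, rfl⟩
  -- dichotomies
  have hA : (∀ x ∈ SA, x ∉ O) ∨ SA ⊆ O := by
    by_cases h : ∃ x ∈ SA, x ∈ O
    · right
      obtain ⟨x, hxA, m, hm, rfl⟩ := h
      intro y hy
      obtain ⟨g, hg, rfl⟩ := stab_trans h84 (Or.inl ⟨hxA, hy⟩)
      exact ⟨g * m, M.mul_mem (hM hg) hm, mul_smul _ _ _⟩
    · left
      push Not at h
      exact h
  have hB : (∀ x ∈ SB, x ∉ O) ∨ SB ⊆ O := by
    by_cases h : ∃ x ∈ SB, x ∈ O
    · right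
      obtain ⟨x, hxB, m, hm, rfl⟩ := h
      intro y hy
      obtain ⟨g, hg, rfl⟩ := stab_trans h84 (Or.inr ⟨hxB, hy⟩)
      exact ⟨g * m, M.mul_mem (hM hg) hm, mul_smul _ _ _⟩
    · left
      push Not at h
      exact h
  rcases hA with hA | hA <;> rcases hB with hB | hB
  · -- the orbit is a point
    left
    apply le_antisymm _ hM
    intro m hm
    rw [MulAction.mem_stabilizer_iff]
    rcases cases3 (m • x0) with h | h | h
    · exact h
    · exact absurd ⟨m, hm, rfl⟩ (hA _ h)
    · exact absurd ⟨m, hm, rfl⟩ (hB _ h)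
  · exfalso
    have : O = insert x0 SB := by
      ext x
      constructor
      · intro hx
        rcases cases3 x with h | h | h
        · exact Or.inl h
        · exact absurd hx (hA _ h)
        · exact Or.inr h
      · rintro (h | h)
        · rw [h]; exact hx0O
        · exact hB h
    rw [this, Set.ncard_insert_of_notMem x0_notMem_SB, card_SB h84] at hcard
    omega
  · exfalso
    have : O = insert x0 SA := by
      ext x
      constructor
      · intro hx
        rcases cases3 x with h | h | h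
        · exact Or.inl h
        · exact Or.inr h
        · exact absurd hx (hB _ h)
      · rintro (h | h)
        · rw [h]; exact hx0O
        · exact hA h
    rw [this, Set.ncard_insert_of_notMem x0_notMem_SA, card_SA h84] at hcard
    omega
  · right
    rw [eq_top_iff]
    intro g _
    have hg : g • x0 ∈ O := by
      rcases cases3 (g • x0) with h | h | h
      · rw [h]; exact hx0O
      · exact hA h
      · exact hB h
    obtain ⟨m, hm, hmg⟩ := hg
    have : m⁻¹ * g ∈ MulAction.stabilizer (G2 VH WH) x0 := by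
      rw [MulAction.mem_stabilizer_iff, mul_smul, ← hmg, inv_smul_smul]
    have h2 := M.mul_mem hm (hM this)
    rwa [mul_inv_cancel_left] at h2

include h83 h84 in
/-- the joint stabiliser of the standard pair is the Higman-Sims group -/
theorem isHS_std : IsSimpleGroup (G2 VH WH) ∧ Nat.card (G2 VH WH) = 44352000 := by
  haveI := finite_Co0
  haveI : Finite (Om VH WH) :=
    (Set.finite_of_ncard_ne_zero (by rw [h83.1]; norm_num)).to_subtype
  haveI : MulAction.IsPretransitive (G2 VH WH) (Om VH WH) := ⟨fun x y => by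
    obtain ⟨g, rfl⟩ := trans0 h83 x
    obtain ⟨g', rfl⟩ := trans0 h83 y
    exact ⟨g' * g⁻¹, by rw [mul_smul, inv_smul_smul]⟩⟩
  have hidx : (MulAction.stabilizer (G2 VH WH) x0).index = 5 ^ 2 * 4 := by
    rw [MulAction.index_stabilizer_of_transitive (G2 VH WH) x0, Nat.card_coe_set_eq, h83.1]
    norm_num
  haveI : Fact (Nat.Prime 5) := ⟨by norm_num⟩
  refine ⟨PrimSimple.isSimpleGroup_of_maximal_simple_stabilizer x0 faithful (trans0 h83)
    stab_simple (stab_max h83 h84) 5 2 4 hidx (by norm_num) (by norm_num) (by norm_num) ?_, ?_⟩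
  · intro m hm h1
    have := Nat.le_of_dvd (by norm_num) hm
    interval_cases m <;> simp_all
  · rw [← Subgroup.card_mul_index (MulAction.stabilizer (G2 VH WH) x0), hidx, card_stab]
    norm_num

end

/-- conjugation between the joint stabilisers of conjugate pairs -/
def conjEquiv {v w v' w' : leechLattice} (g : Co0) (hv : g • v = v') (hw : g • w = w') :
    G2 v w ≃* G2 v' w' where
  toFun h := ⟨g * h * g⁻¹, mem_G2.2
    ⟨by rw [mul_smul, mul_smul, ← hv, inv_smul_smul, (mem_G2.1 h.2).1],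
     by rw [mul_smul, mul_smul, ← hw, inv_smul_smul, (mem_G2.1 h.2).2]⟩⟩
  invFun h := ⟨g⁻¹ * h * g, mem_G2.2
    ⟨by rw [mul_smul, mul_smul, hv, (mem_G2.1 h.2).1, ← hv, inv_smul_smul],
     by rw [mul_smul, mul_smul, hw, (mem_G2.1 h.2).2, ← hw, inv_smul_smul]⟩⟩
  left_inv h := Subtype.ext (by simp [mul_assoc])
  right_inv h := Subtype.ext (by simp [mul_assoc])
  map_mul' a b := Subtype.ext (by simp [mul_assoc])

/-- transitivity on the pairs, from the transitivity of the stabiliser of a vector of sum of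
squares 48 on the minimal vectors of scalar product `-16` with it -/
theorem pair_trans
    (h40 : ∀ u : leechLattice, sqNorm (u : Vec) = 48 →
      ∀ x ∈ {x : leechLattice | sqNorm (x : Vec) = 32 ∧ dotInt (u : Vec) (x : Vec) = -16},
      ∀ x' ∈ {x : leechLattice | sqNorm (x : Vec) = 32 ∧ dotInt (u : Vec) (x : Vec) = -16},
      ∃ g : Co0, g • u = u ∧ g • x = x')
    (v w : leechLattice) (hv : sqNorm (v : Vec) = 48) (hw : sqNorm (w : Vec) = 48)
    (hvw : dotInt (v : Vec) (w : Vec) = -32) : ∃ g : Co0, g • v = VH ∧ g • w = WH := by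
  obtain ⟨g1, hg1⟩ := trans6 v VH hv facts.1
  -- the minimal vectors `-(v + w)`
  have key : ∀ a b : leechLattice, sqNorm (a : Vec) = 48 → sqNorm (b : Vec) = 48 →
      dotInt (a : Vec) (b : Vec) = -32 →
      sqNorm ((-(a + b) : leechLattice) : Vec) = 32 ∧
        dotInt (a : Vec) ((-(a + b) : leechLattice) : Vec) = -16 := by
    intro a b ha hb hab
    have e : ((-(a + b) : leechLattice) : Vec) = -((a : Vec) + (b : Vec)) := rfl
    have hneg : ∀ z : Vec, sqNorm (-z) = sqNorm z := fun z => by simp [sqNorm]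
    have hdn : ∀ y z : Vec, dotInt y (-z) = -dotInt y z := fun y z => by
      simp [dotInt, Finset.sum_neg_distrib]
    have haa : dotInt (a : Vec) (a : Vec) = sqNorm (a : Vec) := by
      unfold dotInt sqNorm
      exact Finset.sum_congr rfl fun p _ => (sq _).symm
    constructor
    · rw [e, hneg, Cfsg.Agent.S0393.sqNorm_add, ha, hb, hab]; norm_num
    · rw [e, hdn, dotInt_symm, dotInt_add_left, haa, dotInt_symm, hab, ha]; norm_num
  have k1 := key v w hv hw hvw
  have k2 := key VH WH facts.1 facts.2.1 facts.2.2.1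
  have k3 : sqNorm ((g1 • (-(v + w)) : leechLattice) : Vec) = 32 ∧
      dotInt (VH : Vec) ((g1 • (-(v + w)) : leechLattice) : Vec) = -16 := by
    constructor
    · rw [co0_norm]; exact k1.1
    · have := co0_dot g1 v (-(v + w))
      rw [hg1] at this
      rw [this]; exact k1.2
  obtain ⟨g2, h1, h2⟩ := h40 VH facts.1 _ k3 _ k2
  refine ⟨g2 * g1, by rw [mul_smul, hg1, h1], ?_⟩
  have h3 : (g2 * g1) • (-(v + w)) = -(VH + WH) := by rw [mul_smul, h2]
  rw [co0_neg, co0_add, mul_smul g2 g1 v, hg1, h1, neg_inj] at h3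
  exact add_left_cancel h3

/-- the joint stabiliser of any Higman-Sims pair, from the three transitivity statements -/
theorem isHS_of
    (h40 : ∀ u : leechLattice, sqNorm (u : Vec) = 48 →
      ∀ x ∈ {x : leechLattice | sqNorm (x : Vec) = 32 ∧ dotInt (u : Vec) (x : Vec) = -16},
      ∀ x' ∈ {x : leechLattice | sqNorm (x : Vec) = 32 ∧ dotInt (u : Vec) (x : Vec) = -16},
      ∃ g : Co0, g • u = u ∧ g • x = x')
    (h83 : H83) (h84 : H84)
    (v w : leechLattice) (hv : sqNorm (v : Vec) = 48) (hw : sqNorm (w : Vec) = 48)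
    (hvw : dotInt (v : Vec) (w : Vec) = -32) :
    Cfsg.IsHS ↥(MulAction.stabilizer Cfsg.Co0 v ⊓ MulAction.stabilizer Cfsg.Co0 w) := by
  obtain ⟨g, h1, h2⟩ := pair_trans h40 v w hv hw hvw
  obtain ⟨hs, hc⟩ := isHS_std h83 h84
  have e := conjEquiv g h1 h2
  exact ⟨(e.isSimpleGroup_congr).2 hs, by rw [Nat.card_congr e.toEquiv]; exact hc⟩

end Cfsg.Agent.Lib.Conway.HS
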