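import Cfsg.Agent.S1571
import Cfsg.Agent.S0378
import Cfsg.Agent.S0379
import Cfsg.Agent.Lib.Conway.Order
import Cfsg.Agent.Lib.Conway.Co2Base

set_option autoImplicit false

/-!
The standard Higman-Sims configuration in the Leech lattice: `VH = (5, 1, 1^22)`,
`WH = -(1, 5, 1^22)`, `XH = (4, 4, 0^22)`; the joint stabiliser of the three vectors is the
two point stabiliser of `M24`.
-/

namespace Cfsg.Agent.Lib.Conway.HS

open Cfsg Cfsg.Agent.Lib.Conway Cfsg.Agent.Lib.Helper93.Leech Cfsg.Agent.Lib.Helper93.Golay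
open Cfsg.Agent.Lib.Golay.LeechBasis Cfsg.Agent.S1571
open scoped Pointwise

/-- `(5, 1, 1^22)` -/
def vh : Vec := fun p => if p = pa then 5 else 1
/-- `-(1, 5, 1^22)` -/
def wh : Vec := fun p => if p = pb then -5 else -1
/-- `(4, 4, 0^22)` -/
def xh : Vec := fun p => if p = pa then 4 else if p = pb then 4 else 0

set_option maxRecDepth 100000 in
theorem vh_cond : LeechCond vh 1 := by decide +kernel
set_option maxRecDepth 100000 in
theorem wh_cond : LeechCond wh 1 := by decide +kernel
set_option maxRecDepth 100000 in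
theorem xh_cond : LeechCond xh 0 := by decide +kernel

def VH : leechLattice := ⟨vh, mem_of_leechCond vh_cond⟩
def WH : leechLattice := ⟨wh, mem_of_leechCond wh_cond⟩
def XH : leechLattice := ⟨xh, mem_of_leechCond xh_cond⟩

set_option maxRecDepth 100000 in
theorem facts : sqNorm vh = 48 ∧ sqNorm wh = 48 ∧ dotInt vh wh = -32 ∧ sqNorm xh = 32 ∧
    dotInt vh xh = 24 ∧ dotInt wh xh = -24 := by
  unfold sqNorm dotInt; decide +kernel

theorem sum_eq_F0 : XH + (VH + WH) = F0 := by
  apply Subtype.ext
  funext k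
  show xh k + (vh k + wh k) = (Pi.single pa 8 : Vec) k
  unfold xh vh wh
  by_cases h1 : k = pa
  · subst h1
    simp [pa_ne_pb]
  · by_cases h2 : k = pb
    · subst h2
      simp [pa_ne_pb.symm]
    · simp [h1, h2]

/-- the joint stabiliser of the three vectors -/
def T3 : Subgroup Co0 :=
  MulAction.stabilizer Co0 VH ⊓ MulAction.stabilizer Co0 WH ⊓ MulAction.stabilizer Co0 XH

theorem mem_T3 {g : Co0} : g ∈ T3 ↔ g • VH = VH ∧ g • WH = WH ∧ g • XH = XH := by
  unfold T3
  simp only [Subgroup.mem_inf, MulAction.mem_stabilizer_iff, and_assoc]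

/-- the two point stabiliser -/
abbrev M22 : Subgroup M24 := MulAction.stabilizer M24 pa ⊓ MulAction.stabilizer M24 pb

theorem fix_F0 {g : Co0} (hg : g ∈ T3) : g • F0 = F0 := by
  obtain ⟨h1, h2, h3⟩ := mem_T3.1 hg
  rw [← sum_eq_F0, co0_add, co0_add, h1, h2, h3]

/-- an element of `T3` is a coordinate permutation from `M22` -/
theorem T3_form {g : Co0} (hg : g ∈ T3) : ∃ σ : Equiv.Perm GolayPt, ∃ hσ : σ ∈ M24,
    σ pa = pa ∧ σ pb = pb ∧ g = mono σ ∅ hσ empty_mem_supports := by
  obtain ⟨f, ⟨σ, hσ, c, hc, rfl⟩, hf⟩ := part1 g (stab_of_fix g (fix_F0 hg))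
  obtain ⟨h1, h2, h3⟩ := mem_T3.1 hg
  -- the signs are trivial
  have hv : ∀ k, signedPerm σ c vh k = vh k := fun k => by
    have := congrArg (fun v : leechLattice => (v : Vec) k) h1
    simp only [hf] at this
    exact this
  have hw : ∀ k, signedPerm σ c wh k = wh k := fun k => by
    have := congrArg (fun v : leechLattice => (v : Vec) k) h2
    simp only [hf] at this
    exact this
  have hc0 : c = ∅ := by
    rw [Finset.eq_empty_iff_forall_notMem]
    intro k hk
    have := hv k
    rw [signedPerm_apply, if_pos hk] at this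
    unfold vh at this
    split_ifs at this <;> omega
  subst hc0
  have hsa : σ.symm pa = pa := by
    have := hv pa
    rw [signedPerm_apply, if_neg (Finset.notMem_empty _)] at this
    unfold vh at this
    by_contra hne
    rw [if_neg hne, if_pos rfl] at this
    omega
  have hsb : σ.symm pb = pb := by
    have := hw pb
    rw [signedPerm_apply, if_neg (Finset.notMem_empty _)] at this
    unfold wh at this
    by_contra hne
    rw [if_neg hne, if_pos rfl] at this
    omega
  refine ⟨σ, hσ, ?_, ?_, ?_⟩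
  · conv_lhs => rw [← hsa]
    simp
  · conv_lhs => rw [← hsb]
    simp
  · apply co0_ext
    intro v
    apply Subtype.ext
    rw [hf, mono_smul]

/-- the embedding of the two point stabiliser -/
theorem mono_mem_T3 (σ : Equiv.Perm GolayPt) (hσ : σ ∈ M24) (ha : σ pa = pa) (hb : σ pb = pb) :
    mono σ ∅ hσ empty_mem_supports ∈ T3 := by
  have hsa : σ.symm pa = pa := by conv_lhs => rw [← ha]; simp
  have hsb : σ.symm pb = pb := by conv_lhs => rw [← hb]; simp
  have hka : ∀ k, σ.symm k = pa ↔ k = pa := fun k => by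
    constructor
    · intro h; rw [← ha, ← h]; simp
    · intro h; rw [h, hsa]
  have hkb : ∀ k, σ.symm k = pb ↔ k = pb := fun k => by
    constructor
    · intro h; rw [← hb, ← h]; simp
    · intro h; rw [h, hsb]
  rw [mem_T3]
  refine ⟨Subtype.ext ?_, Subtype.ext ?_, Subtype.ext ?_⟩
  · rw [mono_smul]
    funext k
    show signedPerm σ ∅ vh k = vh k
    rw [signedPerm_apply, if_neg (Finset.notMem_empty _)]
    unfold vh
    by_cases h1 : k = pa
    · rw [if_pos ((hka k).2 h1), if_pos h1]
    · rw [if_neg (fun h => h1 ((hka k).1 h)), if_neg h1]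
  · rw [mono_smul]
    funext k
    show signedPerm σ ∅ wh k = wh k
    rw [signedPerm_apply, if_neg (Finset.notMem_empty _)]
    unfold wh
    by_cases h1 : k = pb
    · rw [if_pos ((hkb k).2 h1), if_pos h1]
    · rw [if_neg (fun h => h1 ((hkb k).1 h)), if_neg h1]
  · rw [mono_smul]
    funext k
    show signedPerm σ ∅ xh k = xh k
    rw [signedPerm_apply, if_neg (Finset.notMem_empty _)]
    unfold xh
    by_cases h1 : k = pa
    · rw [if_pos ((hka k).2 h1), if_pos h1]
    · rw [if_neg (fun h => h1 ((hka k).1 h)), if_neg h1]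
      by_cases h2 : k = pb
      · rw [if_pos ((hkb k).2 h2), if_pos h2]
      · rw [if_neg (fun h => h2 ((hkb k).1 h)), if_neg h2]

theorem mono_mul (σ τ : Equiv.Perm GolayPt) (hσ : σ ∈ M24) (hτ : τ ∈ M24) :
    mono (σ * τ) ∅ (M24.mul_mem hσ hτ) empty_mem_supports =
      mono σ ∅ hσ empty_mem_supports * mono τ ∅ hτ empty_mem_supports := by
  apply co0_ext
  intro v
  apply Subtype.ext
  rw [mul_smul, mono_smul, mono_smul, mono_smul, signedPerm_signedPerm]
  simp

theorem mono_injective {σ τ : Equiv.Perm GolayPt} (hσ : σ ∈ M24) (hτ : τ ∈ M24)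
    (h : mono σ ∅ hσ empty_mem_supports = mono τ ∅ hτ empty_mem_supports) : σ = τ := by
  apply Equiv.ext
  intro i
  have h1 := congrArg (fun g : Co0 => ((g • fr i : leechLattice) : Vec) (σ i)) h
  simp only [mono_smul, fr_coe, signedPerm_apply, Finset.notMem_empty, if_false] at h1
  have h2 : σ.symm (σ i) = i := by simp
  rw [h2, Pi.single_eq_same] at h1
  by_contra hne
  have h3 : τ.symm (σ i) ≠ i := by
    intro h4
    apply hne
    have : τ (τ.symm (σ i)) = τ i := by rw [h4]
    simpa using this
  rw [Pi.single_eq_of_ne h3] at h1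
  omega

/-- the isomorphism of the two point stabiliser of `M24` with `T3` -/
noncomputable def equivT3 : M22 ≃* T3 := by
  let φ : M22 →* T3 :=
    { toFun := fun τ => ⟨mono ((τ : M24) : Equiv.Perm GolayPt) ∅ (τ : M24).2 empty_mem_supports,
        mono_mem_T3 _ _ (by
          have := (Subgroup.mem_inf.1 τ.2).1
          rw [MulAction.mem_stabilizer_iff] at this
          exact this) (by
          have := (Subgroup.mem_inf.1 τ.2).2
          rw [MulAction.mem_stabilizer_iff] at this
          exact this)⟩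
      map_one' := by
        apply Subtype.ext
        apply co0_ext
        intro v
        apply Subtype.ext
        show ((mono (1 : Equiv.Perm GolayPt) ∅ M24.one_mem empty_mem_supports • v :
          leechLattice) : Vec) = ((1 : Co0) • v : leechLattice)
        rw [mono_smul, one_smul]
        exact signedPerm_one_empty _
      map_mul' := fun σ τ => by
        apply Subtype.ext
        exact mono_mul _ _ (σ : M24).2 (τ : M24).2 }
  refine MulEquiv.ofBijective φ ⟨?_, ?_⟩
  · intro σ τ h
    have h1 := congrArg (fun g : T3 => (g : Co0)) h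
    have h2 := mono_injective (σ : M24).2 (τ : M24).2 h1
    exact Subtype.ext (Subtype.ext h2)
  · rintro ⟨g, hg⟩
    obtain ⟨σ, hσ, ha, hb, rfl⟩ := T3_form hg
    refine ⟨⟨⟨σ, hσ⟩, Subgroup.mem_inf.2 ⟨?_, ?_⟩⟩, rfl⟩
    · rw [MulAction.mem_stabilizer_iff]; exact ha
    · rw [MulAction.mem_stabilizer_iff]; exact hb

theorem T3_simple : IsSimpleGroup T3 := by
  haveI := Cfsg.Agent.S0379.result pa pb pa_ne_pb
  exact (equivT3.isSimpleGroup_congr).1 inferInstance

theorem card_T3 : Nat.card T3 = 443520 := by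
  rw [← Nat.card_congr equivT3.toEquiv]
  exact Cfsg.Agent.S0378.result pa pb pa_ne_pb

end Cfsg.Agent.Lib.Conway.HS
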