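import Cfsg.Agent.S0366

set_option autoImplicit false

/-! Convenient forms of the multiple transitivity of `M24`. -/

namespace Cfsg.Agent.Lib.Conway

open Cfsg

theorem card_golayPt' : Nat.card GolayPt = 24 := by
  rw [Nat.card_eq_fintype_card]
  rfl

/-- `k`-transitivity for `k ≤ 5`, in the form of embeddings -/
theorem m24_trans_emb {k : ℕ} (hk : k ≤ 5) (x y : Fin k ↪ GolayPt) :
    ∃ σ ∈ M24, ∀ i, σ (x i) = y i := by
  haveI := Cfsg.Agent.S0366.result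
  haveI : MulAction.IsMultiplyPretransitive M24 GolayPt k :=
    MulAction.isMultiplyPretransitive_of_le hk (by rw [card_golayPt']; norm_num)
  obtain ⟨g, hg⟩ := (MulAction.isMultiplyPretransitive_iff (G := M24) (α := GolayPt)).mp this x y
  refine ⟨g.1, g.2, fun i => ?_⟩
  have := congrArg (fun e : Fin k ↪ GolayPt => e i) hg
  exact this

theorem m24_trans1 (a b : GolayPt) : ∃ σ ∈ M24, σ a = b := by
  obtain ⟨σ, hσ, h⟩ := m24_trans_emb (k := 1) (by norm_num)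
    ⟨fun _ => a, fun _ _ _ => Subsingleton.elim _ _⟩ ⟨fun _ => b, fun _ _ _ => Subsingleton.elim _ _⟩
  exact ⟨σ, hσ, h 0⟩

theorem m24_trans2 {a b c d : GolayPt} (hab : a ≠ b) (hcd : c ≠ d) :
    ∃ σ ∈ M24, σ a = c ∧ σ b = d := by
  have inj : ∀ {u v : GolayPt}, u ≠ v → Function.Injective ![u, v] := by
    intro u v huv i j hij
    fin_cases i <;> fin_cases j <;> simp_all
  obtain ⟨σ, hσ, h⟩ := m24_trans_emb (k := 2) (by norm_num) ⟨![a, b], inj hab⟩ ⟨![c, d], inj hcd⟩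
  exact ⟨σ, hσ, h 0, h 1⟩

end Cfsg.Agent.Lib.Conway

namespace Cfsg.Agent.Lib.Conway

open Cfsg

theorem m24_trans3 {a b c a' b' c' : GolayPt} (hab : a ≠ b) (hac : a ≠ c) (hbc : b ≠ c)
    (hab' : a' ≠ b') (hac' : a' ≠ c') (hbc' : b' ≠ c') :
    ∃ σ ∈ M24, σ a = a' ∧ σ b = b' ∧ σ c = c' := by
  have inj : ∀ {u v w : GolayPt}, u ≠ v → u ≠ w → v ≠ w → Function.Injective ![u, v, w] := by
    intro u v w huv huw hvw i j hij
    fin_cases i <;> fin_cases j <;> simp_all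
  obtain ⟨σ, hσ, h⟩ := m24_trans_emb (k := 3) (by norm_num) ⟨![a, b, c], inj hab hac hbc⟩
    ⟨![a', b', c'], inj hab' hac' hbc'⟩
  exact ⟨σ, hσ, h 0, h 1, h 2⟩

end Cfsg.Agent.Lib.Conway
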