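import Cfsg.Agent.Lib.Conway.PrimSimple3
import Cfsg.Agent.Lib.Conway.HSMain
import Cfsg.Agent.Lib.Conway.Co2Main
import Cfsg.Agent.Lib.Helper3.Burnside
import Cfsg.Prelude.Def_Sporadic

set_option autoImplicit false

/-!
The joint stabiliser of two minimal vectors of scalar product `-8` is simple of order 898128000 (the
McLaughlin group), from its transitive action on 2025 minimal vectors with point stabiliser `M22`
and suborbits of sizes 330, 462, 1232 (the statement S1634).
-/

namespace Cfsg.Agent.Lib.Conway.McLS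

open Cfsg Cfsg.Agent.Lib.Conway Cfsg.Agent.Lib.Conway.HS MulAction
open Cfsg.Agent.Lib.Helper93.Leech Cfsg.Agent.Lib.Helper93.Golay
open Cfsg.Agent.Lib.Golay.LeechBasis Cfsg.Agent.S1571

/-! ### The standard triple -/

/-- `(1, -3, 1^22)` -/
def w1 : Vec := fun p => if p = pa then 1 else if p = pb then -3 else 1
/-- `(4, -4, 0^22)` -/
def x1 : Vec := fun p => if p = pa then 4 else if p = pb then -4 else 0

set_option maxRecDepth 100000 in
theorem w1_cond : LeechCond w1 1 := by decide +kernel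
set_option maxRecDepth 100000 in
theorem x1_cond : LeechCond x1 0 := by decide +kernel

def W1 : leechLattice := ⟨w1, mem_of_leechCond w1_cond⟩
def X1 : leechLattice := ⟨x1, mem_of_leechCond x1_cond⟩

set_option maxRecDepth 100000 in
theorem facts1 : sqNorm w1 = 32 ∧ sqNorm x1 = 32 ∧ dotInt xh w1 = -8 ∧ dotInt xh x1 = 0 ∧
    dotInt w1 x1 = 16 ∧ sqNorm xh = 32 := by
  unfold sqNorm dotInt; decide +kernel

theorem sum_eq_F0' : XH + X1 = F0 := by
  apply Subtype.ext
  funext k
  show xh k + x1 k = (Pi.single pa 8 : Vec) k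
  unfold xh x1
  by_cases h1 : k = pa
  · subst h1
    simp
  · by_cases h2 : k = pb
    · subst h2
      simp [pa_ne_pb.symm]
    · simp [h1, h2]

/-- the joint stabiliser of the standard triple -/
def TM : Subgroup Co0 :=
  stabilizer Co0 XH ⊓ stabilizer Co0 W1 ⊓ stabilizer Co0 X1

theorem mem_TM {g : Co0} : g ∈ TM ↔ g • XH = XH ∧ g • W1 = W1 ∧ g • X1 = X1 := by
  unfold TM
  simp only [Subgroup.mem_inf, mem_stabilizer_iff, and_assoc]

theorem mono_fix (σ : Equiv.Perm GolayPt) (hσ : σ ∈ M24) (ha : σ pa = pa) (hb : σ pb = pb)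
    (a b c : ℤ) (V : leechLattice)
    (hV : (V : Vec) = fun p => if p = pa then a else if p = pb then b else c) :
    mono σ ∅ hσ empty_mem_supports • V = V := by
  have hsa : σ.symm pa = pa := by conv_lhs => rw [← ha]; simp
  have hsb : σ.symm pb = pb := by conv_lhs => rw [← hb]; simp
  have hka : ∀ k, σ.symm k = pa ↔ k = pa := fun k => by
    constructor
    · intro h; rw [← ha, ← h]; simp
    · intro h; rw [h, hsa]
  have hkb : ∀ k, σ.symm k = pb ↔ k = pb := fun k => by
    constructor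
    · intro h; rw [← hb, ← h]; simp
    · intro h; rw [h, hsb]
  apply Subtype.ext
  rw [mono_smul, hV]
  funext k
  rw [signedPerm_apply, if_neg (Finset.notMem_empty _)]
  by_cases h1 : k = pa
  · rw [if_pos ((hka k).2 h1), if_pos h1]
  · rw [if_neg (fun h => h1 ((hka k).1 h)), if_neg h1]
    by_cases h2 : k = pb
    · rw [if_pos ((hkb k).2 h2), if_pos h2]
    · rw [if_neg (fun h => h2 ((hkb k).1 h)), if_neg h2]

theorem TM_eq_T3 : TM = T3 := by
  ext g
  constructor
  · intro hg
    obtain ⟨h1, h2, h3⟩ := mem_TM.1 hg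
    have hF : g • F0 = F0 := by rw [← sum_eq_F0', co0_add, h1, h3]
    obtain ⟨f, ⟨σ, hσ, c, hc, rfl⟩, hf⟩ := part1 g (stab_of_fix g hF)
    have hw : ∀ k, signedPerm σ c w1 k = w1 k := fun k => by
      have := congrArg (fun v : leechLattice => (v : Vec) k) h2
      simp only [hf] at this
      exact this
    have hx : ∀ k, signedPerm σ c xh k = xh k := fun k => by
      have := congrArg (fun v : leechLattice => (v : Vec) k) h1
      simp only [hf] at this
      exact this
    have hc0 : c = ∅ := by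
      rw [Finset.eq_empty_iff_forall_notMem]
      intro k hk
      have := hw k
      rw [signedPerm_apply, if_pos hk] at this
      unfold w1 at this
      split_ifs at this <;> omega
    subst hc0
    have hsb : σ.symm pb = pb := by
      have := hw pb
      rw [signedPerm_apply, if_neg (Finset.notMem_empty _)] at this
      unfold w1 at this
      rw [if_neg pa_ne_pb.symm, if_pos rfl] at this
      by_contra hne
      rw [if_neg hne] at this
      split_ifs at this <;> omega
    have hsa : σ.symm pa = pa := by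
      have := hx pa
      rw [signedPerm_apply, if_neg (Finset.notMem_empty _)] at this
      unfold xh at this
      rw [if_pos rfl] at this
      by_contra hne
      rw [if_neg hne] at this
      have hne2 : σ.symm pa ≠ pb := by
        intro h
        have : σ.symm pa = σ.symm pb := by rw [h, hsb]
        exact pa_ne_pb (σ.symm.injective this)
      rw [if_neg hne2] at this
      omega
    have ha : σ pa = pa := by conv_lhs => rw [← hsa]; simp
    have hb : σ pb = pb := by conv_lhs => rw [← hsb]; simp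
    have hg' : g = mono σ ∅ hσ empty_mem_supports := by
      apply co0_ext
      intro v
      apply Subtype.ext
      rw [hf, mono_smul]
    rw [hg']
    exact mono_mem_T3 σ hσ ha hb
  · intro hg
    obtain ⟨σ, hσ, ha, hb, rfl⟩ := T3_form hg
    rw [mem_TM]
    exact ⟨mono_fix σ hσ ha hb 4 4 0 XH rfl, mono_fix σ hσ ha hb 1 (-3) 1 W1 rfl,
      mono_fix σ hσ ha hb 4 (-4) 0 X1 rfl⟩

theorem TM_simple : IsSimpleGroup TM := by
  rw [TM_eq_T3]; exact T3_simple

theorem card_TM : Nat.card TM = 443520 := by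
  rw [TM_eq_T3]; exact card_T3

/-! ### The action on the 2025 vectors -/

/-- the minimal vectors orthogonal to `v` with scalar product 16 with `w` -/
def Om (v w : leechLattice) : Set leechLattice :=
  {x : leechLattice | sqNorm (x : Vec) = 32 ∧ dotInt (v : Vec) (x : Vec) = 0 ∧
    dotInt (w : Vec) (x : Vec) = 16}

/-- the statement S1634 -/
def P34 : Prop := ∀ v w : leechLattice, sqNorm (v : Vec) = 32 → sqNorm (w : Vec) = 32 →
  dotInt (v : Vec) (w : Vec) = -8 →
  (Om v w).ncard = 2025 ∧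
  (∀ x ∈ Om v w, ∀ x' ∈ Om v w, ∃ g : Co0, g • v = v ∧ g • w = w ∧ g • x = x') ∧
  ∀ x ∈ Om v w, ∃ y₁ ∈ Om v w, ∃ y₂ ∈ Om v w, ∃ y₃ ∈ Om v w,
    (orbit ↥(stabilizer Co0 v ⊓ stabilizer Co0 w ⊓ stabilizer Co0 x) y₁).ncard = 330 ∧
    (orbit ↥(stabilizer Co0 v ⊓ stabilizer Co0 w ⊓ stabilizer Co0 x) y₂).ncard = 462 ∧
    (orbit ↥(stabilizer Co0 v ⊓ stabilizer Co0 w ⊓ stabilizer Co0 x) y₃).ncard = 1232

theorem smul_mem_Om {v w : leechLattice} {g : Co0} (hg : g ∈ G2 v w) {x : leechLattice}
    (hx : x ∈ Om v w) : g • x ∈ Om v w := by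
  obtain ⟨h1, h2⟩ := mem_G2.1 hg
  refine ⟨?_, ?_, ?_⟩
  · rw [co0_norm]; exact hx.1
  · have := co0_dot g v x
    rw [h1] at this
    rw [this]; exact hx.2.1
  · have := co0_dot g w x
    rw [h2] at this
    rw [this]; exact hx.2.2

instance act (v w : leechLattice) : MulAction (G2 v w) (Om v w) where
  smul g x := ⟨(g : Co0) • (x : leechLattice), smul_mem_Om g.2 x.2⟩
  one_smul x := Subtype.ext (one_smul Co0 (x : leechLattice))
  mul_smul g h x := Subtype.ext (mul_smul (g : Co0) (h : Co0) (x : leechLattice))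

theorem X1_mem : X1 ∈ Om XH W1 := ⟨facts1.2.1, facts1.2.2.2.1, facts1.2.2.2.2.1⟩

/-- the base point -/
def x0 : Om XH W1 := ⟨X1, X1_mem⟩

/-- the stabiliser of the base point is `TM` -/
noncomputable def stabEquivTM : stabilizer (G2 XH W1) x0 ≃* TM where
  toFun g := ⟨((g : G2 XH W1) : Co0), by
    obtain ⟨h1, h2⟩ := mem_G2.1 (g : G2 XH W1).2
    have h3 : ((g : G2 XH W1) : Co0) • X1 = X1 :=
      congrArg Subtype.val (mem_stabilizer_iff.1 g.2)
    exact mem_TM.2 ⟨h1, h2, h3⟩⟩
  invFun g := ⟨⟨(g : Co0), by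
      obtain ⟨h1, h2, -⟩ := mem_TM.1 g.2
      exact mem_G2.2 ⟨h1, h2⟩⟩, by
    rw [mem_stabilizer_iff]
    apply Subtype.ext
    exact (mem_TM.1 g.2).2.2⟩
  left_inv g := rfl
  right_inv g := rfl
  map_mul' g h := rfl

/-- the image of an orbit of the point stabiliser -/
theorem orbit_val (z : Om XH W1) :
    Subtype.val '' (orbit (stabilizer (G2 XH W1) x0) z) =
      orbit ↥(stabilizer Co0 XH ⊓ stabilizer Co0 W1 ⊓ stabilizer Co0 X1) (z : leechLattice) := by
  ext t
  constructor
  · rintro ⟨_, ⟨h, rfl⟩, rfl⟩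
    exact ⟨⟨((h : G2 XH W1) : Co0), (stabEquivTM h).2⟩, rfl⟩
  · rintro ⟨k, rfl⟩
    exact ⟨(stabEquivTM.symm ⟨(k : Co0), k.2⟩ : G2 XH W1) • z,
      ⟨stabEquivTM.symm ⟨(k : Co0), k.2⟩, rfl⟩, rfl⟩

theorem ncard_orbit (z : Om XH W1) :
    (orbit (stabilizer (G2 XH W1) x0) z).ncard =
      (orbit ↥(stabilizer Co0 XH ⊓ stabilizer Co0 W1 ⊓ stabilizer Co0 X1) (z : leechLattice)).ncard := by
  rw [← orbit_val, Set.ncard_image_of_injective _ Subtype.val_injective]

set_option maxRecDepth 100000 in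
theorem arith : ∀ I : Finset (Fin 3), I.Nonempty → I ≠ Finset.univ →
    ¬ (1 + ∑ i ∈ I, (![330, 462, 1232] : Fin 3 → ℕ) i) ∣ 2025 := by decide

/-- the joint stabiliser of the standard pair is the McLaughlin group -/
theorem isMcL_std (h34 : P34) : IsSimpleGroup (G2 XH W1) ∧ Nat.card (G2 XH W1) = 898128000 := by
  have := HS.finite_Co0
  obtain ⟨hcount, htr, horb⟩ := h34 XH W1 facts1.2.2.2.2.2 facts1.1 facts1.2.2.1
  have hfinS : (Om XH W1).Finite := Set.finite_of_ncard_ne_zero (by rw [hcount]; norm_num)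
  have : Finite (Om XH W1) := hfinS.to_subtype
  have htrans : ∀ z : Om XH W1, ∃ g : G2 XH W1, g • x0 = z := by
    intro z
    obtain ⟨g, hg1, hg2, hg3⟩ := htr X1 X1_mem z.1 z.2
    exact ⟨⟨g, mem_G2.2 ⟨hg1, hg2⟩⟩, Subtype.ext hg3⟩
  have : IsPretransitive (G2 XH W1) (Om XH W1) := ⟨fun a b => by
    obtain ⟨g, rfl⟩ := htrans a
    obtain ⟨g', rfl⟩ := htrans b
    exact ⟨g' * g⁻¹, by rw [mul_smul, inv_smul_smul]⟩⟩
  have hH : IsSimpleGroup (stabilizer (G2 XH W1) x0) := by
    haveI := TM_simple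
    exact (stabEquivTM.isSimpleGroup_congr).2 inferInstance
  have hHcard : Nat.card (stabilizer (G2 XH W1) x0) = 443520 := by
    rw [Nat.card_congr stabEquivTM.toEquiv]; exact card_TM
  obtain ⟨y1, hy1, y2, hy2, y3, hy3, c1, c2, c3⟩ := horb X1 X1_mem
  set y : Fin 3 → Om XH W1 := ![⟨y1, hy1⟩, ⟨y2, hy2⟩, ⟨y3, hy3⟩] with hy
  have hcard : ∀ i, (orbit (stabilizer (G2 XH W1) x0) (y i)).ncard =
      (![330, 462, 1232] : Fin 3 → ℕ) i := by
    intro i
    rw [ncard_orbit]
    fin_cases i
    · exact c1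
    · exact c2
    · exact c3
  have hcardΩ : Nat.card (Om XH W1) = 2025 := by
    rw [Nat.card_coe_set_eq]; exact hcount
  have hcover := PrimSimple.cover_of_card (G := G2 XH W1) x0 y ![330, 462, 1232] hcard
    (by decide) (by decide) (by rw [hcardΩ]; decide)
  have hmax := PrimSimple.stab_max_of_orbits x0 y ![330, 462, 1232] hcard
    (by decide) (by decide) hcover (by rw [hcardΩ]; exact arith)
  have hidx : (stabilizer (G2 XH W1) x0).index = 2025 := by
    rw [index_stabilizer_of_transitive (G2 XH W1) x0, hcardΩ]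
  -- faithfulness
  have hfaith : ∀ g : G2 XH W1, (∀ z : Om XH W1, g • z = z) → g = 1 := by
    set Ker : Subgroup (G2 XH W1) :=
      { carrier := {g | ∀ z : Om XH W1, g • z = z}
        mul_mem' := fun {a b} ha hb z => by rw [mul_smul, hb z, ha z]
        one_mem' := fun z => one_smul _ z
        inv_mem' := fun {a} ha z => by rw [inv_smul_eq_iff, ha z] } with hKer
    have hKn : Ker.Normal := ⟨fun n hn g z => by
      show (g * n * g⁻¹) • z = z
      rw [mul_smul, mul_smul, hn (g⁻¹ • z), smul_inv_smul]⟩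
    have hKle : Ker ≤ stabilizer (G2 XH W1) x0 := fun g hg => mem_stabilizer_iff.2 (hg x0)
    have hnorm : (Ker.subgroupOf (stabilizer (G2 XH W1) x0)).Normal := inferInstance
    intro g hg
    have hgK : g ∈ Ker := hg
    rcases hH.eq_bot_or_eq_top_of_normal _ hnorm with h | h
    · have hmem : (⟨g, hKle hgK⟩ : stabilizer (G2 XH W1) x0) ∈
          Ker.subgroupOf (stabilizer (G2 XH W1) x0) := by
        rw [Subgroup.mem_subgroupOf]; exact hgK
      rw [h, Subgroup.mem_bot] at hmem
      exact congrArg (fun z : stabilizer (G2 XH W1) x0 => (z : G2 XH W1)) hmem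
    · exfalso
      have h1 : orbit (stabilizer (G2 XH W1) x0) (y 0) = {y 0} := by
        ext t
        constructor
        · rintro ⟨k, rfl⟩
          have hk : k ∈ Ker.subgroupOf (stabilizer (G2 XH W1) x0) := by rw [h]; trivial
          rw [Subgroup.mem_subgroupOf] at hk
          exact hk (y 0)
        · rintro rfl
          exact mem_orbit_self _
      have h2 := hcard 0
      rw [h1, Set.ncard_singleton] at h2
      revert h2
      decide
  have hsimple : IsSimpleGroup (G2 XH W1) := by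
    apply PrimSimple.isSimpleGroup_of_char x0 hfaith htrans hH hmax
    intro K hK
    rw [hidx] at hK
    haveI : Fact (Nat.Prime 3) := ⟨by norm_num⟩
    haveI : Group.IsSolvable K :=
      Cfsg.Agent.Lib.Helper3.isSolvable_of_card_eq_prime_pow_mul 3 5 4 2 (by norm_num) (by norm_num)
        (by rw [hK]; norm_num)
    exact PrimSimple.exists_char_of_solvable 3 5 (by norm_num) (by norm_num)
      (by rw [hK]; norm_num) (by rw [hK]; norm_num)
  refine ⟨hsimple, ?_⟩
  rw [← Subgroup.card_mul_index (stabilizer (G2 XH W1) x0), hidx, hHcard]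

/-- transitivity on the pairs of minimal vectors of scalar product `-8` -/
theorem pair_trans8 (v w : leechLattice) (hv : sqNorm (v : Vec) = 32) (hw : sqNorm (w : Vec) = 32)
    (hvw : dotInt (v : Vec) (w : Vec) = -8) : ∃ g : Co0, g • v = XH ∧ g • w = W1 := by
  obtain ⟨g0, hg0⟩ := trans4 v XH hv facts1.2.2.2.2.2
  have h1 : dotInt (XH : Vec) ((g0 • w : leechLattice) : Vec) = -8 := by
    have := co0_dot g0 v w
    rw [hg0] at this
    rw [this]; exact hvw
  obtain ⟨h, hh1, hh2⟩ := stab_trans_d8 XH (g0 • w) W1 facts1.2.2.2.2.2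
    (by rw [co0_norm]; exact hw) facts1.1 h1 facts1.2.2.1
  exact ⟨h * g0, by rw [mul_smul, hg0, hh1], by rw [mul_smul, hh2]⟩

theorem isMcL_of (h34 : P34) (v w : leechLattice) (hv : sqNorm (v : Vec) = 32)
    (hw : sqNorm (w : Vec) = 32) (hvw : dotInt (v : Vec) (w : Vec) = -8) :
    Cfsg.IsMcL ↥(stabilizer Cfsg.Co0 v ⊓ stabilizer Cfsg.Co0 w) := by
  obtain ⟨g, h1, h2⟩ := pair_trans8 v w hv hw hvw
  obtain ⟨hs, hc⟩ := isMcL_std h34
  have e := conjEquiv g h1 h2
  exact ⟨(e.isSimpleGroup_congr).2 hs, by rw [Nat.card_congr e.toEquiv]; exact hc⟩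

end Cfsg.Agent.Lib.Conway.McLS
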