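import Cfsg.Agent.Lib.Conway.Shapes

set_option autoImplicit false

/-!
Shapes of the integer vectors with sum of squares 48 occurring in the Leech lattice.
-/

namespace Cfsg.Agent.Lib.Conway

open Cfsg Cfsg.Agent.Lib.Helper93.Leech Cfsg.Agent.Lib.Helper93.Golay
open scoped Pointwise

/-- odd vectors of norm 48, normalised to `≡ 1 mod 4` -/
theorem shape6_odd {y : Vec} (h4 : ∀ i, y i % 4 = 1) (hn : sqNorm y = 48) :
    (∃ i0, y i0 = 5 ∧ ∀ i, i ≠ i0 → y i = 1) ∨
    (∃ s : Finset GolayPt, s.card = 3 ∧ (∀ i ∈ s, y i = -3) ∧ ∀ i, i ∉ s → y i = 1) := by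
  have hterm : ∀ i, 0 ≤ y i ^ 2 - 1 := by
    intro i
    have : y i ≠ 0 := by intro h; have := h4 i; rw [h] at this; norm_num at this
    have : 0 < y i ^ 2 := by positivity
    omega
  have hsum : ∑ i, (y i ^ 2 - 1) = 24 := by
    rw [Finset.sum_sub_distrib]
    unfold sqNorm at hn
    rw [hn]
    simp
  have hval : ∀ i, y i = 1 ∨ y i = -3 ∨ y i = 5 := by
    intro i
    have h1 : y i ^ 2 - 1 ≤ ∑ i, (y i ^ 2 - 1) :=
      Finset.single_le_sum (f := fun i => y i ^ 2 - 1) (fun i _ => hterm i) (Finset.mem_univ i)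
    rw [hsum] at h1
    have := h4 i
    have h2 : -6 < y i := by nlinarith
    have h3 : y i < 6 := by nlinarith
    omega
  by_cases h5 : ∃ i0, y i0 = 5
  · left
    obtain ⟨i0, hi0⟩ := h5
    refine ⟨i0, hi0, fun i hi => ?_⟩
    have hsplit := Finset.add_sum_erase Finset.univ (fun i => y i ^ 2 - 1) (Finset.mem_univ i0)
    rw [hsum] at hsplit
    have hrest0 : ∑ i ∈ Finset.univ.erase i0, (y i ^ 2 - 1) = 0 := by
      simp only [hi0] at hsplit
      omega
    have := (Finset.sum_eq_zero_iff_of_nonneg (fun i _ => hterm i)).mp hrest0 i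
      (Finset.mem_erase.mpr ⟨hi, Finset.mem_univ i⟩)
    rcases hval i with h | h | h
    · exact h
    · rw [h] at this; norm_num at this
    · rw [h] at this; norm_num at this
  · right
    push Not at h5
    have hval' : ∀ i, y i = 1 ∨ y i = -3 := by
      intro i
      rcases hval i with h | h | h
      · exact Or.inl h
      · exact Or.inr h
      · exact absurd h (h5 i)
    refine ⟨Finset.univ.filter (fun i => y i = -3), ?_, fun i hi => (Finset.mem_filter.mp hi).2,
      fun i hi => ?_⟩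
    · have hpt : ∀ i, y i ^ 2 - 1 = if y i = -3 then 8 else 0 := by
        intro i
        rcases hval' i with h | h <;> rw [h] <;> norm_num
      simp_rw [hpt] at hsum
      rw [← Finset.sum_filter, Finset.sum_const] at hsum
      simp only [nsmul_eq_mul] at hsum
      have : ((Finset.univ.filter (fun i => y i = -3)).card : ℤ) = 3 := by omega
      exact_mod_cast this
    · rcases hval' i with h | h
      · exact h
      · exact absurd (Finset.mem_filter.mpr ⟨Finset.mem_univ i, h⟩) hi

/-- even vectors of norm 48 whose class `2 mod 4` is an octad -/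
theorem shape6_42 {y : Vec} (hpar : ∀ i, y i % 2 = 0) (hD : (cls y 2).card = 8)
    (hn : sqNorm y = 48) :
    ∃ p, p ∉ cls y 2 ∧ (y p = 4 ∨ y p = -4) ∧ (∀ i ∈ cls y 2, y i = 2 ∨ y i = -2) ∧
      ∀ i, i ∉ cls y 2 → i ≠ p → y i = 0 := by
  have hle : ∀ i, 0 ≤ y i ^ 2 - (if i ∈ cls y 2 then (4 : ℤ) else 0) := by
    intro i
    split
    · rename_i hi
      rw [mem_cls] at hi
      have h' : y i ≤ -2 ∨ 2 ≤ y i := by omega
      rcases h' with h' | h' <;> nlinarith
    · have := sq_nonneg (y i); omega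
  have hsum : ∑ i, (y i ^ 2 - (if i ∈ cls y 2 then (4 : ℤ) else 0)) = 16 := by
    rw [Finset.sum_sub_distrib, Finset.sum_ite_mem, Finset.univ_inter, Finset.sum_const, hD]
    unfold sqNorm at hn
    rw [hn]
    norm_num
  have hsingle : ∀ i, y i ^ 2 - (if i ∈ cls y 2 then (4 : ℤ) else 0) ≤ 16 := by
    intro i
    have := Finset.single_le_sum (f := fun i => y i ^ 2 - (if i ∈ cls y 2 then (4 : ℤ) else 0))
      (fun i _ => hle i) (Finset.mem_univ i)
    rw [hsum] at this
    exact this
  have hin : ∀ i ∈ cls y 2, y i = 2 ∨ y i = -2 := by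
    intro i hi
    have h1 := hsingle i
    rw [if_pos hi] at h1
    rw [mem_cls] at hi
    have h2 : -5 < y i := by nlinarith
    have h3 : y i < 5 := by nlinarith
    omega
  have hin0 : ∀ i ∈ cls y 2, y i ^ 2 - (if i ∈ cls y 2 then (4 : ℤ) else 0) = 0 := by
    intro i hi
    rw [if_pos hi]
    rcases hin i hi with h | h <;> rw [h] <;> norm_num
  have hout4 : ∀ i, i ∉ cls y 2 → y i % 4 = 0 := by
    intro i hi
    rw [mem_cls] at hi
    have := hpar i
    omega
  obtain ⟨p, hp⟩ : ∃ p, y p ^ 2 - (if p ∈ cls y 2 then (4 : ℤ) else 0) ≠ 0 := by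
    by_contra hcon
    push Not at hcon
    have : ∑ i, (y i ^ 2 - (if i ∈ cls y 2 then (4 : ℤ) else 0)) = 0 :=
      Finset.sum_eq_zero fun i _ => hcon i
    omega
  have hpD : p ∉ cls y 2 := fun h => hp (hin0 p h)
  rw [if_neg hpD, sub_zero] at hp
  have hp0 : y p ≠ 0 := fun h => hp (by rw [h]; norm_num)
  have hp4 : y p = 4 ∨ y p = -4 := by
    have h1 := hsingle p
    rw [if_neg hpD, sub_zero] at h1
    have := hout4 p hpD
    have h2 : -5 < y p := by nlinarith
    have h3 : y p < 5 := by nlinarith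
    omega
  refine ⟨p, hpD, hp4, hin, fun i hi hip => ?_⟩
  have hsplit := Finset.add_sum_erase Finset.univ
    (fun i => y i ^ 2 - (if i ∈ cls y 2 then (4 : ℤ) else 0)) (Finset.mem_univ p)
  rw [hsum] at hsplit
  simp only [if_neg hpD, sub_zero] at hsplit
  have hp16 : y p ^ 2 = 16 := by rcases hp4 with h | h <;> rw [h] <;> norm_num
  have hrest0 : ∑ i ∈ Finset.univ.erase p, (y i ^ 2 - (if i ∈ cls y 2 then (4 : ℤ) else 0)) = 0 := by
    omega
  have := (Finset.sum_eq_zero_iff_of_nonneg (fun i _ => hle i)).mp hrest0 i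
    (Finset.mem_erase.mpr ⟨hip, Finset.mem_univ i⟩)
  rw [if_neg hi, sub_zero] at this
  exact pow_eq_zero_iff (n := 2) (by norm_num) |>.mp this

/-- no vector of norm 48 with all coordinates divisible by 4 and coordinate sum divisible by 8 -/
theorem shape6_none {y : Vec} (h4 : ∀ i, y i % 4 = 0) (hsum : (∑ i, y i) % 8 = 0)
    (hn : sqNorm y = 48) : False := by
  have hz : ∀ i, y i = 4 * (y i / 4) := fun i => by have := h4 i; omega
  have h1 : ∑ i, y i = 4 * ∑ i, y i / 4 := by
    rw [Finset.mul_sum]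
    exact Finset.sum_congr rfl fun i _ => hz i
  have h2 : sqNorm y = 16 * ∑ i, (y i / 4) ^ 2 := by
    unfold sqNorm
    rw [Finset.mul_sum]
    exact Finset.sum_congr rfl fun i _ => by
      have := hz i
      calc y i ^ 2 = (4 * (y i / 4)) ^ 2 := by rw [← this]
        _ = 16 * (y i / 4) ^ 2 := by ring
  have h3 : (2 : ℤ) ∣ ∑ i, ((y i / 4) ^ 2 - y i / 4) := by
    apply Finset.dvd_sum
    intro i _
    have : (y i / 4) ^ 2 - y i / 4 = (y i / 4) * (y i / 4 - 1) := by ring
    rw [this]
    exact even_iff_two_dvd.mp (Int.even_mul_pred_self _)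
  rw [Finset.sum_sub_distrib] at h3
  omega

end Cfsg.Agent.Lib.Conway
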