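import Cfsg.Agent.Lib.Conway.Norm4
import Cfsg.Agent.Lib.Conway.Shapes6
import Cfsg.Agent.Lib.Helper93.M24Structure
import Cfsg.Agent.S0368

set_option autoImplicit false

/-!
Normal forms under the monomial group of the vectors of sum of squares 48.
-/

namespace Cfsg.Agent.Lib.Conway

open Cfsg Cfsg.Agent.Lib.Helper93.Leech Cfsg.Agent.Lib.Helper93.Golay
open Cfsg.Agent.Lib.Golay.LeechBasis
open scoped Pointwise

/-! ### Even vectors supported on a code word with entries `±2` -/

theorem conj_2n (y0 : ℕ) (hy0 : y0 < 2 ^ 24) (hcheck : pairCheck y0 = true) (hY0 : fset y0 ∈ CS)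
    (hcard8 : (2 * ((fset y0).card : ℤ)) % 8 = 0)
    (v : leechLattice) (hpar : ∀ i, (v : Vec) i % 2 = 0)
    (hn : sqNorm (v : Vec) = 4 * ((cls (v : Vec) 2).card : ℤ))
    (σ : Equiv.Perm GolayPt) (hσ : σ ∈ M24) (hσD : σ • cls (v : Vec) 2 = fset y0) :
    Conj v ⟨fun p => if p ∈ fset y0 then (2 : ℤ) else 0, two_ind_mem hY0⟩ := by
  obtain ⟨hin, hout⟩ := shape_2n hpar hn
  set w : leechLattice :=
    ⟨signedPerm σ ∅ v, signedPerm_mem hσ empty_mem_supports v.2⟩ with hw
  have h1 : Conj v w := conj_mono σ ∅ hσ empty_mem_supports v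
  have hwval : ∀ k, (w : Vec) k = (v : Vec) (σ.symm k) := by
    intro k
    show signedPerm σ ∅ (v : Vec) k = _
    rw [signedPerm_apply]
    simp
  have hmemO : ∀ k, k ∈ fset y0 ↔ σ.symm k ∈ cls (v : Vec) 2 := by
    intro k
    rw [← hσD, Finset.mem_smul_finset]
    constructor
    · rintro ⟨y, hy, rfl⟩
      simpa [Equiv.Perm.smul_def] using hy
    · intro h
      exact ⟨σ.symm k, h, by simp [Equiv.Perm.smul_def]⟩
  have hwin : ∀ k ∈ fset y0, (w : Vec) k = 2 ∨ (w : Vec) k = -2 := by
    intro k hk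
    rw [hwval]
    exact hin _ ((hmemO k).mp hk)
  have hwout : ∀ k, k ∉ fset y0 → (w : Vec) k = 0 := by
    intro k hk
    rw [hwval]
    exact hout _ (fun h => hk ((hmemO k).mpr h))
  set M : Finset GolayPt := (fset y0).filter (fun k => (w : Vec) k = -2) with hM
  have hMsub : M ⊆ fset y0 := Finset.filter_subset _ _
  have hev : Even M.card := by
    obtain ⟨m', hpar', hsum', -⟩ := mem_data w.2
    have hm' : m' % 2 = 0 := by
      rw [← hpar' none]
      rcases Decidable.em (none ∈ fset y0) with h | h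
      · rcases hwin none h with e | e <;> rw [e] <;> norm_num
      · rw [hwout none h]; norm_num
    have hsumw : ∑ k, (w : Vec) k = 2 * ((fset y0).card : ℤ) - 4 * (M.card : ℤ) := by
      have hpt : ∀ k, (w : Vec) k =
          (if k ∈ fset y0 then (2 : ℤ) else 0) - (if k ∈ M then (4 : ℤ) else 0) := by
        intro k
        by_cases hk : k ∈ fset y0
        · rw [if_pos hk]
          by_cases hkM : k ∈ M
          · rw [if_pos hkM]
            rw [hM, Finset.mem_filter] at hkM
            rw [hkM.2]; norm_num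
          · rw [if_neg hkM]
            rcases hwin k hk with e | e
            · rw [e]; norm_num
            · exact absurd (Finset.mem_filter.mpr ⟨hk, e⟩) hkM
        · rw [if_neg hk, if_neg (fun h => hk (hMsub h)), hwout k hk]; norm_num
      simp_rw [hpt]
      rw [Finset.sum_sub_distrib, Finset.sum_ite_mem, Finset.sum_ite_mem, Finset.univ_inter,
        Finset.univ_inter, Finset.sum_const, Finset.sum_const]
      simp only [nsmul_eq_mul]
      ring
    rw [hsumw] at hsum'
    rw [Nat.even_iff]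
    omega
  obtain ⟨c, hc, hcM⟩ := restrict_even_mask y0 hcheck M hMsub hev
  have h2' := conj_mono 1 c M24.one_mem hc w
  refine h1.trans (h2'.trans (conj_of_eq ?_))
  funext k
  show signedPerm 1 c (w : Vec) k = (if k ∈ fset y0 then (2 : ℤ) else 0)
  rw [signedPerm_apply, one_symm]
  by_cases hk : k ∈ fset y0
  · rw [if_pos hk]
    have hkc : k ∈ c ↔ k ∈ M := by
      rw [← hcM, Finset.mem_inter]
      exact ⟨fun h => ⟨h, hk⟩, fun h => h.1⟩
    by_cases hkM : k ∈ M
    · rw [if_pos (hkc.mpr hkM)]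
      rw [hM, Finset.mem_filter] at hkM
      rw [hkM.2]; norm_num
    · rw [if_neg (fun h => hkM (hkc.mp h))]
      rcases hwin k hk with e | e
      · exact e
      · exact absurd (Finset.mem_filter.mpr ⟨hk, e⟩) hkM
  · rw [if_neg hk, hwout k hk]
    split <;> norm_num

/-! ### Shape `(2^12, 0^12)` -/

/-- the standard dodecad (the squares modulo 23), as a mask -/
def d0 : ℕ := 340831

theorem fset_d0_mem : fset d0 ∈ dodecads := by
  rw [mem_dodecads_iff, fmask_fset d0 (by norm_num [d0])]
  decide +kernel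

set_option maxRecDepth 100000 in
theorem pairCheck_d0 : pairCheck d0 = true := by decide +kernel

/-- representative `(2^12, 0^12)` -/
def L212 : leechLattice :=
  ⟨fun p => if p ∈ fset d0 then (2 : ℤ) else 0, two_ind_mem fset_d0_mem.1⟩

theorem conj6_212 (v : leechLattice) (hn : sqNorm (v : Vec) = 48) (hpar : ∀ i, (v : Vec) i % 2 = 0)
    (hD : (cls (v : Vec) 2).card = 12) : Conj v L212 := by
  obtain ⟨m, -, -, hcls⟩ := mem_data v.2
  have hDd : cls (v : Vec) 2 ∈ dodecads := ⟨hcls 2, hD⟩
  obtain ⟨⟨σ, hσ⟩, hσD⟩ := Cfsg.Agent.S0368.result _ _ hDd fset_d0_mem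
  have hc : (fset d0).card = 12 := fset_d0_mem.2
  exact conj_2n d0 (by norm_num [d0]) pairCheck_d0 fset_d0_mem.1 (by rw [hc]; norm_num) v hpar
    (by rw [hn, hD]; norm_num) σ hσ hσD

/-! ### Odd shapes -/

/-- the vector `(5, 1^23)` -/
def v5 : Vec := fun p => if p = none then 5 else 1

set_option maxRecDepth 100000 in
theorem v5_cond : LeechCond v5 1 := by decide +kernel

/-- representative `(5, 1^23)` -/
def L5 : leechLattice := ⟨v5, mem_of_leechCond v5_cond⟩

/-- the vector `(-3, -3, -3, 1^21)` -/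
def v3 : Vec := fun p => if p = none ∨ p = some 0 ∨ p = some 1 then -3 else 1

set_option maxRecDepth 100000 in
theorem v3_cond : LeechCond v3 1 := by decide +kernel

/-- representative `(-3^3, 1^21)` -/
def L3 : leechLattice := ⟨v3, mem_of_leechCond v3_cond⟩

theorem conj6_odd (v : leechLattice) (hn : sqNorm (v : Vec) = 48) (hodd : (v : Vec) none % 2 = 1) :
    ((∃ i0, (v : Vec) i0 = 5 ∨ (v : Vec) i0 = -5) ∧ Conj v L5) ∨
    ((∀ i, (v : Vec) i ≠ 5 ∧ (v : Vec) i ≠ -5) ∧ Conj v L3) := by
  obtain ⟨m, hpar, -, hcls⟩ := mem_data v.2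
  have hall : ∀ i, (v : Vec) i % 2 = 1 := fun i => by rw [hpar i, ← hpar none]; exact hodd
  have hc : (cls (v : Vec) 1)ᶜ ∈ CS := compl_mem_supports (hcls 1)
  set w : leechLattice :=
    ⟨signedPerm 1 (cls (v : Vec) 1)ᶜ v, signedPerm_mem M24.one_mem hc v.2⟩ with hw
  have h1 : Conj v w := conj_mono 1 _ M24.one_mem hc v
  have hw4 : ∀ i, (w : Vec) i % 4 = 1 := by
    intro i
    show signedPerm 1 _ (v : Vec) i % 4 = 1
    rw [signedPerm_apply, one_symm]
    have := hall i
    by_cases hi : i ∈ (cls (v : Vec) 1)ᶜ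
    · rw [if_pos hi]
      rw [Finset.mem_compl, mem_cls] at hi
      omega
    · rw [if_neg hi]
      rw [Finset.mem_compl, not_not, mem_cls] at hi
      omega
  have hwn : sqNorm (w : Vec) = 48 := by
    show sqNorm (signedPerm 1 _ (v : Vec)) = 48
    rw [sqNorm_signedPerm]; exact hn
  have hwv : ∀ i, (w : Vec) i = (v : Vec) i ∨ (w : Vec) i = -(v : Vec) i := by
    intro i
    show signedPerm 1 _ (v : Vec) i = _ ∨ signedPerm 1 _ (v : Vec) i = _
    rw [signedPerm_apply, one_symm]
    split
    · right; rfl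
    · left; rfl
  rcases shape6_odd hw4 hwn with ⟨i0, h5, hone⟩ | ⟨s, hs3, hsm, hsn⟩
  · left
    refine ⟨⟨i0, ?_⟩, ?_⟩
    · rcases hwv i0 with e | e <;> rw [e] at h5 <;> omega
    obtain ⟨σ, hσ, hσi⟩ := m24_trans1 i0 none
    have h2 := conj_mono σ ∅ hσ empty_mem_supports w
    refine h1.trans (h2.trans (conj_of_eq ?_))
    funext j
    show signedPerm σ ∅ (w : Vec) j = v5 j
    rw [signedPerm_apply]
    simp only [Finset.notMem_empty, if_false]
    unfold v5
    by_cases hj : j = none
    · subst hj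
      rw [if_pos rfl]
      have : σ.symm none = i0 := by rw [← hσi]; simp
      rw [this, h5]
    · rw [if_neg hj]
      apply hone
      intro e
      apply hj
      rw [← hσi, ← e]; simp
  · right
    refine ⟨fun i => ?_, ?_⟩
    · have hwi : (w : Vec) i = 1 ∨ (w : Vec) i = -3 := by
        by_cases hi : i ∈ s
        · exact Or.inr (hsm i hi)
        · exact Or.inl (hsn i hi)
      rcases hwv i with e | e <;> rcases hwi with e' | e' <;> rw [e] at e' <;> omega
    obtain ⟨a, b, c, hab, hac, hbc, rfl⟩ := Finset.card_eq_three.mp hs3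
    obtain ⟨σ, hσ, hσa, hσb, hσc⟩ := m24_trans3 hab hac hbc
      (show (none : GolayPt) ≠ some 0 by decide) (show (none : GolayPt) ≠ some 1 by decide)
      (show (some 0 : GolayPt) ≠ some 1 by decide)
    have h2 := conj_mono σ ∅ hσ empty_mem_supports w
    refine h1.trans (h2.trans (conj_of_eq ?_))
    funext j
    show signedPerm σ ∅ (w : Vec) j = v3 j
    rw [signedPerm_apply]
    simp only [Finset.notMem_empty, if_false]
    unfold v3
    have hmem : σ.symm j ∈ ({a, b, c} : Finset GolayPt) ↔ (j = none ∨ j = some 0 ∨ j = some 1) := by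
      simp only [Finset.mem_insert, Finset.mem_singleton]
      constructor
      · rintro (e | e | e)
        · left; rw [← hσa, ← e]; simp
        · right; left; rw [← hσb, ← e]; simp
        · right; right; rw [← hσc, ← e]; simp
      · rintro (e | e | e)
        · left; rw [e, ← hσa]; simp
        · right; left; rw [e, ← hσb]; simp
        · right; right; rw [e, ← hσc]; simp
    by_cases hj : j = none ∨ j = some 0 ∨ j = some 1
    · rw [if_pos hj]
      exact hsm _ (hmem.mpr hj)
    · rw [if_neg hj]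
      exact hsn _ (fun h => hj (hmem.mp h))

end Cfsg.Agent.Lib.Conway
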