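import Cfsg.Agent.Lib.Conway.Norm6
import Cfsg.Agent.Lib.Conway.Trans4

set_option autoImplicit false

/-!
Normal form under the monomial group of the vectors of shape `(4, 2^8, 0^15)`.
-/

namespace Cfsg.Agent.Lib.Conway

open Cfsg Cfsg.Agent.Lib.Helper93.Leech Cfsg.Agent.Lib.Helper93.Golay
open Cfsg.Agent.Lib.Golay.LeechBasis
open scoped Pointwise

/-- the base octad of the stabiliser chain -/
abbrev OH : Finset GolayPt := Cfsg.Agent.Lib.Helper93.Golay.O0

theorem OH_eq : OH = fset 5279 := rfl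

set_option maxRecDepth 100000 in
theorem pairCheck_OH : pairCheck 5279 = true := by decide +kernel

/-- the vector `(-2, 2^4, 4, 0, 2, 0, 0, 2, 0, 2, 0^11)` -/
def r42 : Vec :=
  vecOfList [-2, 2, 2, 2, 2, 4, 0, 2, 0, 0, 2, 0, 2, 0, 0, 0, 0, 0, 0, 0, 0, 0, 0, 0]

set_option maxRecDepth 100000 in
theorem r42_cond : LeechCond r42 0 := by decide +kernel

/-- representative `(4, -2, 2^7, 0^15)` -/
def L42 : leechLattice := ⟨r42, mem_of_leechCond r42_cond⟩

set_option maxRecDepth 100000 in
theorem r42_val : ∀ k : GolayPt, r42 k =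
    if (ptIdx k).val = 5 then 4 else if (5279 : ℕ).testBit (ptIdx k).val then
      (if (ptIdx k).val = 0 then -2 else 2) else 0 := by
  decide +kernel

set_option maxRecDepth 100000 in
theorem r42_sum : ∑ k, r42 k = 16 := by decide +kernel

theorem compl_bit : ∀ i : Fin 24, (5279 : ℕ).testBit i.val = false →
    (16771936 : ℕ).testBit i.val = true := by decide

theorem P5_not_mem : P 5 ∉ OH := by
  rw [OH_eq, mem_fset_P]; decide

theorem conj6_42 (v : leechLattice) (hn : sqNorm (v : Vec) = 48) (hpar : ∀ i, (v : Vec) i % 2 = 0)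
    (hD : (cls (v : Vec) 2).card = 8) : Conj v L42 := by
  obtain ⟨m, hparm, -, hcls⟩ := mem_data v.2
  obtain ⟨p, hpD, hp4, hin, hout⟩ := shape6_42 hpar hD hn
  have hDoct : cls (v : Vec) 2 ∈ octads := ⟨hcls 2, hD⟩
  obtain ⟨⟨σ, hσ⟩, hσD⟩ := Cfsg.Agent.S0367.result _ _ hDoct Cfsg.Agent.Lib.Helper93.Golay.O0_mem
  have hσD' : σ • cls (v : Vec) 2 = OH := hσD
  -- the image of `p` lies outside the octad
  have hσp : σ p ∉ OH := by
    rw [← hσD', Finset.mem_smul_finset]
    rintro ⟨y, hy, hyp⟩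
    have : y = p := σ.injective hyp
    exact hpD (this ▸ hy)
  have hbit : (16771936 : ℕ).testBit (ptIdx (σ p)).val = true := by
    apply compl_bit
    rw [OH_eq, mem_fset] at hσp
    simpa using hσp
  obtain ⟨u, hu, hu5⟩ := level_spec 31 gensL5 treeL5 5 16771936 gens_ok5 tree_ok5 (by norm_num)
    (ptIdx (σ p)).val (ptIdx (σ p)).isLt hbit
  have hu5' : u (P 5) = σ p := by
    rw [← ptOf_ptIdx (σ p)]
    exact hu5
  have huO : u • OH = OH := smul_O0_of_mem_Hfix (m := 31) (by decide) (by norm_num) hu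
  have huM : u ∈ M24 := hu.1
  set τ : Equiv.Perm GolayPt := u⁻¹ * σ with hτ
  have hτM : τ ∈ M24 := M24.mul_mem (M24.inv_mem huM) hσ
  have hτp : τ p = P 5 := by
    rw [hτ, Equiv.Perm.mul_apply, ← hu5']
    simp
  have hτD : τ • cls (v : Vec) 2 = OH := by
    rw [hτ, mul_smul, hσD']
    rw [inv_smul_eq_iff, huO]
  set w : leechLattice :=
    ⟨signedPerm τ ∅ v, signedPerm_mem hτM empty_mem_supports v.2⟩ with hw
  have h1 : Conj v w := conj_mono τ ∅ hτM empty_mem_supports v
  have hwval : ∀ k, (w : Vec) k = (v : Vec) (τ.symm k) := by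
    intro k
    show signedPerm τ ∅ (v : Vec) k = _
    rw [signedPerm_apply]
    simp
  have hmemO : ∀ k, k ∈ OH ↔ τ.symm k ∈ cls (v : Vec) 2 := by
    intro k
    rw [← hτD, Finset.mem_smul_finset]
    constructor
    · rintro ⟨y, hy, rfl⟩
      simpa [Equiv.Perm.smul_def] using hy
    · intro h
      exact ⟨τ.symm k, h, by simp [Equiv.Perm.smul_def]⟩
  have hτs5 : τ.symm (P 5) = p := by rw [← hτp]; simp
  have hwin : ∀ k ∈ OH, (w : Vec) k = 2 ∨ (w : Vec) k = -2 := by
    intro k hk
    rw [hwval]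
    exact hin _ ((hmemO k).mp hk)
  have hw5 : (w : Vec) (P 5) = 4 ∨ (w : Vec) (P 5) = -4 := by
    rw [hwval, hτs5]; exact hp4
  have hwout : ∀ k, k ∉ OH → k ≠ P 5 → (w : Vec) k = 0 := by
    intro k hk hk5
    rw [hwval]
    apply hout _ (fun h => hk ((hmemO k).mpr h))
    intro e
    apply hk5
    rw [← hτp, ← e]; simp
  -- values of the representative
  have hr5 : r42 (P 5) = 4 := by
    rw [r42_val, ptIdx_P]; simp
  have hrin : ∀ k ∈ OH, r42 k = 2 ∨ r42 k = -2 := by
    intro k hk
    rw [OH_eq, mem_fset] at hk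
    have hk5 : (ptIdx k).val ≠ 5 := by
      intro e; rw [e] at hk; revert hk; decide
    rw [r42_val, if_neg hk5, if_pos hk]
    split
    · right; rfl
    · left; rfl
  have hrout : ∀ k, k ∉ OH → k ≠ P 5 → r42 k = 0 := by
    intro k hk hk5
    rw [OH_eq, mem_fset] at hk
    have hk5' : (ptIdx k).val ≠ 5 := by
      intro e; apply hk5
      rw [← P_ptIdx k]
      unfold P
      congr 1
      exact Fin.ext e
    rw [r42_val, if_neg hk5', if_neg hk]
  -- the set of wrong signs
  set M : Finset GolayPt := OH.filter (fun k => (w : Vec) k ≠ r42 k) with hM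
  have hMsub : M ⊆ fset 5279 := Finset.filter_subset _ _
  have hev : Even M.card := by
    obtain ⟨m', hpar', hsum', -⟩ := mem_data w.2
    have hm' : m' % 2 = 0 := by
      rw [← hpar' (P 5)]
      rcases hw5 with e | e <;> rw [e] <;> norm_num
    have hpt : ∀ k, ((w : Vec) k - r42 k) % 8 = (if k ∈ M then (4 : ℤ) else 0) % 8 := by
      intro k
      by_cases hk : k ∈ OH
      · by_cases hkM : k ∈ M
        · rw [if_pos hkM]
          rw [hM, Finset.mem_filter] at hkM
          have hne := hkM.2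
          rcases hwin k hk with e | e <;> rcases hrin k hk with e' | e' <;> rw [e, e'] at hne ⊢ <;>
            first | exact absurd rfl hne | norm_num
        · rw [if_neg hkM]
          have : (w : Vec) k = r42 k := by
            by_contra hne
            exact hkM (Finset.mem_filter.mpr ⟨hk, hne⟩)
          rw [this]; norm_num
      · rw [if_neg (fun h => hk (Finset.mem_filter.mp h).1)]
        by_cases hk5 : k = P 5
        · rw [hk5, hr5]
          rcases hw5 with e | e <;> rw [e] <;> norm_num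
        · rw [hwout k hk hk5, hrout k hk hk5]; norm_num
    have hsum1 : (∑ k, ((w : Vec) k - r42 k)) % 8 = (∑ k, (if k ∈ M then (4 : ℤ) else 0)) % 8 := by
      rw [Finset.sum_int_mod, Finset.sum_congr rfl (fun k _ => hpt k), ← Finset.sum_int_mod]
    rw [Finset.sum_sub_distrib, r42_sum, Finset.sum_ite_mem, Finset.univ_inter, Finset.sum_const]
      at hsum1
    simp only [nsmul_eq_mul] at hsum1
    rw [Nat.even_iff]
    omega
  obtain ⟨c0, hc0, hc0M⟩ := restrict_even_mask 5279 pairCheck_OH M hMsub hev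
  obtain ⟨c, hc, hcM, hc5⟩ : ∃ c ∈ CS, c ∩ OH = M ∧ (P 5 ∈ c ↔ (w : Vec) (P 5) = -4) := by
    by_cases hgood : (P 5 ∈ c0 ↔ (w : Vec) (P 5) = -4)
    · exact ⟨c0, hc0, hc0M, hgood⟩
    · have hOc : OHᶜ ∈ CS := compl_mem_supports Cfsg.Agent.Lib.Helper93.Golay.O0_mem.1
      refine ⟨symmDiff c0 OHᶜ, symmDiff_mem_supports hc0 hOc, ?_, ?_⟩
      · rw [← hc0M]
        ext k
        simp only [Finset.mem_inter, Finset.mem_symmDiff, Finset.mem_compl]
        rw [← OH_eq]
        tauto
      · have h5c : P 5 ∈ OHᶜ := Finset.mem_compl.mpr P5_not_mem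
        simp only [Finset.mem_symmDiff]
        tauto
  have h2' := conj_mono 1 c M24.one_mem hc w
  refine h1.trans (h2'.trans (conj_of_eq ?_))
  funext k
  show signedPerm 1 c (w : Vec) k = r42 k
  rw [signedPerm_apply, one_symm]
  by_cases hk : k ∈ OH
  · have hkc : k ∈ c ↔ k ∈ M := by
      rw [← hcM, Finset.mem_inter]
      exact ⟨fun h => ⟨h, hk⟩, fun h => h.1⟩
    by_cases hkM : k ∈ M
    · rw [if_pos (hkc.mpr hkM)]
      rw [hM, Finset.mem_filter] at hkM
      have hne := hkM.2
      rcases hwin k hk with e | e <;> rcases hrin k hk with e' | e' <;> rw [e, e'] at hne ⊢ <;>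
        first | exact absurd rfl hne | norm_num
    · rw [if_neg (fun h => hkM (hkc.mp h))]
      by_contra hne
      exact hkM (Finset.mem_filter.mpr ⟨hk, hne⟩)
  · by_cases hk5 : k = P 5
    · rw [hk5, hr5]
      by_cases h5c : P 5 ∈ c
      · rw [if_pos h5c, hc5.mp h5c]; norm_num
      · rw [if_neg h5c]
        rcases hw5 with e | e
        · exact e
        · exact absurd (hc5.mpr e) h5c
    · rw [hwout k hk hk5, hrout k hk hk5]
      split <;> norm_num

end Cfsg.Agent.Lib.Conway
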