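import Cfsg.Agent.Lib.Conway.PrimSimple
import Cfsg.Agent.Lib.Helper4.CayleySign

set_option autoImplicit false

/-!
More simplicity tools for primitive actions with a simple point stabiliser:

* `isSimpleGroup_of_char`: it is enough that every group of order the degree has a proper nontrivial
  characteristic subgroup (a regular normal subgroup would be characteristically simple);
* `exists_char_of_solvable`, `exists_char_of_two_mul_odd`: two sources of such subgroups;
* `stab_max_of_orbits`: maximality of the point stabiliser from the sizes of its orbits.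
-/

namespace Cfsg.Agent.Lib.Conway.PrimSimple

open MulAction Subgroup

section criterion

variable {G : Type*} [Group G] {Ω : Type*} [MulAction G Ω]

/-- the simplicity criterion with characteristic subgroups -/
theorem isSimpleGroup_of_char [Finite G] (x0 : Ω)
    (hfaith : ∀ g : G, (∀ x : Ω, g • x = x) → g = 1)
    (htrans : ∀ x : Ω, ∃ g : G, g • x0 = x)
    (hH : IsSimpleGroup (stabilizer G x0))
    (hmax : ∀ M : Subgroup G, stabilizer G x0 ≤ M → M = stabilizer G x0 ∨ M = ⊤)
    (hno : ∀ K : Subgroup G, Nat.card K = (stabilizer G x0).index →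
      ∃ C : Subgroup K, C.Characteristic ∧ C ≠ ⊥ ∧ C ≠ ⊤) : IsSimpleGroup G := by
  have hnt : Nontrivial G := by
    obtain ⟨h, hne⟩ := @exists_ne _ hH.toNontrivial (1 : stabilizer G x0)
    exact ⟨⟨(h : G), 1, fun e => hne (Subtype.ext e)⟩⟩
  refine ⟨fun K hK => ?_⟩
  by_cases hK0 : K = ⊥
  · exact Or.inl hK0
  right
  have hsup := sup_eq_top x0 hfaith htrans hmax K hK0
  have hnorm : (K.subgroupOf (stabilizer G x0)).Normal := inferInstance
  rcases hH.eq_bot_or_eq_top_of_normal _ hnorm with h | h
  · exfalso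
    have hKcard : Nat.card K = (stabilizer G x0).index := by
      have : IsPretransitive G Ω := ⟨fun x y => by
        obtain ⟨g, rfl⟩ := htrans x
        obtain ⟨g', rfl⟩ := htrans y
        exact ⟨g' * g⁻¹, by rw [mul_smul, inv_smul_smul]⟩⟩
      have : IsPretransitive K Ω := ⟨fun x y => by
        obtain ⟨k, hk, rfl⟩ := normal_trans x0 hfaith htrans hmax K hK0 x
        obtain ⟨k', hk', rfl⟩ := normal_trans x0 hfaith htrans hmax K hK0 y
        exact ⟨⟨k' * k⁻¹, K.mul_mem hk' (K.inv_mem hk)⟩, by
          show (k' * k⁻¹) • k • x0 = k' • x0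
          rw [mul_smul, inv_smul_smul]⟩⟩
      have h1 : (stabilizer K x0) = ⊥ := by
        rw [eq_bot_iff]
        intro k hk
        rw [mem_bot]
        have hk' : (k : G) ∈ stabilizer G x0 := by
          rw [mem_stabilizer_iff] at hk ⊢
          exact hk
        have : (⟨(k : G), hk'⟩ : stabilizer G x0) ∈ K.subgroupOf (stabilizer G x0) := by
          rw [mem_subgroupOf]; exact k.2
        rw [h, mem_bot] at this
        exact Subtype.ext (congrArg (fun z : stabilizer G x0 => (z : G)) this)
      have h2 := index_stabilizer_of_transitive K x0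
      rw [h1, index_bot] at h2
      rw [h2, ← index_stabilizer_of_transitive G x0]
    obtain ⟨C, hchar, hC0, hC1⟩ := hno K hKcard
    have hCn : (C.map K.subtype).Normal := ConjAct.normal_of_characteristic_of_normal
    have hCcard : Nat.card (C.map K.subtype) = Nat.card C :=
      (Nat.card_congr (C.equivMapOfInjective K.subtype K.subtype_injective).toEquiv).symm
    have hCne : C.map K.subtype ≠ ⊥ := by
      intro e
      apply hC0
      rw [eq_bot_iff]
      intro c hc
      have : (K.subtype c) ∈ C.map K.subtype := Subgroup.mem_map_of_mem _ hc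
      rw [e, mem_bot] at this
      rw [mem_bot]
      exact Subtype.ext this
    have h5 := card_dvd_normal x0 hfaith htrans hmax _ hCne
    rw [hCcard, ← hKcard] at h5
    have h6 : Nat.card C ∣ Nat.card K := Subgroup.card_subgroup_dvd_card C
    have h7 : Nat.card C = Nat.card K := Nat.dvd_antisymm h6 h5
    exact hC1 ((Subgroup.card_eq_iff_eq_top C).1 h7)
  · have hle : stabilizer G x0 ≤ K := by
      intro g hg
      have : (⟨g, hg⟩ : stabilizer G x0) ∈ K.subgroupOf (stabilizer G x0) := by rw [h]; trivial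
      exact mem_subgroupOf.1 this
    rw [← hsup]
    exact (sup_eq_left.2 hle).symm

end criterion

section char

variable {K : Type*} [Group K]

/-- the subgroup generated by an automorphism-invariant set is characteristic -/
theorem characteristic_closure (S : Set K) (hS : ∀ ϕ : K ≃* K, ∀ x ∈ S, ϕ x ∈ S) :
    (Subgroup.closure S).Characteristic := by
  rw [characteristic_iff_map_le]
  intro ϕ
  rw [MonoidHom.map_closure]
  apply Subgroup.closure_mono
  rintro _ ⟨x, hx, rfl⟩
  exact hS ϕ x hx

/-- a finite solvable group whose order has two distinct prime divisors has a proper nontrivial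
characteristic subgroup -/
theorem exists_char_of_solvable [Finite K] [hsol : Group.IsSolvable K] (p q : ℕ) [hp : Fact p.Prime]
    (hq : q.Prime) (hpq : p ≠ q) (hpK : p ∣ Nat.card K) (hqK : q ∣ Nat.card K) :
    ∃ C : Subgroup K, C.Characteristic ∧ C ≠ ⊥ ∧ C ≠ ⊤ := by
  have hnt : Nontrivial K := by
    rw [← Finite.one_lt_card_iff_nontrivial]
    have := Nat.le_of_dvd Nat.card_pos hpK
    have := hp.out.two_le
    omega
  by_cases hc : commutator K = ⊥
  · -- abelian: a Sylow subgroup
    have hcomm : ∀ a b : K, a * b = b * a := by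
      intro a b
      have : a * b * a⁻¹ * b⁻¹ ∈ commutator K := by
        have h := Subgroup.commutator_mem_commutator (H₁ := (⊤ : Subgroup K)) (H₂ := ⊤)
          (mem_top a) (mem_top b)
        rw [commutatorElement_def] at h
        exact h
      rw [hc, mem_bot] at this
      calc a * b = a * b * a⁻¹ * b⁻¹ * (b * a) := by group
        _ = b * a := by rw [this, one_mul]
    obtain ⟨P⟩ : Nonempty (Sylow p K) := inferInstance
    have hPn : (P : Subgroup K).Normal := ⟨fun n hn g => by
      have : g * n * g⁻¹ = n := by rw [hcomm g n, mul_inv_cancel_right]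
      rw [this]; exact hn⟩
    have hchar : (P : Subgroup K).Characteristic := Sylow.characteristic_of_normal P hPn
    refine ⟨P, hchar, ?_, ?_⟩
    · intro e
      have h1 := P.card_eq_multiplicity
      rw [e, Subgroup.card_bot] at h1
      have hpos : 0 < (Nat.card K).factorization p :=
        hp.out.factorization_pos_of_dvd Nat.card_pos.ne' hpK
      have : 1 < p ^ (Nat.card K).factorization p := Nat.one_lt_pow hpos.ne' hp.out.one_lt
      omega
    · intro e
      have h1 : Nat.card (P : Subgroup K) = Nat.card K := by rw [e, Subgroup.card_top]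
      have h2 := P.card_eq_multiplicity
      rw [h1] at h2
      have : q ∣ p ^ (Nat.card K).factorization p := h2 ▸ hqK
      have := (Nat.prime_dvd_prime_iff_eq hq hp.out).1 (hq.dvd_of_dvd_pow this)
      exact hpq this.symm
  · exact ⟨commutator K, inferInstance, hc,
      (Group.IsSolvable.commutator_lt_top_of_nontrivial K).ne⟩

/-- a finite group of order `2 * m`, `m > 1` odd, has a proper nontrivial characteristic subgroup -/
theorem exists_char_of_two_mul_odd [Finite K] (m : ℕ) (hcard : Nat.card K = 2 * m) (hm : Odd m)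
    (hm1 : 1 < m) : ∃ C : Subgroup K, C.Characteristic ∧ C ≠ ⊥ ∧ C ≠ ⊤ := by
  -- an involution and the subgroup of index two
  have : Fact (Nat.Prime 2) := ⟨Nat.prime_two⟩
  obtain ⟨t, ht⟩ := exists_prime_orderOf_dvd_card' (G := K) 2 (by rw [hcard]; exact dvd_mul_right 2 m)
  obtain ⟨H, hH⟩ := Cfsg.Agent.Lib.Helper4.exists_index_two_of_elt t (by rw [ht]; exact even_two)
    (by rw [ht, hcard, Nat.mul_div_cancel_left m (by norm_num)]; exact hm)
  refine ⟨Subgroup.closure {g : K | ∃ r : ℕ, Odd r ∧ g ^ r = 1},
    characteristic_closure _ (fun ϕ x ⟨r, hr, hx⟩ => ⟨r, hr, by rw [← map_pow, hx, map_one]⟩), ?_, ?_⟩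
  · -- an element of odd prime order
    obtain ⟨ℓ, hℓ, hℓm⟩ := Nat.exists_prime_and_dvd (show m ≠ 1 by omega)
    have hℓodd : Odd ℓ := by
      rcases hℓ.eq_two_or_odd' with h | h
      · exfalso
        rw [h] at hℓm
        have := hm.not_two_dvd_nat
        exact this hℓm
      · exact h
    have : Fact ℓ.Prime := ⟨hℓ⟩
    obtain ⟨s, hs⟩ := exists_prime_orderOf_dvd_card' (G := K) ℓ
      (by rw [hcard]; exact dvd_mul_of_dvd_right hℓm 2)
    intro e
    have hmem : s ∈ Subgroup.closure {g : K | ∃ r : ℕ, Odd r ∧ g ^ r = 1} :=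
      Subgroup.subset_closure ⟨ℓ, hℓodd, by rw [← hs, pow_orderOf_eq_one]⟩
    rw [e, mem_bot] at hmem
    rw [hmem, orderOf_one] at hs
    exact hℓ.one_lt.ne hs
  · intro e
    have hle : Subgroup.closure {g : K | ∃ r : ℕ, Odd r ∧ g ^ r = 1} ≤ H := by
      rw [Subgroup.closure_le]
      rintro g ⟨r, hr, hg⟩
      obtain ⟨k, rfl⟩ := hr
      have h1 : g = (g * g) ^ (k + 1) := by
        rw [← pow_two, ← pow_mul, show 2 * (k + 1) = 2 * k + 1 + 1 by ring, pow_succ, hg, one_mul]
      show g ∈ H
      rw [h1]
      exact H.pow_mem (Subgroup.mul_self_mem_of_index_two hH g) _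
    rw [e, top_le_iff] at hle
    rw [hle, index_top] at hH
    norm_num at hH

end char

section maximal

variable {G : Type*} [Group G] {Ω : Type*} [MulAction G Ω]

theorem ncard_biUnion_finset {ι : Type*} [DecidableEq ι] [Finite Ω] (S : ι → Set Ω)
    (hdisj : ∀ i j, i ≠ j → Disjoint (S i) (S j)) (I : Finset ι) :
    (⋃ i ∈ I, S i).ncard = ∑ i ∈ I, (S i).ncard := by
  induction I using Finset.induction_on with
  | empty => simp
  | insert a I ha ih =>
    rw [Finset.set_biUnion_insert, Finset.sum_insert ha, ← ih]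
    apply Set.ncard_union_eq _ (Set.toFinite _) (Set.toFinite _)
    rw [Set.disjoint_iUnion₂_right]
    intro i hi
    exact hdisj a i (fun e => ha (e ▸ hi))

/-- maximality of a point stabiliser from the sizes of its orbits: if no partial sum of the sizes of
the suborbits (together with the base point) divides the degree, the point stabiliser is maximal -/
theorem stab_max_of_orbits [Finite G] [Finite Ω] [IsPretransitive G Ω] (x0 : Ω)
    {ι : Type*} [Fintype ι] [DecidableEq ι] (y : ι → Ω) (n : ι → ℕ)
    (hcard : ∀ i, (orbit (stabilizer G x0) (y i)).ncard = n i)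
    (hn1 : ∀ i, n i ≠ 1) (hinj : Function.Injective n)
    (hcover : ∀ x : Ω, x = x0 ∨ ∃ i, x ∈ orbit (stabilizer G x0) (y i))
    (harith : ∀ I : Finset ι, I.Nonempty → I ≠ Finset.univ →
      ¬ (1 + ∑ i ∈ I, n i) ∣ Nat.card Ω)
    (M : Subgroup G) (hM : stabilizer G x0 ≤ M) : M = stabilizer G x0 ∨ M = ⊤ := by
  classical
  set H := stabilizer G x0 with hH
  set O : Set Ω := {x | ∃ m ∈ M, m • x0 = x} with hO
  have hx0O : x0 ∈ O := ⟨1, M.one_mem, one_smul _ _⟩
  -- the orbit has `[M : H]` elements
  have hcardO : O.ncard * M.index = Nat.card Ω := by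
    have h1 := Subgroup.relIndex_mul_index hM
    rw [index_stabilizer_of_transitive G x0] at h1
    rw [← h1]
    congr 1
    have h2 : H.subgroupOf M = stabilizer M x0 := by
      ext m
      rw [Subgroup.mem_subgroupOf, mem_stabilizer_iff, mem_stabilizer_iff]
      rfl
    rw [Subgroup.relIndex, h2, index_stabilizer]
    congr 1
    ext x
    constructor
    · rintro ⟨m, hm, rfl⟩
      exact ⟨⟨m, hm⟩, rfl⟩
    · rintro ⟨m, rfl⟩
      exact ⟨m.1, m.2, rfl⟩
  -- the orbits of `H`
  have hsub : ∀ i, y i ∈ O → orbit H (y i) ⊆ O := by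
    rintro i ⟨m, hm, hmy⟩ x ⟨h, rfl⟩
    refine ⟨(h : G) * m, M.mul_mem (hM h.2) hm, ?_⟩
    rw [mul_smul, hmy]
    rfl
  have hback : ∀ i, ∀ x ∈ orbit H (y i), x ∈ O → y i ∈ O := by
    rintro i x ⟨h, rfl⟩ ⟨m, hm, hmx⟩
    refine ⟨(h : G)⁻¹ * m, M.mul_mem (M.inv_mem (hM h.2)) hm, ?_⟩
    rw [mul_smul, hmx]
    show (h : G)⁻¹ • ((h : G) • y i) = y i
    rw [inv_smul_smul]
  have hx0not : ∀ i, x0 ∉ orbit H (y i) := by
    rintro i ⟨h, hh⟩
    have hy : y i = x0 := by
      have h1 : (h : G) • y i = x0 := hh
      have h2 : (h : G)⁻¹ • x0 = x0 := by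
        have h3 : (h : G) • x0 = x0 := mem_stabilizer_iff.1 h.2
        rw [inv_smul_eq_iff, h3]
      rw [← h2, ← h1, inv_smul_smul]
    apply hn1 i
    rw [← hcard i, hy, Set.ncard_eq_one]
    refine ⟨x0, ?_⟩
    ext x
    constructor
    · rintro ⟨k, rfl⟩
      exact mem_stabilizer_iff.1 k.2
    · rintro rfl
      exact mem_orbit_self _
  have hdisj : ∀ i j, i ≠ j → Disjoint (orbit H (y i)) (orbit H (y j)) := by
    intro i j hij
    rw [Set.disjoint_left]
    intro x hxi hxj
    apply hij
    apply hinj
    rw [← hcard i, ← hcard j, ← orbit_eq_iff.2 hxi, ← orbit_eq_iff.2 hxj]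
  set I : Finset ι := Finset.univ.filter (fun i => y i ∈ O) with hI
  have hOeq : O = insert x0 (⋃ i ∈ I, orbit H (y i)) := by
    ext x
    constructor
    · intro hx
      rcases hcover x with h | ⟨i, hi⟩
      · exact Or.inl h
      · right
        rw [Set.mem_iUnion₂]
        exact ⟨i, by rw [hI, Finset.mem_filter]; exact ⟨Finset.mem_univ _, hback i x hi hx⟩, hi⟩
    · rintro (h | h)
      · rw [h]; exact hx0O
      · rw [Set.mem_iUnion₂] at h
        obtain ⟨i, hi, hx⟩ := h
        rw [hI, Finset.mem_filter] at hi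
        exact hsub i hi.2 hx
  have hOcard : O.ncard = 1 + ∑ i ∈ I, n i := by
    rw [hOeq, Set.ncard_insert_of_notMem, ncard_biUnion_finset _ hdisj, add_comm]
    · congr 1
      exact Finset.sum_congr rfl fun i _ => hcard i
    · rw [Set.mem_iUnion₂]
      rintro ⟨i, -, hi⟩
      exact hx0not i hi
  by_cases hIe : I = ∅
  · left
    apply le_antisymm _ hM
    intro m hm
    rw [hH, mem_stabilizer_iff]
    have : m • x0 ∈ O := ⟨m, hm, rfl⟩
    rw [hOeq, hIe] at this
    simpa using this
  by_cases hIu : I = Finset.univ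
  · right
    rw [eq_top_iff]
    intro g _
    have hg : g • x0 ∈ O := by
      rw [hOeq]
      rcases hcover (g • x0) with h | ⟨i, hi⟩
      · exact Or.inl h
      · right
        rw [Set.mem_iUnion₂]
        exact ⟨i, by rw [hIu]; exact Finset.mem_univ _, hi⟩
    obtain ⟨m, hm, hmg⟩ := hg
    have : m⁻¹ * g ∈ H := by
      rw [hH, mem_stabilizer_iff, mul_smul, ← hmg, inv_smul_smul]
    have h2 := M.mul_mem hm (hM this)
    rwa [mul_inv_cancel_left] at h2
  · exfalso
    apply harith I (Finset.nonempty_iff_ne_empty.2 hIe) hIu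
    rw [← hOcard, ← hcardO]
    exact dvd_mul_right _ _

end maximal

end Cfsg.Agent.Lib.Conway.PrimSimple
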