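import Cfsg.Agent.Lib.Conway.PrimSimple2

set_option autoImplicit false

/-!
The suborbits of given sizes cover everything as soon as the sizes add up to the degree.
-/

namespace Cfsg.Agent.Lib.Conway.PrimSimple

open MulAction Subgroup

variable {G : Type*} [Group G] {Ω : Type*} [MulAction G Ω]

theorem cover_of_card [Finite Ω] (x0 : Ω)
    {ι : Type*} [Fintype ι] [DecidableEq ι] (y : ι → Ω) (n : ι → ℕ)
    (hcard : ∀ i, (orbit (stabilizer G x0) (y i)).ncard = n i)
    (hn1 : ∀ i, n i ≠ 1) (hinj : Function.Injective n)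
    (hsum : 1 + ∑ i, n i = Nat.card Ω) :
    ∀ x : Ω, x = x0 ∨ ∃ i, x ∈ orbit (stabilizer G x0) (y i) := by
  classical
  have hx0not : ∀ i, x0 ∉ orbit (stabilizer G x0) (y i) := by
    rintro i ⟨h, hh⟩
    have hy : y i = x0 := by
      have h1 : (h : G) • y i = x0 := hh
      have h2 : (h : G)⁻¹ • x0 = x0 := by
        have h3 : (h : G) • x0 = x0 := mem_stabilizer_iff.1 h.2
        rw [inv_smul_eq_iff, h3]
      calc y i = (h : G)⁻¹ • ((h : G) • y i) := (inv_smul_smul _ _).symm
        _ = (h : G)⁻¹ • x0 := by rw [h1]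
        _ = x0 := h2
    apply hn1 i
    rw [← hcard i, hy, Set.ncard_eq_one]
    refine ⟨x0, ?_⟩
    ext x
    constructor
    · rintro ⟨k, rfl⟩
      exact mem_stabilizer_iff.1 k.2
    · rintro rfl
      exact mem_orbit_self _
  have hdisj : ∀ i j, i ≠ j →
      Disjoint (orbit (stabilizer G x0) (y i)) (orbit (stabilizer G x0) (y j)) := by
    intro i j hij
    rw [Set.disjoint_left]
    intro x hxi hxj
    apply hij
    apply hinj
    rw [← hcard i, ← hcard j, ← orbit_eq_iff.2 hxi, ← orbit_eq_iff.2 hxj]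
  have hU : (insert x0 (⋃ i ∈ (Finset.univ : Finset ι), orbit (stabilizer G x0) (y i))) =
      (Set.univ : Set Ω) := by
    apply Set.eq_of_subset_of_ncard_le (Set.subset_univ _) _ Set.finite_univ
    rw [Set.ncard_univ, Set.ncard_insert_of_notMem, ncard_biUnion_finset _ hdisj, ← hsum, add_comm]
    · apply le_of_eq
      congr 1
      exact (Finset.sum_congr rfl fun i _ => hcard i).symm
    · rw [Set.mem_iUnion₂]
      rintro ⟨i, -, hi⟩
      exact hx0not i hi
  intro x
  have hx : x ∈ insert x0 (⋃ i ∈ (Finset.univ : Finset ι), orbit (stabilizer G x0) (y i)) := by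
    rw [hU]; trivial
  rcases hx with h | h
  · exact Or.inl h
  · rw [Set.mem_iUnion₂] at h
    obtain ⟨i, -, hi⟩ := h
    exact Or.inr ⟨i, hi⟩

end Cfsg.Agent.Lib.Conway.PrimSimple
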