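import Cfsg.Agent.Lib.Conway.Shapes

set_option autoImplicit false

/-!
Restriction of the code words to a set of points: if all pairs are restrictions, so are all even
subsets.  Bridging to bit masks.
-/

namespace Cfsg.Agent.Lib.Conway

open Cfsg Cfsg.Agent.Lib.Helper93.Leech Cfsg.Agent.Lib.Helper93.Golay
open scoped Pointwise

theorem restrict_even (Y : Finset GolayPt)
    (hpair : ∀ p ∈ Y, ∀ q ∈ Y, p ≠ q → ∃ c ∈ CS, c ∩ Y = {p, q}) :
    ∀ M : Finset GolayPt, M ⊆ Y → Even M.card → ∃ c ∈ CS, c ∩ Y = M := by
  intro M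
  induction M using Finset.strongInduction with
  | H M ih =>
    intro hMY hev
    by_cases hM : M = ∅
    · subst hM
      exact ⟨∅, empty_mem_supports, by simp⟩
    · obtain ⟨p, hp⟩ := Finset.nonempty_iff_ne_empty.mpr hM
      have hcard : 2 ≤ M.card := by
        have : M.card ≠ 0 := by simpa [Finset.card_eq_zero] using hM
        obtain ⟨k, hk⟩ := hev
        omega
      obtain ⟨q, hq, hqp⟩ : ∃ q ∈ M, q ≠ p := by
        have : (M.erase p).Nonempty := by
          rw [← Finset.card_pos, Finset.card_erase_of_mem hp]; omega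
        obtain ⟨q, hq⟩ := this
        exact ⟨q, Finset.mem_of_mem_erase hq, Finset.ne_of_mem_erase hq⟩
      have hq' : q ∈ M.erase p := Finset.mem_erase.mpr ⟨hqp, hq⟩
      have hsub : (M.erase p).erase q ⊂ M :=
        lt_of_le_of_lt (Finset.erase_subset _ _) (Finset.erase_ssubset hp)
      have hc2 : ((M.erase p).erase q).card + 2 = M.card := by
        rw [Finset.card_erase_of_mem hq', Finset.card_erase_of_mem hp]; omega
      have hev' : Even ((M.erase p).erase q).card := by
        obtain ⟨k, hk⟩ := hev
        exact ⟨k - 1, by omega⟩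
      obtain ⟨c', hc', hc'Y⟩ := ih _ hsub (hsub.subset.trans hMY) hev'
      obtain ⟨d, hd, hdY⟩ := hpair p (hMY hp) q (hMY hq) hqp.symm
      refine ⟨symmDiff c' d, symmDiff_mem_supports hc' hd, ?_⟩
      have e : symmDiff c' d ∩ Y = symmDiff (c' ∩ Y) (d ∩ Y) := by
        ext r
        simp only [Finset.mem_inter, Finset.mem_symmDiff]
        tauto
      rw [e, hc'Y, hdY]
      ext r
      simp only [Finset.mem_symmDiff, Finset.mem_erase, Finset.mem_insert, Finset.mem_singleton]
      by_cases h1 : r = p
      · subst h1; simp [hp]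
      · by_cases h2 : r = q
        · subst h2; simp [hq]
        · simp [h1, h2]

theorem ptIdx_injective : Function.Injective ptIdx := ptEquiv.injective

theorem pair_of_mask {y0 a : ℕ} {p q : GolayPt}
    (h : combF a &&& y0 = 2 ^ (ptIdx p).val ||| 2 ^ (ptIdx q).val) :
    fset (combF a) ∩ fset y0 = {p, q} := by
  ext r
  simp only [Finset.mem_inter, mem_fset, Finset.mem_insert, Finset.mem_singleton]
  have := congrArg (fun m => m.testBit (ptIdx r).val) h
  simp only [Nat.testBit_and, Nat.testBit_or, Nat.testBit_two_pow] at this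
  constructor
  · rintro ⟨h1, h2⟩
    rw [h1, h2] at this
    simp only [Bool.and_self, eq_comm (a := true), Bool.or_eq_true, decide_eq_true_eq] at this
    rcases this with e | e
    · left; exact (ptIdx_injective (Fin.ext e)).symm
    · right; exact (ptIdx_injective (Fin.ext e)).symm
  · intro hr
    have h3 : ((combF a).testBit (ptIdx r).val && y0.testBit (ptIdx r).val) = true := by
      rw [this]
      rcases hr with rfl | rfl <;> simp
    rw [Bool.and_eq_true] at h3
    exact h3

/-- all pairs of a mask are restrictions of code words -/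
def pairCheck (y0 : ℕ) : Bool :=
  (List.range 24).all fun i => (List.range 24).all fun j =>
    !(y0.testBit i && y0.testBit j && !(Nat.beq i j)) ||
      (List.range 4096).any fun a => Nat.beq (combF a &&& y0) (2 ^ i ||| 2 ^ j)

theorem fset_combF_mem' (a : ℕ) (ha : a < 4096) : fset (combF a) ∈ CS := by
  refine ⟨wordOf (comb a), wordOf_comb_mem a, ?_⟩
  rw [support₂_wordOf, combF_eq_comb a ha]

theorem restrict_pairs (y0 : ℕ) (h : pairCheck y0 = true) :
    ∀ p ∈ fset y0, ∀ q ∈ fset y0, p ≠ q → ∃ c ∈ CS, c ∩ fset y0 = {p, q} := by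
  intro p hp q hq hpq
  rw [mem_fset] at hp hq
  unfold pairCheck at h
  rw [List.all_eq_true] at h
  have h1 := h (ptIdx p).val (List.mem_range.mpr (ptIdx p).isLt)
  rw [List.all_eq_true] at h1
  have h2 := h1 (ptIdx q).val (List.mem_range.mpr (ptIdx q).isLt)
  have hne : Nat.beq (ptIdx p).val (ptIdx q).val = false := by
    rw [← Bool.not_eq_true]
    intro e
    exact hpq (ptIdx_injective (Fin.ext (Nat.eq_of_beq_eq_true e)))
  rw [hp, hq, hne] at h2
  simp only [Bool.and_self, Bool.not_false, Bool.not_true, Bool.false_or, List.any_eq_true,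
    List.mem_range] at h2
  obtain ⟨a, ha, hb⟩ := h2
  exact ⟨fset (combF a), fset_combF_mem' a ha, pair_of_mask (Nat.eq_of_beq_eq_true hb)⟩

theorem restrict_even_mask (y0 : ℕ) (h : pairCheck y0 = true) (M : Finset GolayPt)
    (hM : M ⊆ fset y0) (hev : Even M.card) : ∃ c ∈ CS, c ∩ fset y0 = M :=
  restrict_even (fset y0) (restrict_pairs y0 h) M hM hev

end Cfsg.Agent.Lib.Conway
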