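import Cfsg.Agent.Lib.Conway.Basic
import Cfsg.Agent.Lib.Conway.M24Trans

set_option autoImplicit false

/-!
Orbit relation of `Co0` on the lattice, and elementary lemmas on integer vectors with a prescribed
sum of squares ("shapes").
-/

namespace Cfsg.Agent.Lib.Conway

open Cfsg Cfsg.Agent.Lib.Helper93.Leech Cfsg.Agent.Lib.Helper93.Golay
open scoped Pointwise

/-- two lattice vectors in the same orbit of `Co0` -/
def Conj (v w : leechLattice) : Prop := ∃ g : Co0, g • v = w

theorem Conj.refl (v : leechLattice) : Conj v v := ⟨1, rfl⟩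

theorem Conj.symm {v w : leechLattice} (h : Conj v w) : Conj w v := by
  obtain ⟨g, rfl⟩ := h
  exact ⟨g⁻¹, inv_smul_smul g v⟩

theorem Conj.trans {u v w : leechLattice} (h1 : Conj u v) (h2 : Conj v w) : Conj u w := by
  obtain ⟨g, rfl⟩ := h1
  obtain ⟨h, rfl⟩ := h2
  exact ⟨h * g, mul_smul h g u⟩

theorem conj_mono (σ : Equiv.Perm GolayPt) (c : Finset GolayPt) (hσ : σ ∈ M24) (hc : c ∈ CS)
    (v : leechLattice) : Conj v ⟨signedPerm σ c v, signedPerm_mem hσ hc v.2⟩ :=
  ⟨mono σ c hσ hc, Subtype.ext (mono_smul σ c hσ hc v)⟩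

theorem conj_of_eq {v w : leechLattice} (h : (v : Vec) = w) : Conj v w := by
  have : v = w := Subtype.ext h
  rw [this]
  exact Conj.refl w

/-- the membership data of a lattice vector -/
theorem mem_data {x : Vec} (hx : x ∈ leechLattice) :
    ∃ m : ℤ, (∀ i, x i % 2 = m % 2) ∧ ((∑ i, x i) % 8 = (4 * m) % 8) ∧ ∀ k : ℤ, cls x k ∈ CS :=
  (mem_leechSet_iff x).1 ((mem_leechLattice_iff x).1 hx)

theorem card_univ_golayPt : (Finset.univ : Finset GolayPt).card = 24 := rfl

/-- pointwise comparison of sums -/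
theorem eq_of_sum_eq {f g : GolayPt → ℤ} (hle : ∀ i, g i ≤ f i) (hs : ∑ i, f i = ∑ i, g i) (i : GolayPt) :
    f i = g i := by
  have := (Finset.sum_eq_sum_iff_of_le (s := Finset.univ) (fun i _ => hle i)).mp hs.symm i
    (Finset.mem_univ i)
  exact this.symm

theorem sq_eq_cases {a b : ℤ} (_hb : 0 ≤ b) (h : a ^ 2 = b ^ 2) : a = b ∨ a = -b := by
  have : (a - b) * (a + b) = 0 := by ring_nf; linarith
  rcases mul_eq_zero.mp this with h1 | h1
  · left; linarith
  · right; linarith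

/-- vectors of norm 32 with all coordinates `≡ 1 mod 4`: one `-3`, the rest `1` -/
theorem shape_31 {y : Vec} (h4 : ∀ i, y i % 4 = 1) (hn : sqNorm y = 32) :
    ∃ i0, y i0 = -3 ∧ ∀ i, i ≠ i0 → y i = 1 := by
  have hterm : ∀ i, 1 ≤ y i ^ 2 := by
    intro i
    have : y i ≠ 0 := by intro h; have := h4 i; rw [h] at this; norm_num at this
    have : 0 < y i ^ 2 := by positivity
    omega
  have hbig : ∀ i, y i ≠ 1 → 9 ≤ y i ^ 2 := by
    intro i hi
    have := h4 i
    have h' : y i ≤ -3 ∨ 5 ≤ y i := by omega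
    rcases h' with h' | h' <;> nlinarith
  have hsum : ∑ i, (y i ^ 2 - 1) = 8 := by
    rw [Finset.sum_sub_distrib]
    unfold sqNorm at hn
    rw [hn]
    simp [card_univ_golayPt]
  obtain ⟨i0, hi0⟩ : ∃ i0, y i0 ≠ 1 := by
    by_contra hcon
    push Not at hcon
    have : ∑ i, (y i ^ 2 - 1) = 0 := Finset.sum_eq_zero fun i _ => by rw [hcon i]; norm_num
    omega
  have hsplit := Finset.add_sum_erase Finset.univ (fun i => y i ^ 2 - 1) (Finset.mem_univ i0)
  have hrest : 0 ≤ ∑ i ∈ Finset.univ.erase i0, (y i ^ 2 - 1) :=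
    Finset.sum_nonneg fun i _ => by have := hterm i; omega
  have h9 := hbig i0 hi0
  have hrest0 : ∑ i ∈ Finset.univ.erase i0, (y i ^ 2 - 1) = 0 := by omega
  have hi0sq : y i0 ^ 2 = 9 := by omega
  refine ⟨i0, ?_, fun i hi => ?_⟩
  · rcases sq_eq_cases (b := 3) (by norm_num) (by rw [hi0sq]; norm_num) with h | h
    · have := h4 i0; rw [h] at this; norm_num at this
    · exact h
  · have := (Finset.sum_eq_zero_iff_of_nonneg (fun i _ => by have := hterm i; omega)).mp hrest0 i
      (Finset.mem_erase.mpr ⟨hi, Finset.mem_univ i⟩)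
    by_contra hne
    have := hbig i hne
    omega

/-- vectors of norm 32 with all coordinates divisible by 4: two coordinates `±4` -/
theorem shape_44 {y : Vec} (h4 : ∀ i, y i % 4 = 0) (hn : sqNorm y = 32) :
    ∃ i j, i ≠ j ∧ (y i = 4 ∨ y i = -4) ∧ (y j = 4 ∨ y j = -4) ∧ ∀ k, k ≠ i → k ≠ j → y k = 0 := by
  have hbig : ∀ i, y i ≠ 0 → 16 ≤ y i ^ 2 := by
    intro i hi
    have := h4 i
    have h' : y i ≤ -4 ∨ 4 ≤ y i := by omega
    rcases h' with h' | h' <;> nlinarith
  have hval : ∀ i, y i ≠ 0 → y i ^ 2 ≤ 32 → y i = 4 ∨ y i = -4 := by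
    intro i hi hle
    have := h4 i
    have h1 : -6 < y i := by nlinarith
    have h2 : y i < 6 := by nlinarith
    omega
  unfold sqNorm at hn
  obtain ⟨i, hi⟩ : ∃ i, y i ≠ 0 := by
    by_contra hcon
    push Not at hcon
    have : ∑ i, y i ^ 2 = 0 := Finset.sum_eq_zero fun i _ => by rw [hcon i]; norm_num
    omega
  have hsplit := Finset.add_sum_erase Finset.univ (fun i => y i ^ 2) (Finset.mem_univ i)
  have hrest : 0 ≤ ∑ k ∈ Finset.univ.erase i, y k ^ 2 := Finset.sum_nonneg fun k _ => sq_nonneg _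
  have hi4 := hval i hi (by omega)
  have hisq : y i ^ 2 = 16 := by rcases hi4 with h | h <;> rw [h] <;> norm_num
  have hrest16 : ∑ k ∈ Finset.univ.erase i, y k ^ 2 = 16 := by omega
  obtain ⟨j, hj, hj0⟩ : ∃ j ∈ Finset.univ.erase i, y j ≠ 0 := by
    by_contra hcon
    push Not at hcon
    have : ∑ k ∈ Finset.univ.erase i, y k ^ 2 = 0 :=
      Finset.sum_eq_zero fun k hk => by rw [hcon k hk]; norm_num
    omega
  have hsplit2 := Finset.add_sum_erase (Finset.univ.erase i) (fun k => y k ^ 2) hj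
  have hrest2 : 0 ≤ ∑ k ∈ (Finset.univ.erase i).erase j, y k ^ 2 :=
    Finset.sum_nonneg fun k _ => sq_nonneg _
  have hj4 := hval j hj0 (by omega)
  have hjsq : y j ^ 2 = 16 := by rcases hj4 with h | h <;> rw [h] <;> norm_num
  have hrest0 : ∑ k ∈ (Finset.univ.erase i).erase j, y k ^ 2 = 0 := by omega
  refine ⟨i, j, (Finset.ne_of_mem_erase hj).symm, hi4, hj4, fun k hki hkj => ?_⟩
  have := (Finset.sum_eq_zero_iff_of_nonneg (fun k _ => sq_nonneg (y k))).mp hrest0 k
    (Finset.mem_erase.mpr ⟨hkj, Finset.mem_erase.mpr ⟨hki, Finset.mem_univ k⟩⟩)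
  exact pow_eq_zero_iff (n := 2) (by norm_num) |>.mp this

/-- even vectors whose class `2 mod 4` has `n` elements and sum of squares `4 n`: `±2` on the class
and `0` elsewhere -/
theorem shape_2n {y : Vec} (_hpar : ∀ i, y i % 2 = 0) (hn : sqNorm y = 4 * ((cls y 2).card : ℤ)) :
    (∀ i ∈ cls y 2, y i = 2 ∨ y i = -2) ∧ ∀ i, i ∉ cls y 2 → y i = 0 := by
  have hle : ∀ i, (if i ∈ cls y 2 then (4 : ℤ) else 0) ≤ y i ^ 2 := by
    intro i
    split
    · rename_i hi
      rw [mem_cls] at hi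
      have h' : y i ≤ -2 ∨ 2 ≤ y i := by omega
      rcases h' with h' | h' <;> nlinarith
    · exact sq_nonneg _
  have hs : ∑ i, y i ^ 2 = ∑ i, (if i ∈ cls y 2 then (4 : ℤ) else 0) := by
    rw [Finset.sum_ite_mem, Finset.univ_inter, Finset.sum_const]
    unfold sqNorm at hn
    rw [hn]
    simp [mul_comm]
  have key := eq_of_sum_eq hle hs
  constructor
  · intro i hi
    have := key i
    rw [if_pos hi] at this
    exact sq_eq_cases (b := 2) (by norm_num) (by rw [this]; norm_num)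
  · intro i hi
    have := key i
    rw [if_neg hi] at this
    exact pow_eq_zero_iff (n := 2) (by norm_num) |>.mp this

end Cfsg.Agent.Lib.Conway
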