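import Cfsg.Agent.Lib.Conway.Co2Main
import Cfsg.Agent.S1569
import Cfsg.Agent.S5592

set_option autoImplicit false

/-!
`Co0` is transitive on the vectors of sum of squares 64.
-/

namespace Cfsg.Agent.Lib.Conway

open Cfsg Cfsg.Agent.Lib.Helper93.Leech Cfsg.Agent.Lib.Helper93.Golay
open Cfsg.Agent.Lib.Golay.LeechBasis
open scoped Pointwise

theorem sqNorm_sub' (x y : Vec) : sqNorm (x - y) = sqNorm x + sqNorm y - 2 * dotInt x y := by
  unfold sqNorm dotInt
  simp only [Pi.sub_apply]
  rw [Finset.mul_sum, ← Finset.sum_add_distrib, ← Finset.sum_sub_distrib]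
  apply Finset.sum_congr rfl
  intros; ring

theorem dot_add_sub (x y : Vec) : dotInt (x + y) (x - y) = sqNorm x - sqNorm y := by
  unfold sqNorm dotInt
  simp only [Pi.sub_apply, Pi.add_apply]
  rw [← Finset.sum_sub_distrib]
  apply Finset.sum_congr rfl
  intros; ring

/-- every vector of sum of squares 64 is the sum of two orthogonal minimal vectors -/
theorem decomp8 (x : leechLattice) (hx : sqNorm (x : Vec) = 64) :
    ∃ p q : leechLattice, sqNorm (p : Vec) = 32 ∧ sqNorm (q : Vec) = 32 ∧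
      dotInt (q : Vec) (p : Vec) = 0 ∧ x = p + q := by
  have hcard := Cfsg.Agent.S1569.result (x : Vec) x.2 hx
  -- a member of the cross other than `x` and `-x`
  obtain ⟨y, hy, hyx, hynx⟩ : ∃ y ∈ cross (x : Vec), y ≠ (x : Vec) ∧ y ≠ -(x : Vec) := by
    by_contra hcon
    push Not at hcon
    have hsub : cross (x : Vec) ⊆ ({(x : Vec), -(x : Vec)} : Set Vec) := by
      intro y hy
      by_cases h : y = (x : Vec)
      · exact Or.inl h
      · exact Or.inr (hcon y hy h)
    have hle : (cross (x : Vec)).ncard ≤ ({(x : Vec), -(x : Vec)} : Set Vec).ncard :=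
      Set.ncard_le_ncard hsub (Set.toFinite _)
    have h2 : ({(x : Vec), -(x : Vec)} : Set Vec).ncard ≤ 2 := by
      have := Set.ncard_insert_le (x : Vec) ({-(x : Vec)} : Set Vec)
      rw [Set.ncard_singleton] at this
      exact this
    omega
  obtain ⟨hyL, hyn, z, hz, hxy⟩ := hy
  rw [hx] at hyn
  have hdot : dotInt (x : Vec) y = 0 := by
    rcases Cfsg.Agent.S5592.result (x : Vec) y x.2 hyL (fun h => hyx h.symm) hx.le hyn.le
      ⟨z, hz, hxy⟩ with h | h
    · exfalso
      apply hynx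
      rw [h]; simp
    · exact h.2.2
  -- the two halves
  set p : Vec := (x : Vec) - z with hp
  have hpL : p ∈ leechLattice := leechLattice.sub_mem x.2 hz
  have hxe : (x : Vec) = p + z := by rw [hp]; abel
  have hye : y = p - z := by
    have : y = (x : Vec) - 2 • z := by rw [← hxy]; abel
    rw [this, hp, two_smul]; abel
  have e1 := Cfsg.Agent.S0393.sqNorm_add p z
  have e2 := sqNorm_sub' p z
  have e3 := dot_add_sub p z
  rw [← hxe] at e1 e3
  rw [← hye] at e2 e3
  rw [hx] at e1
  rw [hyn] at e2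
  rw [hdot] at e3
  refine ⟨⟨p, hpL⟩, ⟨z, hz⟩, ?_, ?_, ?_, ?_⟩
  · show sqNorm p = 32
    omega
  · show sqNorm z = 32
    omega
  · show dotInt z p = 0
    rw [dotInt_symm]
    omega
  · exact Subtype.ext hxe

/-- the vector `(4, 4, 0^22)` -/
def r0 : Vec := vecOfList [4, 4, 0, 0, 0, 0, 0, 0, 0, 0, 0, 0, 0, 0, 0, 0, 0, 0, 0, 0, 0, 0, 0, 0]

set_option maxRecDepth 100000 in
theorem r0_cond : LeechCond r0 0 := by decide +kernel

def R0 : leechLattice := ⟨r0, mem_of_leechCond r0_cond⟩

set_option maxRecDepth 100000 in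
theorem r0_facts : sqNorm r0 = 32 ∧ dotInt v0 r0 = 0 ∧ ∀ k, r0 k + v0 k = (Pi.single pa 8 : Vec) k := by
  unfold sqNorm dotInt; decide +kernel

/-- every vector of sum of squares 64 is conjugate to `8 e` -/
theorem conj_fr (x : leechLattice) (hx : sqNorm (x : Vec) = 64) : Conj x (fr pa) := by
  obtain ⟨p, q, hp, hq, hpq, rfl⟩ := decomp8 x hx
  obtain ⟨g0, hg0⟩ := trans4 q V0 hq sqNorm_v0
  have hd : dotInt (V0 : Vec) ((g0 • p : leechLattice) : Vec) = 0 := by
    have := co0_dot g0 q p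
    rw [hg0] at this
    rw [this]; exact hpq
  obtain ⟨h, hh1, hh2⟩ := stab_trans_d0 V0 (g0 • p) R0 sqNorm_v0 (by rw [co0_norm]; exact hp)
    r0_facts.1 hd r0_facts.2.1
  refine ⟨h * g0, ?_⟩
  rw [mul_smul, co0_add, co0_add, hg0, hh1, hh2]
  apply Subtype.ext
  funext k
  exact r0_facts.2.2 k

/-- transitivity on the vectors of sum of squares 64 -/
theorem trans8 (v w : leechLattice) (hv : sqNorm (v : Vec) = 64) (hw : sqNorm (w : Vec) = 64) :
    Conj v w :=
  (conj_fr v hv).trans (conj_fr w hw).symm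

end Cfsg.Agent.Lib.Conway
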