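import Cfsg.Agent.Lib.Conway.U62Mat
import Cfsg.Agent.Lib.Helper5.SUCard

set_option autoImplicit false
set_option linter.unusedSectionVars false

/-!
Transport of the concrete vectors and matrices over the field with four elements to an arbitrary
field with four elements, and elements of `SU_6(2)` from concrete unitary matrices.
-/

namespace Cfsg.Agent.Lib.Conway.U62

open Matrix Cfsg.Agent.Lib.Helper5

variable {F : Type*} [Field F] [Fintype F]

/-- the isomorphism from the concrete field -/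
noncomputable def phi (hF : Fintype.card F = 4) : F4c ≃+* F :=
  FiniteField.ringEquivOfCardEq (by rw [hF, F4c.card_eq])

omit [Field F] in
theorem card_sq (hF : Fintype.card F = 4) : Fintype.card F = 2 ^ 2 := by rw [hF]; rfl

/-- a concrete vector as a vector over `F` -/
noncomputable def vecF (hF : Fintype.card F = 4) (x : V6) : Fin 6 → F :=
  ![phi hF x.a, phi hF x.b, phi hF x.c, phi hF x.d, phi hF x.e, phi hF x.f]

/-- a concrete matrix as a matrix over `F` -/
noncomputable def matF (hF : Fintype.card F = 4) (x : M6) : Matrix (Fin 6) (Fin 6) F :=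
  !![phi hF x.r0.a, phi hF x.r0.b, phi hF x.r0.c, phi hF x.r0.d, phi hF x.r0.e, phi hF x.r0.f;
     phi hF x.r1.a, phi hF x.r1.b, phi hF x.r1.c, phi hF x.r1.d, phi hF x.r1.e, phi hF x.r1.f;
     phi hF x.r2.a, phi hF x.r2.b, phi hF x.r2.c, phi hF x.r2.d, phi hF x.r2.e, phi hF x.r2.f;
     phi hF x.r3.a, phi hF x.r3.b, phi hF x.r3.c, phi hF x.r3.d, phi hF x.r3.e, phi hF x.r3.f;
     phi hF x.r4.a, phi hF x.r4.b, phi hF x.r4.c, phi hF x.r4.d, phi hF x.r4.e, phi hF x.r4.f;
     phi hF x.r5.a, phi hF x.r5.b, phi hF x.r5.c, phi hF x.r5.d, phi hF x.r5.e, phi hF x.r5.f]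

theorem vecF_smul (hF : Fintype.card F = 4) (k : F4c) (x : V6) :
    vecF hF (V6.smul k x) = phi hF k • vecF hF x := by
  ext i
  fin_cases i <;> simp [vecF, V6.smul]

theorem vecF_zero (hF : Fintype.card F = 4) : vecF hF V6.zero = 0 := by
  ext i
  fin_cases i <;> simp [vecF, V6.zero]

theorem vecF_inj (hF : Fintype.card F = 4) {x y : V6} (h : vecF hF x = vecF hF y) : x = y := by
  have e := fun i => congrFun h i
  have h0 := e 0
  have h1 := e 1
  have h2 := e 2
  have h3 := e 3
  have h4 := e 4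
  have h5 := e 5
  simp [vecF] at h0 h1 h2 h3 h4 h5
  cases x; cases y
  simp_all

theorem vecF_surj (hF : Fintype.card F = 4) (w : Fin 6 → F) : ∃ x : V6, vecF hF x = w := by
  refine ⟨⟨(phi hF).symm (w 0), (phi hF).symm (w 1), (phi hF).symm (w 2), (phi hF).symm (w 3),
    (phi hF).symm (w 4), (phi hF).symm (w 5)⟩, ?_⟩
  ext i
  fin_cases i <;> simp [vecF]

theorem matF_mulVec (hF : Fintype.card F = 4) (M : M6) (x : V6) :
    matF hF M *ᵥ vecF hF x = vecF hF (M.mv x) := by
  ext i
  fin_cases i <;>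
    simp [matF, vecF, M6.mv, V6.dot, Matrix.mulVec, dotProduct, Fin.sum_univ_six]

set_option maxHeartbeats 4000000 in
theorem matF_mul (hF : Fintype.card F = 4) (x y : M6) :
    matF hF (x.mul y) = matF hF x * matF hF y := by
  ext a b
  fin_cases a <;> fin_cases b <;>
    simp [matF, M6.mul, M6.rowMul, M6.col0, M6.col1, M6.col2, M6.col3, M6.col4, M6.col5, V6.dot,
      Matrix.mul_apply, Fin.sum_univ_six]

theorem matF_one (hF : Fintype.card F = 4) : matF hF M6.one = 1 := by
  ext a b
  fin_cases a <;> fin_cases b <;> simp [matF, M6.one]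

theorem matF_tr (hF : Fintype.card F = 4) (x : M6) : matF hF x.tr = (matF hF x)ᵀ := by
  ext a b
  fin_cases a <;> fin_cases b <;>
    simp [matF, M6.tr, M6.col0, M6.col1, M6.col2, M6.col3, M6.col4, M6.col5]

theorem phi_cj (hF : Fintype.card F = 4) (x : F4c) : phi hF (F4c.cj x) = (phi hF x) ^ 2 := by
  rw [F4c.cj_eq_pow, map_pow]

theorem matF_cj (hF : Fintype.card F = 4) (x : M6) :
    matF hF x.cjm = (matF hF x).map (frobQ (card_sq hF)) := by
  ext a b
  fin_cases a <;> fin_cases b <;>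
    simp [matF, M6.cjm, V6.cjv, frobQ_apply, phi_cj]

theorem pow_three (hF : Fintype.card F = 4) {x : F} (hx : x ≠ 0) : x ^ 3 = 1 := by
  have := FiniteField.pow_card_sub_one_eq_one x hx
  rwa [hF] at this

theorem matF_powChain (hF : Fintype.card F = 4) (x : M6) (cur : M6) (l : List M6)
    (h : M6.powChain x cur l = true) : matF hF cur * (matF hF x) ^ l.length = 1 := by
  induction l generalizing cur with
  | nil =>
    rw [M6.powChain, decide_eq_true_iff] at h
    rw [h, matF_one, List.length_nil, pow_zero, mul_one]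
  | cons y ys ih =>
    rw [M6.powChain, Bool.and_eq_true, decide_eq_true_iff] at h
    have := ih y h.2
    rw [← h.1, matF_mul] at this
    rw [List.length_cons, pow_succ', ← mul_assoc]
    exact this

/-- a unitary matrix of order prime to three has determinant one -/
theorem det_matF_of_good (hF : Fintype.card F = 4) (x : M6) (hx : x.Good) :
    (matF hF x).det = 1 := by
  obtain ⟨l, hl, hco⟩ := hx.2
  have hm : (matF hF x) ^ (l.length + 1) = 1 := by
    rw [pow_succ']
    exact matF_powChain hF x x l hl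
  have hdm : (matF hF x).det ^ (l.length + 1) = 1 := by
    rw [← Matrix.det_pow, hm, Matrix.det_one]
  have hne : (matF hF x).det ≠ 0 := by
    intro h
    rw [h, zero_pow (Nat.succ_ne_zero _)] at hdm
    exact zero_ne_one hdm
  have h3 : (matF hF x).det ^ 3 = 1 := pow_three hF hne
  have h1 := orderOf_dvd_of_pow_eq_one hdm
  have h2 := orderOf_dvd_of_pow_eq_one h3
  have h4 : orderOf (matF hF x).det ∣ 1 := by
    have := Nat.dvd_gcd h1 h2
    rwa [Nat.Coprime.gcd_eq_one hco] at this
  exact orderOf_eq_one_iff.mp (Nat.dvd_one.mp h4)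

theorem hermForm_eq_dot (hF : Fintype.card F = 4) (u v : Fin 6 → F) :
    Cfsg.hermForm 6 F 2 u v = u ⬝ᵥ (frobQ (card_sq hF) ∘ v) := rfl

theorem hermForm_vecF (hF : Fintype.card F = 4) (x y : V6) :
    Cfsg.hermForm 6 F 2 (vecF hF x) (vecF hF y) = phi hF (V6.herm x y) := by
  unfold Cfsg.hermForm
  simp [Fin.sum_univ_six, vecF, V6.herm, V6.dot, V6.cjv, phi_cj]

theorem isHermIso_of_transpose_mul_map (hF : Fintype.card F = 4) (A : Matrix (Fin 6) (Fin 6) F)
    (h : Aᵀ * A.map (frobQ (card_sq hF)) = 1) : IsHermIso 6 F 2 A := by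
  intro u v
  rw [hermForm_eq_dot hF, hermForm_eq_dot hF]
  have h1 : (frobQ (card_sq hF)) ∘ (A *ᵥ v) =
      A.map (frobQ (card_sq hF)) *ᵥ ((frobQ (card_sq hF)) ∘ v) :=
    funext (RingHom.map_mulVec (frobQ (card_sq hF)) A v)
  rw [h1, Matrix.dotProduct_mulVec, Matrix.vecMul_mulVec, h, Matrix.vecMul_one]

/-- the matrix of an element of `SU_6(2)` -/
def mat (g : Cfsg.SU 6 F 2) : Matrix (Fin 6) (Fin 6) F := g.1.1

theorem mat_mul (g h : Cfsg.SU 6 F 2) : mat (g * h) = mat g * mat h := rfl

theorem mat_one : mat (1 : Cfsg.SU 6 F 2) = 1 := rfl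

theorem mat_inj {g h : Cfsg.SU 6 F 2} (e : mat g = mat h) : g = h :=
  Subtype.ext (Subtype.ext e)

theorem mem_SU_iff (g : SpecialLinearGroup (Fin 6) F) :
    g ∈ Cfsg.SU 6 F 2 ↔ IsHermIso 6 F 2 g.1 := Iff.rfl

theorem isHermIso_mat (g : Cfsg.SU 6 F 2) : IsHermIso 6 F 2 (mat g) := (mem_SU_iff g.1).mp g.2

theorem det_mat (g : Cfsg.SU 6 F 2) : (mat g).det = 1 := g.1.2

/-- the element of `SU_6(2)` with a given concrete matrix -/
noncomputable def mkG (hF : Fintype.card F = 4) (x : M6) (hx : x.Good) : Cfsg.SU 6 F 2 :=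
  ⟨⟨matF hF x, det_matF_of_good hF x hx⟩, by
    apply (mem_SU_iff _).mpr
    apply isHermIso_of_transpose_mul_map hF
    rw [← matF_tr, ← matF_cj, ← matF_mul, hx.1, matF_one]⟩

theorem mat_mkG (hF : Fintype.card F = 4) (x : M6) (hx : x.Good) :
    mat (mkG hF x hx) = matF hF x := rfl

end Cfsg.Agent.Lib.Conway.U62
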