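import Cfsg.Agent.Lib.Conway.U62LamDef

set_option autoImplicit false

/-! The check of the table of the action of the automorphism number 1 on the 891 vectors. -/

namespace Cfsg.Agent.Lib.Conway.U62

set_option maxRecDepth 100000 in
theorem lam_ok_1_0 : lamChunk 1 0 = true := by decide +kernel

set_option maxRecDepth 100000 in
theorem lam_ok_1_1 : lamChunk 1 1 = true := by decide +kernel

set_option maxRecDepth 100000 in
theorem lam_ok_1_2 : lamChunk 1 2 = true := by decide +kernel

set_option maxRecDepth 100000 in
theorem lam_ok_1_3 : lamChunk 1 3 = true := by decide +kernel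

set_option maxRecDepth 100000 in
theorem lam_ok_1_4 : lamChunk 1 4 = true := by decide +kernel

set_option maxRecDepth 100000 in
theorem lam_ok_1_5 : lamChunk 1 5 = true := by decide +kernel

set_option maxRecDepth 100000 in
theorem lam_ok_1_6 : lamChunk 1 6 = true := by decide +kernel

set_option maxRecDepth 100000 in
theorem lam_ok_1_7 : lamChunk 1 7 = true := by decide +kernel

set_option maxRecDepth 100000 in
theorem lam_ok_1_8 : lamChunk 1 8 = true := by decide +kernel

set_option maxRecDepth 100000 in
theorem lam_ok_1_9 : lamChunk 1 9 = true := by decide +kernel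

set_option maxRecDepth 100000 in
theorem lam_ok_1_10 : lamChunk 1 10 = true := by decide +kernel

set_option maxRecDepth 100000 in
theorem lam_ok_1_11 : lamChunk 1 11 = true := by decide +kernel

set_option maxRecDepth 100000 in
theorem lam_ok_1_12 : lamChunk 1 12 = true := by decide +kernel

set_option maxRecDepth 100000 in
theorem lam_ok_1_13 : lamChunk 1 13 = true := by decide +kernel

set_option maxRecDepth 100000 in
theorem lam_ok_1_14 : lamChunk 1 14 = true := by decide +kernel

set_option maxRecDepth 100000 in
theorem lam_ok_1_15 : lamChunk 1 15 = true := by decide +kernel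

set_option maxRecDepth 100000 in
theorem lam_ok_1_16 : lamChunk 1 16 = true := by decide +kernel

set_option maxRecDepth 100000 in
theorem lam_ok_1_17 : lamChunk 1 17 = true := by decide +kernel

set_option maxRecDepth 100000 in
theorem lam_ok_1_18 : lamChunk 1 18 = true := by decide +kernel

set_option maxRecDepth 100000 in
theorem lam_ok_1_19 : lamChunk 1 19 = true := by decide +kernel

set_option maxRecDepth 100000 in
theorem lam_ok_1_20 : lamChunk 1 20 = true := by decide +kernel

set_option maxRecDepth 100000 in
theorem lam_ok_1_21 : lamChunk 1 21 = true := by decide +kernel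

set_option maxRecDepth 100000 in
theorem lam_ok_1_22 : lamChunk 1 22 = true := by decide +kernel

set_option maxRecDepth 100000 in
theorem lam_ok_1_23 : lamChunk 1 23 = true := by decide +kernel

set_option maxRecDepth 100000 in
theorem lam_ok_1_24 : lamChunk 1 24 = true := by decide +kernel

set_option maxRecDepth 100000 in
theorem lam_ok_1_25 : lamChunk 1 25 = true := by decide +kernel

set_option maxRecDepth 100000 in
theorem lam_ok_1_26 : lamChunk 1 26 = true := by decide +kernel

theorem lam_ok_1 : ∀ j < 27, lamChunk 1 j = true := by
  intro j hj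
  interval_cases j
  · exact lam_ok_1_0
  · exact lam_ok_1_1
  · exact lam_ok_1_2
  · exact lam_ok_1_3
  · exact lam_ok_1_4
  · exact lam_ok_1_5
  · exact lam_ok_1_6
  · exact lam_ok_1_7
  · exact lam_ok_1_8
  · exact lam_ok_1_9
  · exact lam_ok_1_10
  · exact lam_ok_1_11
  · exact lam_ok_1_12
  · exact lam_ok_1_13
  · exact lam_ok_1_14
  · exact lam_ok_1_15
  · exact lam_ok_1_16
  · exact lam_ok_1_17
  · exact lam_ok_1_18
  · exact lam_ok_1_19
  · exact lam_ok_1_20
  · exact lam_ok_1_21
  · exact lam_ok_1_22
  · exact lam_ok_1_23
  · exact lam_ok_1_24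
  · exact lam_ok_1_25
  · exact lam_ok_1_26

end Cfsg.Agent.Lib.Conway.U62
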