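import Cfsg.Agent.Lib.Conway.U62LamDef

set_option autoImplicit false

/-! The check of the table of the action of the automorphism number 2 on the 891 vectors. -/

namespace Cfsg.Agent.Lib.Conway.U62

set_option maxRecDepth 100000 in
theorem lam_ok_2_0 : lamChunk 2 0 = true := by decide +kernel

set_option maxRecDepth 100000 in
theorem lam_ok_2_1 : lamChunk 2 1 = true := by decide +kernel

set_option maxRecDepth 100000 in
theorem lam_ok_2_2 : lamChunk 2 2 = true := by decide +kernel

set_option maxRecDepth 100000 in
theorem lam_ok_2_3 : lamChunk 2 3 = true := by decide +kernel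

set_option maxRecDepth 100000 in
theorem lam_ok_2_4 : lamChunk 2 4 = true := by decide +kernel

set_option maxRecDepth 100000 in
theorem lam_ok_2_5 : lamChunk 2 5 = true := by decide +kernel

set_option maxRecDepth 100000 in
theorem lam_ok_2_6 : lamChunk 2 6 = true := by decide +kernel

set_option maxRecDepth 100000 in
theorem lam_ok_2_7 : lamChunk 2 7 = true := by decide +kernel

set_option maxRecDepth 100000 in
theorem lam_ok_2_8 : lamChunk 2 8 = true := by decide +kernel

set_option maxRecDepth 100000 in
theorem lam_ok_2_9 : lamChunk 2 9 = true := by decide +kernel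

set_option maxRecDepth 100000 in
theorem lam_ok_2_10 : lamChunk 2 10 = true := by decide +kernel

set_option maxRecDepth 100000 in
theorem lam_ok_2_11 : lamChunk 2 11 = true := by decide +kernel

set_option maxRecDepth 100000 in
theorem lam_ok_2_12 : lamChunk 2 12 = true := by decide +kernel

set_option maxRecDepth 100000 in
theorem lam_ok_2_13 : lamChunk 2 13 = true := by decide +kernel

set_option maxRecDepth 100000 in
theorem lam_ok_2_14 : lamChunk 2 14 = true := by decide +kernel

set_option maxRecDepth 100000 in
theorem lam_ok_2_15 : lamChunk 2 15 = true := by decide +kernel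

set_option maxRecDepth 100000 in
theorem lam_ok_2_16 : lamChunk 2 16 = true := by decide +kernel

set_option maxRecDepth 100000 in
theorem lam_ok_2_17 : lamChunk 2 17 = true := by decide +kernel

set_option maxRecDepth 100000 in
theorem lam_ok_2_18 : lamChunk 2 18 = true := by decide +kernel

set_option maxRecDepth 100000 in
theorem lam_ok_2_19 : lamChunk 2 19 = true := by decide +kernel

set_option maxRecDepth 100000 in
theorem lam_ok_2_20 : lamChunk 2 20 = true := by decide +kernel

set_option maxRecDepth 100000 in
theorem lam_ok_2_21 : lamChunk 2 21 = true := by decide +kernel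

set_option maxRecDepth 100000 in
theorem lam_ok_2_22 : lamChunk 2 22 = true := by decide +kernel

set_option maxRecDepth 100000 in
theorem lam_ok_2_23 : lamChunk 2 23 = true := by decide +kernel

set_option maxRecDepth 100000 in
theorem lam_ok_2_24 : lamChunk 2 24 = true := by decide +kernel

set_option maxRecDepth 100000 in
theorem lam_ok_2_25 : lamChunk 2 25 = true := by decide +kernel

set_option maxRecDepth 100000 in
theorem lam_ok_2_26 : lamChunk 2 26 = true := by decide +kernel

theorem lam_ok_2 : ∀ j < 27, lamChunk 2 j = true := by
  intro j hj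
  interval_cases j
  · exact lam_ok_2_0
  · exact lam_ok_2_1
  · exact lam_ok_2_2
  · exact lam_ok_2_3
  · exact lam_ok_2_4
  · exact lam_ok_2_5
  · exact lam_ok_2_6
  · exact lam_ok_2_7
  · exact lam_ok_2_8
  · exact lam_ok_2_9
  · exact lam_ok_2_10
  · exact lam_ok_2_11
  · exact lam_ok_2_12
  · exact lam_ok_2_13
  · exact lam_ok_2_14
  · exact lam_ok_2_15
  · exact lam_ok_2_16
  · exact lam_ok_2_17
  · exact lam_ok_2_18
  · exact lam_ok_2_19
  · exact lam_ok_2_20
  · exact lam_ok_2_21
  · exact lam_ok_2_22
  · exact lam_ok_2_23
  · exact lam_ok_2_24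
  · exact lam_ok_2_25
  · exact lam_ok_2_26

end Cfsg.Agent.Lib.Conway.U62
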