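import Cfsg.Agent.Lib.Conway.U62Lam0
import Cfsg.Agent.Lib.Conway.U62Lam1
import Cfsg.Agent.Lib.Conway.U62Lam2
import Cfsg.Agent.Lib.Conway.U62Lam3

set_option autoImplicit false

/-!
The Leech lattice side of the identification of the stabiliser `K0` of the two vectors `V0`, `W0`:
the 891 vectors `Yv l`, the action of the four automorphisms on them, and rigidity (an element
of `K0` fixing the 891 vectors is trivial).
-/

namespace Cfsg.Agent.Lib.Conway.U62

open Cfsg Cfsg.Agent.Lib.Helper93.Leech Cfsg.Agent.Lib.Helper93.Golay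
open Cfsg.Agent.Lib.Golay.LeechBasis Cfsg.Agent.Lib.Conway
open Cfsg.Agent.Lib.Helper26.CoTab

/-! ### the two vectors -/

theorem v0L_length : v0L.length = 24 := by decide
theorem w0L_length : w0L.length = 24 := by decide

set_option maxRecDepth 100000 in
theorem v0L_cond : LeechCond (vecOfList v0L) (vecOfList v0L (ptOf 0)) := by decide +kernel

set_option maxRecDepth 100000 in
theorem w0L_cond : LeechCond (vecOfList w0L) (vecOfList w0L (ptOf 0)) := by decide +kernel

/-- the first standard vector -/
def V0 : leechLattice := ⟨vecOfList v0L, mem_of_leechCond v0L_cond⟩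
/-- the second standard vector -/
def W0 : leechLattice := ⟨vecOfList w0L, mem_of_leechCond w0L_cond⟩

theorem V0_coe : (V0 : Vec) = vecOfList v0L := rfl
theorem W0_coe : (W0 : Vec) = vecOfList w0L := rfl

set_option maxRecDepth 100000 in
theorem V0_norm : sqNorm (V0 : Vec) = 32 := by
  rw [V0_coe, sqNorm_vecOfList _ v0L_length]; decide +kernel

set_option maxRecDepth 100000 in
theorem W0_norm : sqNorm (W0 : Vec) = 32 := by
  rw [W0_coe, sqNorm_vecOfList _ w0L_length]; decide +kernel

set_option maxRecDepth 100000 in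
theorem V0_W0_dot : dotInt (V0 : Vec) (W0 : Vec) = -16 := by
  rw [V0_coe, W0_coe, dotInt_vecOfList _ _ v0L_length]; decide +kernel

/-- the stabiliser of the two standard vectors -/
def K0 : Subgroup Co0 := MulAction.stabilizer Co0 V0 ⊓ MulAction.stabilizer Co0 W0

theorem mem_K0_of_fix (d : GenData) (h : d.ok) (hv : applyC d.Tt v0L = v0L)
    (hw : applyC d.Tt w0L = w0L) : d.aut h ∈ K0 := by
  refine Subgroup.mem_inf.mpr ⟨MulAction.mem_stabilizer_iff.mpr ?_,
    MulAction.mem_stabilizer_iff.mpr ?_⟩
  · apply Subtype.ext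
    have := GenData.aut_smul_list d h v0L v0L_length (mem_of_leechCond v0L_cond)
    rw [hv] at this
    exact this
  · apply Subtype.ext
    have := GenData.aut_smul_list d h w0L w0L_length (mem_of_leechCond w0L_cond)
    rw [hw] at this
    exact this

/-! ### the 891 vectors -/

set_option maxRecDepth 100000 in
theorem AB_cond : ∀ l ∈ AB, LeechCond (vecOfList l) (vecOfList l (ptOf 0)) := by decide +kernel

theorem AB_len (l : List ℤ) (hl : l ∈ AB) : l.length = 24 := by
  obtain ⟨c, _, rfl⟩ := List.mem_map.mp hl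
  exact decW_length c

theorem AB_mem (l : List ℤ) (hl : l ∈ AB) : vecOfList l ∈ leechLattice :=
  mem_of_leechCond (AB_cond l hl)

theorem AB_length : AB.length = 891 := by decide +kernel

/-- encoding inverse to `decW` -/
def encW (l : List ℤ) : ℕ := l.foldr (fun v acc => (v + 16).toNat + 32 * acc) 0

set_option maxRecDepth 100000 in
theorem ABc_chain : ABc.IsChain (· < ·) := by decide +kernel

set_option maxRecDepth 100000 in
theorem ABc_enc : ∀ c ∈ ABc, encW (decW c) = c := by decide +kernel

theorem AB_nodup : AB.Nodup := by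
  apply List.Nodup.map_on _ (nodup_of_chain _ ABc_chain)
  intro a ha b hb hab
  rw [← ABc_enc a ha, ← ABc_enc b hb, hab]

theorem AB_getD_mem (l : ℕ) (hl : l < 891) : AB.getD l [] ∈ AB := by
  rw [List.getD_eq_getElem _ _ (by rw [AB_length]; exact hl)]
  exact List.getElem_mem _

open Classical in
/-- the `l`-th vector -/
noncomputable def Yv (l : ℕ) : leechLattice :=
  if h : vecOfList (AB.getD l []) ∈ leechLattice then ⟨_, h⟩ else 0

theorem Yv_coe (l : ℕ) (hl : l < 891) : (Yv l : Vec) = vecOfList (AB.getD l []) := by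
  unfold Yv
  rw [dif_pos (AB_mem _ (AB_getD_mem l hl))]

theorem Yv_eq (l : ℕ) (hl : l < 891) :
    Yv l = ⟨vecOfList (AB.getD l []), AB_mem _ (AB_getD_mem l hl)⟩ :=
  Subtype.ext (Yv_coe l hl)

theorem Yv_inj {l l' : ℕ} (hl : l < 891) (hl' : l' < 891) (h : Yv l = Yv l') : l = l' := by
  have h1 := congrArg Subtype.val h
  rw [Yv_coe l hl, Yv_coe l' hl'] at h1
  have h2 := vecOfList_injOn (AB_len _ (AB_getD_mem l hl)) (AB_len _ (AB_getD_mem l' hl')) h1
  have hl2 : l < AB.length := by rw [AB_length]; exact hl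
  have hl2' : l' < AB.length := by rw [AB_length]; exact hl'
  rw [List.getD_eq_getElem _ _ hl2, List.getD_eq_getElem _ _ hl2'] at h2
  exact (List.Nodup.getElem_inj_iff AB_nodup).mp h2

/-! ### the four automorphisms -/

set_option maxRecDepth 100000 in
theorem k1_ok : k1.ok := by decide +kernel
set_option maxRecDepth 100000 in
theorem k2_ok : k2.ok := by decide +kernel
set_option maxRecDepth 100000 in
theorem k3_ok : k3.ok := by decide +kernel
set_option maxRecDepth 100000 in
theorem k4_ok : k4.ok := by decide +kernel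

theorem eltD_ok (e : ℕ) : (eltD e).ok := by
  match e with
  | 0 => exact k1_ok
  | 1 => exact k2_ok
  | 2 => exact k3_ok
  | _ + 3 => exact k4_ok

set_option maxRecDepth 100000 in
theorem kgens_fix : ∀ e < 4, applyC (eltD e).Tt v0L = v0L ∧ applyC (eltD e).Tt w0L = w0L := by
  decide +kernel

theorem eltD_ge (e : ℕ) (he : 4 ≤ e) : eltD e = eltD 3 := by
  match e, he with
  | _ + 4, _ => rfl

theorem eltD_fix (e : ℕ) : applyC (eltD e).Tt v0L = v0L ∧ applyC (eltD e).Tt w0L = w0L := by
  by_cases he : e < 4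
  · exact kgens_fix e he
  · rw [eltD_ge e (by omega)]
    exact kgens_fix 3 (by norm_num)

/-- the four automorphisms -/
noncomputable def elt (e : ℕ) : Co0 := (eltD e).aut (eltD_ok e)

theorem elt_mem (e : ℕ) : elt e ∈ K0 :=
  mem_K0_of_fix (eltD e) (eltD_ok e) (eltD_fix e).1 (eltD_fix e).2

theorem elt_smul_list (e : ℕ) (x : List ℤ) (hx : x.length = 24) (hm : vecOfList x ∈ leechLattice) :
    ((elt e • (⟨vecOfList x, hm⟩ : leechLattice) : leechLattice) : Vec) =
      vecOfList (applyC (eltD e).Tt x) :=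
  GenData.aut_smul_list (eltD e) (eltD_ok e) x hx hm

theorem lamChunk_of (e : ℕ) (he : e < 4) (j : ℕ) (hj : j < 27) : lamChunk e j = true := by
  interval_cases e
  · exact lam_ok_0 j hj
  · exact lam_ok_1 j hj
  · exact lam_ok_2 j hj
  · exact lam_ok_3 j hj

theorem lamAt_ge (e l : ℕ) (he : 4 ≤ e) : lamAt e l = lamAt 3 l := by
  match e, he with
  | _ + 4, _ => rfl

/-- every entry of the tables of the action is right -/
theorem lam_spec (e l : ℕ) (hl : l < 891) : lamAt e l = true := by
  have key : ∀ e < 4, lamAt e l = true := by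
    intro e he
    have hj : l / 33 < 27 := by omega
    exact List.all_eq_true.mp (lamChunk_of e he (l / 33) hj) l
      (List.mem_range'_1.mpr ⟨by omega, by omega⟩)
  by_cases he : e < 4
  · exact key e he
  · rw [lamAt_ge e l (by omega)]
    exact key 3 (by norm_num)

theorem elt_Yv (e l : ℕ) (hl : l < 891) :
    (lamE e).getD l 0 < 891 ∧ elt e • Yv l = Yv ((lamE e).getD l 0) := by
  have h := lam_spec e l hl
  rw [lamAt, Bool.and_eq_true, decide_eq_true_iff, beq_iff_eq] at h
  refine ⟨h.1, ?_⟩
  apply Subtype.ext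
  rw [Yv_eq l hl, elt_smul_list e _ (AB_len _ (AB_getD_mem l hl)), h.2, Yv_coe _ h.1]

/-! ### rigidity -/

/-- the 24 vectors `v0`, `w0` and the first 22 of the 891 vectors -/
def FL : List (List ℤ) := [v0L, w0L] ++ AB.take 22

/-- the `m`-th of them -/
def fvec (m : Fin 24) : Vec := vecOfList (FL.getD m.val [])

set_option maxRecDepth 100000 in
theorem rigid_data : ∀ (j : Fin 24) (p : GolayPt),
    4 * bvec j p = ∑ m : Fin 24, (RC.getD j.val []).getD m.val 0 * fvec m p := by
  decide +kernel

theorem FL_getD : ∀ m : Fin 24, FL.getD m.val [] =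
    if m.val = 0 then v0L else if m.val = 1 then w0L else AB.getD (m.val - 2) [] := by
  decide +kernel

/-- the corresponding elements of the lattice -/
noncomputable def Fel (m : Fin 24) : leechLattice :=
  if m.val = 0 then V0 else if m.val = 1 then W0 else Yv (m.val - 2)

theorem Fel_coe (m : Fin 24) : (Fel m : Vec) = fvec m := by
  unfold Fel fvec
  rw [FL_getD m]
  split_ifs with h0 h1
  · exact V0_coe
  · exact W0_coe
  · exact Yv_coe _ (by omega)

theorem Fel_fix (g : Co0) (hg : g ∈ K0) (hY : ∀ l < 891, g • Yv l = Yv l) (m : Fin 24) :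
    g • Fel m = Fel m := by
  unfold Fel
  split_ifs with h0 h1
  · exact MulAction.mem_stabilizer_iff.mp (Subgroup.mem_inf.mp hg).1
  · exact MulAction.mem_stabilizer_iff.mp (Subgroup.mem_inf.mp hg).2
  · exact hY _ (by omega)

/-- the basis vectors as elements of the lattice -/
def Bel (j : Fin 24) : leechLattice := ⟨bvec j, bvec_mem j⟩

theorem four_Bel (j : Fin 24) :
    (4 : ℤ) • Bel j = ∑ m : Fin 24, ((RC.getD j.val []).getD m.val 0) • Fel m := by
  apply Subtype.ext
  funext p
  rw [AddSubgroup.coe_zsmul, AddSubgroup.val_finsetSum]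
  simp only [Pi.smul_apply, Finset.sum_apply, AddSubgroup.coe_zsmul, smul_eq_mul, Fel_coe]
  exact rigid_data j p

theorem Bel_fix (g : Co0) (hg : g ∈ K0) (hY : ∀ l < 891, g • Yv l = Yv l) (j : Fin 24) :
    g • Bel j = Bel j := by
  have h3 : (4 : ℤ) • (g • Bel j) = (4 : ℤ) • Bel j := by
    rw [← co0_zsmul, four_Bel, co0_sum]
    apply Finset.sum_congr rfl
    intro m _
    rw [co0_zsmul, Fel_fix g hg hY m]
  apply Subtype.ext
  funext p
  have := congrFun (congrArg Subtype.val h3) p
  rw [AddSubgroup.coe_zsmul, AddSubgroup.coe_zsmul] at this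
  simp only [Pi.smul_apply, smul_eq_mul] at this
  omega

theorem eq_sum_Bel (v : leechLattice) : v = ∑ j : Fin 24, coef (v : Vec) j • Bel j := by
  apply Subtype.ext
  rw [AddSubgroup.val_finsetSum]
  have := lin_bvec_self v.2
  unfold lin at this
  rw [← this]
  apply Finset.sum_congr rfl
  intro j _
  rw [AddSubgroup.coe_zsmul, this]
  rfl

/-- an element of `K0` fixing the 891 vectors is trivial -/
theorem rigid (g : Co0) (hg : g ∈ K0) (hY : ∀ l < 891, g • Yv l = Yv l) : g = 1 := by
  apply co0_ext
  intro v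
  rw [co0_one_smul]
  conv_lhs => rw [eq_sum_Bel v]
  rw [co0_sum]
  conv_rhs => rw [eq_sum_Bel v]
  apply Finset.sum_congr rfl
  intro j _
  rw [co0_zsmul, Bel_fix g hg hY j]

end Cfsg.Agent.Lib.Conway.U62
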