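import Cfsg.Agent.Lib.Conway.U62RelDef

set_option autoImplicit false

/-! The check of the tables relating the matrix and the automorphism number 0. -/

namespace Cfsg.Agent.Lib.Conway.U62

set_option maxRecDepth 100000 in
theorem lamP_ok_0 : lamPOK 0 = true := by decide +kernel

set_option maxRecDepth 100000 in
theorem rel_ok_0_0 : relChunk 0 0 = true := by decide +kernel

set_option maxRecDepth 100000 in
theorem rel_ok_0_1 : relChunk 0 1 = true := by decide +kernel

set_option maxRecDepth 100000 in
theorem rel_ok_0_2 : relChunk 0 2 = true := by decide +kernel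

set_option maxRecDepth 100000 in
theorem rel_ok_0_3 : relChunk 0 3 = true := by decide +kernel

set_option maxRecDepth 100000 in
theorem rel_ok_0_4 : relChunk 0 4 = true := by decide +kernel

set_option maxRecDepth 100000 in
theorem rel_ok_0_5 : relChunk 0 5 = true := by decide +kernel

set_option maxRecDepth 100000 in
theorem rel_ok_0_6 : relChunk 0 6 = true := by decide +kernel

set_option maxRecDepth 100000 in
theorem rel_ok_0_7 : relChunk 0 7 = true := by decide +kernel

set_option maxRecDepth 100000 in
theorem rel_ok_0_8 : relChunk 0 8 = true := by decide +kernel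

set_option maxRecDepth 100000 in
theorem rel_ok_0_9 : relChunk 0 9 = true := by decide +kernel

set_option maxRecDepth 100000 in
theorem rel_ok_0_10 : relChunk 0 10 = true := by decide +kernel

set_option maxRecDepth 100000 in
theorem rel_ok_0_11 : relChunk 0 11 = true := by decide +kernel

set_option maxRecDepth 100000 in
theorem rel_ok_0_12 : relChunk 0 12 = true := by decide +kernel

set_option maxRecDepth 100000 in
theorem rel_ok_0_13 : relChunk 0 13 = true := by decide +kernel

set_option maxRecDepth 100000 in
theorem rel_ok_0_14 : relChunk 0 14 = true := by decide +kernel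

set_option maxRecDepth 100000 in
theorem rel_ok_0_15 : relChunk 0 15 = true := by decide +kernel

set_option maxRecDepth 100000 in
theorem rel_ok_0_16 : relChunk 0 16 = true := by decide +kernel

set_option maxRecDepth 100000 in
theorem rel_ok_0_17 : relChunk 0 17 = true := by decide +kernel

set_option maxRecDepth 100000 in
theorem rel_ok_0_18 : relChunk 0 18 = true := by decide +kernel

set_option maxRecDepth 100000 in
theorem rel_ok_0_19 : relChunk 0 19 = true := by decide +kernel

set_option maxRecDepth 100000 in
theorem rel_ok_0_20 : relChunk 0 20 = true := by decide +kernel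

theorem rel_ok_0 : ∀ j < 21, relChunk 0 j = true := by
  intro j hj
  interval_cases j
  · exact rel_ok_0_0
  · exact rel_ok_0_1
  · exact rel_ok_0_2
  · exact rel_ok_0_3
  · exact rel_ok_0_4
  · exact rel_ok_0_5
  · exact rel_ok_0_6
  · exact rel_ok_0_7
  · exact rel_ok_0_8
  · exact rel_ok_0_9
  · exact rel_ok_0_10
  · exact rel_ok_0_11
  · exact rel_ok_0_12
  · exact rel_ok_0_13
  · exact rel_ok_0_14
  · exact rel_ok_0_15
  · exact rel_ok_0_16
  · exact rel_ok_0_17
  · exact rel_ok_0_18
  · exact rel_ok_0_19
  · exact rel_ok_0_20

end Cfsg.Agent.Lib.Conway.U62
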