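import Cfsg.Agent.Lib.Conway.U62RelDef

set_option autoImplicit false

/-! The check of the tables relating the matrix and the automorphism number 2. -/

namespace Cfsg.Agent.Lib.Conway.U62

set_option maxRecDepth 100000 in
theorem lamP_ok_2 : lamPOK 2 = true := by decide +kernel

set_option maxRecDepth 100000 in
theorem rel_ok_2_0 : relChunk 2 0 = true := by decide +kernel

set_option maxRecDepth 100000 in
theorem rel_ok_2_1 : relChunk 2 1 = true := by decide +kernel

set_option maxRecDepth 100000 in
theorem rel_ok_2_2 : relChunk 2 2 = true := by decide +kernel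

set_option maxRecDepth 100000 in
theorem rel_ok_2_3 : relChunk 2 3 = true := by decide +kernel

set_option maxRecDepth 100000 in
theorem rel_ok_2_4 : relChunk 2 4 = true := by decide +kernel

set_option maxRecDepth 100000 in
theorem rel_ok_2_5 : relChunk 2 5 = true := by decide +kernel

set_option maxRecDepth 100000 in
theorem rel_ok_2_6 : relChunk 2 6 = true := by decide +kernel

set_option maxRecDepth 100000 in
theorem rel_ok_2_7 : relChunk 2 7 = true := by decide +kernel

set_option maxRecDepth 100000 in
theorem rel_ok_2_8 : relChunk 2 8 = true := by decide +kernel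

set_option maxRecDepth 100000 in
theorem rel_ok_2_9 : relChunk 2 9 = true := by decide +kernel

set_option maxRecDepth 100000 in
theorem rel_ok_2_10 : relChunk 2 10 = true := by decide +kernel

set_option maxRecDepth 100000 in
theorem rel_ok_2_11 : relChunk 2 11 = true := by decide +kernel

set_option maxRecDepth 100000 in
theorem rel_ok_2_12 : relChunk 2 12 = true := by decide +kernel

set_option maxRecDepth 100000 in
theorem rel_ok_2_13 : relChunk 2 13 = true := by decide +kernel

set_option maxRecDepth 100000 in
theorem rel_ok_2_14 : relChunk 2 14 = true := by decide +kernel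

set_option maxRecDepth 100000 in
theorem rel_ok_2_15 : relChunk 2 15 = true := by decide +kernel

set_option maxRecDepth 100000 in
theorem rel_ok_2_16 : relChunk 2 16 = true := by decide +kernel

set_option maxRecDepth 100000 in
theorem rel_ok_2_17 : relChunk 2 17 = true := by decide +kernel

set_option maxRecDepth 100000 in
theorem rel_ok_2_18 : relChunk 2 18 = true := by decide +kernel

set_option maxRecDepth 100000 in
theorem rel_ok_2_19 : relChunk 2 19 = true := by decide +kernel

set_option maxRecDepth 100000 in
theorem rel_ok_2_20 : relChunk 2 20 = true := by decide +kernel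

theorem rel_ok_2 : ∀ j < 21, relChunk 2 j = true := by
  intro j hj
  interval_cases j
  · exact rel_ok_2_0
  · exact rel_ok_2_1
  · exact rel_ok_2_2
  · exact rel_ok_2_3
  · exact rel_ok_2_4
  · exact rel_ok_2_5
  · exact rel_ok_2_6
  · exact rel_ok_2_7
  · exact rel_ok_2_8
  · exact rel_ok_2_9
  · exact rel_ok_2_10
  · exact rel_ok_2_11
  · exact rel_ok_2_12
  · exact rel_ok_2_13
  · exact rel_ok_2_14
  · exact rel_ok_2_15
  · exact rel_ok_2_16
  · exact rel_ok_2_17
  · exact rel_ok_2_18
  · exact rel_ok_2_19
  · exact rel_ok_2_20

end Cfsg.Agent.Lib.Conway.U62
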