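import Cfsg.Agent.Lib.Conway.U62RelDef

set_option autoImplicit false

/-! The check of the tables relating the matrix and the automorphism number 3. -/

namespace Cfsg.Agent.Lib.Conway.U62

set_option maxRecDepth 100000 in
theorem lamP_ok_3 : lamPOK 3 = true := by decide +kernel

set_option maxRecDepth 100000 in
theorem rel_ok_3_0 : relChunk 3 0 = true := by decide +kernel

set_option maxRecDepth 100000 in
theorem rel_ok_3_1 : relChunk 3 1 = true := by decide +kernel

set_option maxRecDepth 100000 in
theorem rel_ok_3_2 : relChunk 3 2 = true := by decide +kernel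

set_option maxRecDepth 100000 in
theorem rel_ok_3_3 : relChunk 3 3 = true := by decide +kernel

set_option maxRecDepth 100000 in
theorem rel_ok_3_4 : relChunk 3 4 = true := by decide +kernel

set_option maxRecDepth 100000 in
theorem rel_ok_3_5 : relChunk 3 5 = true := by decide +kernel

set_option maxRecDepth 100000 in
theorem rel_ok_3_6 : relChunk 3 6 = true := by decide +kernel

set_option maxRecDepth 100000 in
theorem rel_ok_3_7 : relChunk 3 7 = true := by decide +kernel

set_option maxRecDepth 100000 in
theorem rel_ok_3_8 : relChunk 3 8 = true := by decide +kernel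

set_option maxRecDepth 100000 in
theorem rel_ok_3_9 : relChunk 3 9 = true := by decide +kernel

set_option maxRecDepth 100000 in
theorem rel_ok_3_10 : relChunk 3 10 = true := by decide +kernel

set_option maxRecDepth 100000 in
theorem rel_ok_3_11 : relChunk 3 11 = true := by decide +kernel

set_option maxRecDepth 100000 in
theorem rel_ok_3_12 : relChunk 3 12 = true := by decide +kernel

set_option maxRecDepth 100000 in
theorem rel_ok_3_13 : relChunk 3 13 = true := by decide +kernel

set_option maxRecDepth 100000 in
theorem rel_ok_3_14 : relChunk 3 14 = true := by decide +kernel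

set_option maxRecDepth 100000 in
theorem rel_ok_3_15 : relChunk 3 15 = true := by decide +kernel

set_option maxRecDepth 100000 in
theorem rel_ok_3_16 : relChunk 3 16 = true := by decide +kernel

set_option maxRecDepth 100000 in
theorem rel_ok_3_17 : relChunk 3 17 = true := by decide +kernel

set_option maxRecDepth 100000 in
theorem rel_ok_3_18 : relChunk 3 18 = true := by decide +kernel

set_option maxRecDepth 100000 in
theorem rel_ok_3_19 : relChunk 3 19 = true := by decide +kernel

set_option maxRecDepth 100000 in
theorem rel_ok_3_20 : relChunk 3 20 = true := by decide +kernel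

theorem rel_ok_3 : ∀ j < 21, relChunk 3 j = true := by
  intro j hj
  interval_cases j
  · exact rel_ok_3_0
  · exact rel_ok_3_1
  · exact rel_ok_3_2
  · exact rel_ok_3_3
  · exact rel_ok_3_4
  · exact rel_ok_3_5
  · exact rel_ok_3_6
  · exact rel_ok_3_7
  · exact rel_ok_3_8
  · exact rel_ok_3_9
  · exact rel_ok_3_10
  · exact rel_ok_3_11
  · exact rel_ok_3_12
  · exact rel_ok_3_13
  · exact rel_ok_3_14
  · exact rel_ok_3_15
  · exact rel_ok_3_16
  · exact rel_ok_3_17
  · exact rel_ok_3_18
  · exact rel_ok_3_19
  · exact rel_ok_3_20

end Cfsg.Agent.Lib.Conway.U62
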