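import Cfsg.Agent.Lib.Conway.U62Unitary
import Cfsg.Agent.Lib.Conway.U62Leech
import Cfsg.Agent.Lib.Conway.U62RelChk0
import Cfsg.Agent.Lib.Conway.U62RelChk1
import Cfsg.Agent.Lib.Conway.U62RelChk2
import Cfsg.Agent.Lib.Conway.U62RelChk3

set_option autoImplicit false

/-!
The finite verifications on the tables relating the 693 isotropic points, the 891 vectors and the
four pairs (matrix, automorphism).
-/

namespace Cfsg.Agent.Lib.Conway.U62

open F4c

theorem QT_length : QT.length = 693 := by decide +kernel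

/-! ### the subspaces through the points -/

def qtOK : Bool := QT.all (fun q => q.length == 27 && q.all (fun x => decide (x < 891)))

set_option maxRecDepth 100000 in
theorem qt_ok : qtOK = true := by decide +kernel

theorem QT_getD_mem (n : ℕ) (hn : n < 693) : QT.getD n [] ∈ QT := by
  rw [List.getD_eq_getElem _ _ (by rw [QT_length]; exact hn)]
  exact List.getElem_mem _

theorem QT_len27 (n : ℕ) (hn : n < 693) : (QT.getD n []).length = 27 := by
  have h := List.all_eq_true.mp qt_ok _ (QT_getD_mem n hn)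
  rw [Bool.and_eq_true, beq_iff_eq] at h
  exact h.1

theorem Qi_mem (n : ℕ) (hn : n < 693) (i : ℕ) (hi : i < 27) : Qi n i ∈ QT.getD n [] := by
  unfold Qi
  have hi' : i < (QT.getD n []).length := by rw [QT_len27 n hn]; exact hi
  rw [List.getD_eq_getElem (QT.getD n []) 0 hi']
  exact List.getElem_mem _

theorem Qi_lt (n : ℕ) (hn : n < 693) (i : ℕ) (hi : i < 27) : Qi n i < 891 := by
  have h := List.all_eq_true.mp qt_ok _ (QT_getD_mem n hn)
  rw [Bool.and_eq_true] at h
  have := List.all_eq_true.mp h.2 _ (Qi_mem n hn i hi)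
  exact of_decide_eq_true this

theorem exists_Qi_of_mem (n : ℕ) (hn : n < 693) (x : ℕ) (hx : x ∈ QT.getD n []) :
    ∃ i < 27, Qi n i = x := by
  obtain ⟨i, hi, hix⟩ := List.mem_iff_getElem.mp hx
  refine ⟨i, by rw [← QT_len27 n hn]; exact hi, ?_⟩
  unfold Qi
  rw [List.getD_eq_getElem _ _ hi, hix]

/-! ### the points are pairwise not proportional -/

def nodupB : List V6 → Bool
  | [] => true
  | x :: xs => !(xs.elem x) && nodupB xs

theorem nodup_of_nodupB : ∀ l : List V6, nodupB l = true → l.Nodup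
  | [], _ => List.nodup_nil
  | x :: xs, h => by
    rw [nodupB, Bool.and_eq_true, Bool.not_eq_true'] at h
    refine List.nodup_cons.mpr ⟨?_, nodup_of_nodupB xs h.2⟩
    intro hx
    have := List.elem_eq_true_of_mem hx
    rw [h.1] at this
    exact Bool.false_ne_true this

set_option maxRecDepth 100000 in
theorem PT_nodupB : nodupB PT = true := by decide +kernel

theorem PT_nodup : PT.Nodup := nodup_of_nodupB PT PT_nodupB

def ptOK : Bool := PT.all (fun p => decide (nrm p = p) && decide (p ≠ V6.zero))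

set_option maxRecDepth 100000 in
theorem pt_ok : ptOK = true := by decide +kernel

theorem smul_zero_left (v : V6) : V6.smul 0 v = V6.zero := by
  simp [V6.smul, V6.zero]

theorem lead_smul (c : F4c) (hc : c ≠ 0) (v : V6) : lead (V6.smul c v) = c * lead v := by
  unfold lead V6.smul
  simp only [ne_eq, mul_eq_zero, hc, false_or]
  split_ifs <;> rfl

theorem nrm_smul (c : F4c) (hc : c ≠ 0) (v : V6) : nrm (V6.smul c v) = nrm v := by
  unfold nrm
  rw [lead_smul c hc]
  have key : ∀ x : F4c, (c * lead v)⁻¹ * (c * x) = (lead v)⁻¹ * x := by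
    intro x
    rw [mul_inv_rev, mul_assoc, inv_mul_cancel_left₀ hc]
  simp only [V6.smul, key]

theorem PT_getD_mem (n : ℕ) (hn : n < 693) : PT.getD n V6.zero ∈ PT := by
  rw [List.getD_eq_getElem _ _ (by rw [PT_length]; exact hn)]
  exact List.getElem_mem _

theorem PT_prop (n : ℕ) (hn : n < 693) (m : ℕ) (hm : m < 693) (c : F4c)
    (h : PT.getD n V6.zero = V6.smul c (PT.getD m V6.zero)) : n = m := by
  have hn' := List.all_eq_true.mp pt_ok _ (PT_getD_mem n hn)
  have hm' := List.all_eq_true.mp pt_ok _ (PT_getD_mem m hm)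
  rw [Bool.and_eq_true, decide_eq_true_iff, decide_eq_true_iff] at hn' hm'
  have hc : c ≠ 0 := by
    rintro rfl
    rw [smul_zero_left] at h
    exact hn'.2 h
  have h2 : PT.getD n V6.zero = PT.getD m V6.zero := by
    rw [← hn'.1, h, nrm_smul c hc, hm'.1]
  have hn2 : n < PT.length := by rw [PT_length]; exact hn
  have hm2 : m < PT.length := by rw [PT_length]; exact hm
  rw [List.getD_eq_getElem _ _ hn2, List.getD_eq_getElem _ _ hm2] at h2
  exact (List.Nodup.getElem_inj_iff PT_nodup).mp h2

/-! ### three points spanning each subspace, and two subspaces through each point -/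

/-- the first point of the `l`-th triple -/
def PPa (l : ℕ) : ℕ := (PP.getD l (0, 0, 0)).1
/-- the second point of the `l`-th triple -/
def PPb (l : ℕ) : ℕ := (PP.getD l (0, 0, 0)).2.1
/-- the third point of the `l`-th triple -/
def PPc (l : ℕ) : ℕ := (PP.getD l (0, 0, 0)).2.2

def ppOK : Bool :=
  (List.range 891).all (fun l =>
    decide (PPa l < 693) && decide (PPb l < 693) && decide (PPc l < 693) &&
      (QT.getD (PPa l) []).elem l && (QT.getD (PPb l) []).elem l && (QT.getD (PPc l) []).elem l &&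
      (QT.getD (PPa l) []).all (fun x =>
        !((QT.getD (PPb l) []).elem x && (QT.getD (PPc l) []).elem x) || x == l))

set_option maxRecDepth 100000 in
theorem pp_ok : ppOK = true := by decide +kernel

theorem PP_ok (l : ℕ) (hl : l < 891) : PPa l < 693 ∧ PPb l < 693 ∧ PPc l < 693 ∧
    l ∈ QT.getD (PPa l) [] ∧ l ∈ QT.getD (PPb l) [] ∧ l ∈ QT.getD (PPc l) [] ∧
    ∀ x ∈ QT.getD (PPa l) [], x ∈ QT.getD (PPb l) [] → x ∈ QT.getD (PPc l) [] → x = l := by
  have h := List.all_eq_true.mp pp_ok l (List.mem_range.mpr hl)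
  simp only [Bool.and_eq_true, decide_eq_true_iff, List.elem_iff] at h
  refine ⟨h.1.1.1.1.1.1, h.1.1.1.1.1.2, h.1.1.1.1.2, h.1.1.1.2, h.1.1.2, h.1.2,
    fun x hx hx' hx'' => ?_⟩
  have := List.all_eq_true.mp h.2 x hx
  rw [Bool.or_eq_true, Bool.not_eq_true', beq_iff_eq] at this
  rcases this with h1 | h1
  · have e1 := List.elem_eq_true_of_mem hx'
    have e2 := List.elem_eq_true_of_mem hx''
    rw [e1, e2] at h1
    exact absurd h1 (by decide)
  · exact h1

def stOK : Bool :=
  (List.range 693).all (fun m => (QT.getD m []).all (fun x => (ST.getD x []).elem m))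

set_option maxRecDepth 100000 in
theorem st_ok : stOK = true := by decide +kernel

theorem ST_of_QT (m : ℕ) (hm : m < 693) (x : ℕ) (hx : x ∈ QT.getD m []) : m ∈ ST.getD x [] := by
  have h := List.all_eq_true.mp (List.all_eq_true.mp st_ok m (List.mem_range.mpr hm)) x hx
  exact List.elem_iff.mp h

def qinjOK : Bool :=
  (List.range 693).all (fun n => (ST.getD (Qi n 0) []).all (fun y =>
    !((ST.getD (Qi n 1) []).elem y) || y == n))

set_option maxRecDepth 100000 in
theorem qinj_ok : qinjOK = true := by decide +kernel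

theorem Q_inj (n : ℕ) (hn : n < 693) (m : ℕ) (hm : m < 693) (h0 : Qi n 0 ∈ QT.getD m [])
    (h1 : Qi n 1 ∈ QT.getD m []) : n = m := by
  have a0 := ST_of_QT m hm _ h0
  have a1 := ST_of_QT m hm _ h1
  have h := List.all_eq_true.mp (List.all_eq_true.mp qinj_ok n (List.mem_range.mpr hn)) m a0
  rw [Bool.or_eq_true, Bool.not_eq_true', beq_iff_eq] at h
  rcases h with h | h
  · rw [List.elem_eq_true_of_mem a1] at h
    exact absurd h (by decide)
  · exact h.symm

/-! ### the four pairs -/

theorem relChunk_of (e : ℕ) (he : e < 4) (j : ℕ) (hj : j < 21) : relChunk e j = true := by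
  interval_cases e
  · exact rel_ok_0 j hj
  · exact rel_ok_1 j hj
  · exact rel_ok_2 j hj
  · exact rel_ok_3 j hj

theorem lamPOK_of (e : ℕ) (he : e < 4) : lamPOK e = true := by
  interval_cases e
  · exact lamP_ok_0
  · exact lamP_ok_1
  · exact lamP_ok_2
  · exact lamP_ok_3

theorem relSpec_lt (e : ℕ) (he : e < 4) (n : ℕ) (hn : n < 693) :
    (piE e).getD n 0 < 693 ∧ (csE e).getD n 0 ≠ 0 ∧
      (genC e).mv (PT.getD n V6.zero) =
        V6.smul ((csE e).getD n 0) (PT.getD ((piE e).getD n 0) V6.zero) ∧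
      ∀ i < 27, (lamE e).getD (Qi n i) 0 ∈ QT.getD ((piE e).getD n 0) [] := by
  have hj : n / 33 < 21 := by omega
  have h := List.all_eq_true.mp (relChunk_of e he (n / 33) hj) n
    (List.mem_range'_1.mpr ⟨by omega, by omega⟩)
  rw [relAt, Bool.and_eq_true, Bool.and_eq_true, Bool.and_eq_true, decide_eq_true_iff,
    decide_eq_true_iff, decide_eq_true_iff] at h
  refine ⟨h.1.1.1, h.1.1.2, h.1.2, fun i hi => ?_⟩
  have h2 := List.all_eq_true.mp h.2 (Qi n i) (Qi_mem n hn i hi)
  have h3 := List.elem_iff.mp h2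
  have h4 := List.all_eq_true.mp (lamPOK_of e he) (Qi n i)
    (List.mem_range.mpr (Qi_lt n hn i hi))
  rw [beq_iff_eq] at h4
  rw [← h4]
  exact h3

theorem relOK_spec (e n : ℕ) (hn : n < 693) :
    (piE e).getD n 0 < 693 ∧ (csE e).getD n 0 ≠ 0 ∧
      (genC e).mv (PT.getD n V6.zero) =
        V6.smul ((csE e).getD n 0) (PT.getD ((piE e).getD n 0) V6.zero) ∧
      ∀ i < 27, (lamE e).getD (Qi n i) 0 ∈ QT.getD ((piE e).getD n 0) [] := by
  match e with
  | 0 => exact relSpec_lt 0 (by norm_num) n hn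
  | 1 => exact relSpec_lt 1 (by norm_num) n hn
  | 2 => exact relSpec_lt 2 (by norm_num) n hn
  | _ + 3 => exact relSpec_lt 3 (by norm_num) n hn

end Cfsg.Agent.Lib.Conway.U62
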