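import Mathlib

set_option autoImplicit false

/-!
A concrete model of the field with four elements, `e2 = ω`, `e3 = ω² = ω + 1`, and `6 × 6` matrices
and vectors of length 6 over it as records (for the identification of the stabiliser of two vectors
of the Leech lattice with `PSU_6(2)`, following the method of `Helper26/U43*`).
-/

namespace Cfsg.Agent.Lib.Conway.U62

/-- concrete field with four elements -/
inductive F4c : Type
  | e0 | e1 | e2 | e3
  deriving DecidableEq

namespace F4c

instance : Fintype F4c := ⟨{e0, e1, e2, e3}, by intro x; cases x <;> decide⟩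

/-- addition -/
def add : F4c → F4c → F4c
  | e0, x => x
  | x, e0 => x
  | e1, e1 => e0
  | e1, e2 => e3
  | e1, e3 => e2
  | e2, e1 => e3
  | e2, e2 => e0
  | e2, e3 => e1
  | e3, e1 => e2
  | e3, e2 => e1
  | e3, e3 => e0

/-- multiplication -/
def mul : F4c → F4c → F4c
  | e0, _ => e0
  | _, e0 => e0
  | e1, x => x
  | x, e1 => x
  | e2, e2 => e3
  | e2, e3 => e1
  | e3, e2 => e1
  | e3, e3 => e2

/-- inverse -/
def inv : F4c → F4c
  | e0 => e0
  | e1 => e1
  | e2 => e3
  | e3 => e2

/-- the field involution `x ↦ x^2` -/
def cj : F4c → F4c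
  | e0 => e0
  | e1 => e1
  | e2 => e3
  | e3 => e2

instance : Add F4c := ⟨add⟩
instance : Mul F4c := ⟨mul⟩
instance : Zero F4c := ⟨e0⟩
instance : One F4c := ⟨e1⟩
instance : Neg F4c := ⟨id⟩
instance : Inv F4c := ⟨inv⟩

set_option maxRecDepth 100000 in
instance : Field F4c where
  add_assoc := by decide
  zero_add := by decide
  add_zero := by decide
  add_comm := by decide
  neg_add_cancel := by decide
  mul_assoc := by decide
  one_mul := by decide
  mul_one := by decide
  left_distrib := by decide
  right_distrib := by decide
  zero_mul := by decide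
  mul_zero := by decide
  mul_comm := by decide
  exists_pair_ne := ⟨e0, e1, by decide⟩
  mul_inv_cancel := by decide
  inv_zero := rfl
  nsmul := nsmulRec
  zsmul := zsmulRec
  nnqsmul := _
  qsmul := _

theorem card_eq : Fintype.card F4c = 4 := rfl

theorem cj_eq_pow : ∀ x : F4c, cj x = x ^ 2 := by decide

theorem neg_eq : ∀ x : F4c, -x = x := by decide

end F4c

end Cfsg.Agent.Lib.Conway.U62
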