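import Cfsg.Agent.Lib.Conway.U62LamDef

set_option autoImplicit false

/-! The check of the table of the action of the automorphism number 0 on the 891 vectors. -/

namespace Cfsg.Agent.Lib.Conway.U62

set_option maxRecDepth 100000 in
theorem lam_ok_0_0 : lamChunk 0 0 = true := by decide +kernel

set_option maxRecDepth 100000 in
theorem lam_ok_0_1 : lamChunk 0 1 = true := by decide +kernel

set_option maxRecDepth 100000 in
theorem lam_ok_0_2 : lamChunk 0 2 = true := by decide +kernel

set_option maxRecDepth 100000 in
theorem lam_ok_0_3 : lamChunk 0 3 = true := by decide +kernel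

set_option maxRecDepth 100000 in
theorem lam_ok_0_4 : lamChunk 0 4 = true := by decide +kernel

set_option maxRecDepth 100000 in
theorem lam_ok_0_5 : lamChunk 0 5 = true := by decide +kernel

set_option maxRecDepth 100000 in
theorem lam_ok_0_6 : lamChunk 0 6 = true := by decide +kernel

set_option maxRecDepth 100000 in
theorem lam_ok_0_7 : lamChunk 0 7 = true := by decide +kernel

set_option maxRecDepth 100000 in
theorem lam_ok_0_8 : lamChunk 0 8 = true := by decide +kernel

set_option maxRecDepth 100000 in
theorem lam_ok_0_9 : lamChunk 0 9 = true := by decide +kernel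

set_option maxRecDepth 100000 in
theorem lam_ok_0_10 : lamChunk 0 10 = true := by decide +kernel

set_option maxRecDepth 100000 in
theorem lam_ok_0_11 : lamChunk 0 11 = true := by decide +kernel

set_option maxRecDepth 100000 in
theorem lam_ok_0_12 : lamChunk 0 12 = true := by decide +kernel

set_option maxRecDepth 100000 in
theorem lam_ok_0_13 : lamChunk 0 13 = true := by decide +kernel

set_option maxRecDepth 100000 in
theorem lam_ok_0_14 : lamChunk 0 14 = true := by decide +kernel

set_option maxRecDepth 100000 in
theorem lam_ok_0_15 : lamChunk 0 15 = true := by decide +kernel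

set_option maxRecDepth 100000 in
theorem lam_ok_0_16 : lamChunk 0 16 = true := by decide +kernel

set_option maxRecDepth 100000 in
theorem lam_ok_0_17 : lamChunk 0 17 = true := by decide +kernel

set_option maxRecDepth 100000 in
theorem lam_ok_0_18 : lamChunk 0 18 = true := by decide +kernel

set_option maxRecDepth 100000 in
theorem lam_ok_0_19 : lamChunk 0 19 = true := by decide +kernel

set_option maxRecDepth 100000 in
theorem lam_ok_0_20 : lamChunk 0 20 = true := by decide +kernel

set_option maxRecDepth 100000 in
theorem lam_ok_0_21 : lamChunk 0 21 = true := by decide +kernel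

set_option maxRecDepth 100000 in
theorem lam_ok_0_22 : lamChunk 0 22 = true := by decide +kernel

set_option maxRecDepth 100000 in
theorem lam_ok_0_23 : lamChunk 0 23 = true := by decide +kernel

set_option maxRecDepth 100000 in
theorem lam_ok_0_24 : lamChunk 0 24 = true := by decide +kernel

set_option maxRecDepth 100000 in
theorem lam_ok_0_25 : lamChunk 0 25 = true := by decide +kernel

set_option maxRecDepth 100000 in
theorem lam_ok_0_26 : lamChunk 0 26 = true := by decide +kernel

theorem lam_ok_0 : ∀ j < 27, lamChunk 0 j = true := by
  intro j hj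
  interval_cases j
  · exact lam_ok_0_0
  · exact lam_ok_0_1
  · exact lam_ok_0_2
  · exact lam_ok_0_3
  · exact lam_ok_0_4
  · exact lam_ok_0_5
  · exact lam_ok_0_6
  · exact lam_ok_0_7
  · exact lam_ok_0_8
  · exact lam_ok_0_9
  · exact lam_ok_0_10
  · exact lam_ok_0_11
  · exact lam_ok_0_12
  · exact lam_ok_0_13
  · exact lam_ok_0_14
  · exact lam_ok_0_15
  · exact lam_ok_0_16
  · exact lam_ok_0_17
  · exact lam_ok_0_18
  · exact lam_ok_0_19
  · exact lam_ok_0_20
  · exact lam_ok_0_21
  · exact lam_ok_0_22
  · exact lam_ok_0_23
  · exact lam_ok_0_24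
  · exact lam_ok_0_25
  · exact lam_ok_0_26

end Cfsg.Agent.Lib.Conway.U62
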