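import Cfsg.Agent.Lib.Conway.U62DataL

set_option autoImplicit false

/-!
The check of the tables of the action of the four automorphisms on the 891 vectors, in blocks of 33
vectors (the kernel evaluation of a whole table at once needs too much memory).
-/

namespace Cfsg.Agent.Lib.Conway.U62

open Cfsg.Agent.Lib.Helper26.CoTab

/-- the data of the four automorphisms -/
def eltD : ℕ → GenData
  | 0 => k1
  | 1 => k2
  | 2 => k3
  | _ => k4

/-- the table of the action on the 891 vectors -/
def lamE : ℕ → List ℕ
  | 0 => lam1
  | 1 => lam2
  | 2 => lam3
  | _ => lam4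

/-- check of one entry of a table of the action -/
def lamAt (e l : ℕ) : Bool :=
  decide ((lamE e).getD l 0 < 891) &&
    (applyC (eltD e).Tt (AB.getD l []) == AB.getD ((lamE e).getD l 0) [])

/-- check of a block of 33 entries -/
def lamChunk (e j : ℕ) : Bool := (List.range' (33 * j) 33).all (lamAt e)

end Cfsg.Agent.Lib.Conway.U62
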