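import Cfsg.Agent.Lib.Conway.U62F4

set_option autoImplicit false

/-!
Vectors of length 6 and `6 × 6` matrices over the concrete field with four elements, as records.
-/

namespace Cfsg.Agent.Lib.Conway.U62

open F4c

/-- vectors of length 6 -/
structure V6 : Type where
  a : F4c
  b : F4c
  c : F4c
  d : F4c
  e : F4c
  f : F4c
  deriving DecidableEq

/-- `6 × 6` matrices, by rows -/
structure M6 : Type where
  r0 : V6
  r1 : V6
  r2 : V6
  r3 : V6
  r4 : V6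
  r5 : V6
  deriving DecidableEq

namespace V6

/-- the bilinear dot product -/
def dot (x y : V6) : F4c :=
  x.a * y.a + x.b * y.b + x.c * y.c + x.d * y.d + x.e * y.e + x.f * y.f

/-- scalar multiple -/
def smul (k : F4c) (x : V6) : V6 := ⟨k * x.a, k * x.b, k * x.c, k * x.d, k * x.e, k * x.f⟩

/-- entrywise field involution -/
def cjv (x : V6) : V6 := ⟨cj x.a, cj x.b, cj x.c, cj x.d, cj x.e, cj x.f⟩

/-- the hermitian form `Σ x_i y_i^2` -/
def herm (x y : V6) : F4c := dot x (cjv y)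

/-- the zero vector -/
def zero : V6 := ⟨0, 0, 0, 0, 0, 0⟩

end V6

namespace M6

/-- matrix times column vector -/
def mv (M : M6) (v : V6) : V6 :=
  ⟨M.r0.dot v, M.r1.dot v, M.r2.dot v, M.r3.dot v, M.r4.dot v, M.r5.dot v⟩

def col0 (M : M6) : V6 := ⟨M.r0.a, M.r1.a, M.r2.a, M.r3.a, M.r4.a, M.r5.a⟩
def col1 (M : M6) : V6 := ⟨M.r0.b, M.r1.b, M.r2.b, M.r3.b, M.r4.b, M.r5.b⟩
def col2 (M : M6) : V6 := ⟨M.r0.c, M.r1.c, M.r2.c, M.r3.c, M.r4.c, M.r5.c⟩
def col3 (M : M6) : V6 := ⟨M.r0.d, M.r1.d, M.r2.d, M.r3.d, M.r4.d, M.r5.d⟩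
def col4 (M : M6) : V6 := ⟨M.r0.e, M.r1.e, M.r2.e, M.r3.e, M.r4.e, M.r5.e⟩
def col5 (M : M6) : V6 := ⟨M.r0.f, M.r1.f, M.r2.f, M.r3.f, M.r4.f, M.r5.f⟩

/-- transpose -/
def tr (M : M6) : M6 := ⟨M.col0, M.col1, M.col2, M.col3, M.col4, M.col5⟩

/-- row of a product -/
def rowMul (r : V6) (B : M6) : V6 :=
  ⟨r.dot B.col0, r.dot B.col1, r.dot B.col2, r.dot B.col3, r.dot B.col4, r.dot B.col5⟩

/-- matrix product -/
def mul (A B : M6) : M6 :=
  ⟨rowMul A.r0 B, rowMul A.r1 B, rowMul A.r2 B, rowMul A.r3 B, rowMul A.r4 B, rowMul A.r5 B⟩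

/-- entrywise field involution -/
def cjm (M : M6) : M6 := ⟨M.r0.cjv, M.r1.cjv, M.r2.cjv, M.r3.cjv, M.r4.cjv, M.r5.cjv⟩

/-- identity -/
def one : M6 :=
  ⟨⟨1, 0, 0, 0, 0, 0⟩, ⟨0, 1, 0, 0, 0, 0⟩, ⟨0, 0, 1, 0, 0, 0⟩, ⟨0, 0, 0, 1, 0, 0⟩,
   ⟨0, 0, 0, 0, 1, 0⟩, ⟨0, 0, 0, 0, 0, 1⟩⟩

/-- check of a chain of successive products by `x`, ending with the identity -/
def powChain (x : M6) : M6 → List M6 → Bool
  | cur, [] => decide (cur = one)
  | cur, y :: ys => decide (cur.mul x = y) && powChain x y ys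

/-- unitary, and of order prime to three (hence of determinant one): the list gives the powers
`x^2, x^3, ...`, the last of which is the identity -/
def Good (M : M6) : Prop :=
  M.tr.mul M.cjm = one ∧ ∃ l : List M6, powChain M M l = true ∧ Nat.Coprime (l.length + 1) 3

end M6

end Cfsg.Agent.Lib.Conway.U62
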