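import Cfsg.Agent.Lib.Conway.U62Frame
import Cfsg.Agent.Lib.Conway.U62Checks
import Cfsg.Agent.Lib.Conway.Order
import Cfsg.Agent.Lib.Helper19.U62Card

set_option autoImplicit false
set_option linter.unusedSectionVars false

/-!
The stabiliser `K0` of two vectors `V0`, `W0` of the Leech lattice of sum of squares 32 and scalar
product `-16` is isomorphic to `PSU_6(2)`: the relation between elements of `SU_6(2)` and of `K0`
acting compatibly on the 693 isotropic points (each with its 27 maximal totally isotropic subspaces,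
which correspond to the 891 vectors) is the graph of a surjective homomorphism `SU_6(2) → K0` whose
kernel is the centre.
-/

namespace Cfsg.Agent.Lib.Conway.U62

open Matrix Cfsg Cfsg.Agent.Lib.Conway Cfsg.Agent.Lib.Helper5 F4c

variable {F : Type*} [Field F] [Fintype F]

theorem finite_Co0 : Finite Co0 :=
  Nat.finite_of_card_ne_zero (by rw [card_Co0]; norm_num)

/-- compatibility of a matrix and an automorphism -/
def Rel (hF : Fintype.card F = 4) (A : Cfsg.SU 6 F 2) (k : Co0) : Prop :=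
  k ∈ K0 ∧ ∀ n < 693, ∃ m < 693, (∃ c : F, c ≠ 0 ∧ mat A *ᵥ Pv hF n = c • Pv hF m) ∧
    ∀ i < 27, ∃ i' < 27, k • Yv (Qi n i) = Yv (Qi m i')

theorem Pv_inj (hF : Fintype.card F = 4) {n m : ℕ} (hn : n < 693) (hm : m < 693) {c : F}
    (h : Pv hF n = c • Pv hF m) : n = m := by
  obtain ⟨c', rfl⟩ := (phi hF).surjective c
  unfold Pv at h
  rw [← vecF_smul] at h
  exact PT_prop n hn m hm c' (vecF_inj hF h)

theorem rel_one (hF : Fintype.card F = 4) : Rel hF 1 1 :=
  ⟨K0.one_mem, fun n hn => ⟨n, hn, ⟨1, one_ne_zero, by rw [mat_one, Matrix.one_mulVec, one_smul]⟩,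
    fun i hi => ⟨i, hi, one_smul _ _⟩⟩⟩

theorem rel_mul (hF : Fintype.card F = 4) {A A' : Cfsg.SU 6 F 2} {k k' : Co0}
    (h : Rel hF A k) (h' : Rel hF A' k') : Rel hF (A * A') (k * k') := by
  refine ⟨K0.mul_mem h.1 h'.1, fun n hn => ?_⟩
  obtain ⟨m, hm, ⟨c, hc, hA'⟩, hk'⟩ := h'.2 n hn
  obtain ⟨l, hl, ⟨d, hd, hA⟩, hk⟩ := h.2 m hm
  refine ⟨l, hl, ⟨c * d, mul_ne_zero hc hd, ?_⟩, fun i hi => ?_⟩
  · rw [mat_mul, ← Matrix.mulVec_mulVec, hA', Matrix.mulVec_smul, hA, smul_smul]
  · obtain ⟨i', hi', e'⟩ := hk' i hi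
    obtain ⟨i'', hi'', e''⟩ := hk i' hi'
    exact ⟨i'', hi'', by rw [mul_smul, e', e'']⟩

/-- the relation as a submonoid of the product -/
def RelM (hF : Fintype.card F = 4) : Submonoid (Cfsg.SU 6 F 2 × Co0) where
  carrier := {p | Rel hF p.1 p.2}
  one_mem' := rel_one hF
  mul_mem' := fun h h' => rel_mul hF h h'

theorem inv_mem_of_submonoid {G : Type*} [Group G] [Finite G] (S : Submonoid G) {x : G}
    (hx : x ∈ S) : x⁻¹ ∈ S := by
  have hpos := orderOf_pos x
  have : x⁻¹ = x ^ (orderOf x - 1) := by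
    apply inv_eq_of_mul_eq_one_right
    rw [← pow_succ', Nat.sub_add_cancel hpos, pow_orderOf_eq_one]
  rw [this]
  exact S.pow_mem hx _

theorem rel_inv (hF : Fintype.card F = 4) {A : Cfsg.SU 6 F 2} {k : Co0} (h : Rel hF A k) :
    Rel hF A⁻¹ k⁻¹ := by
  have := finite_Co0
  have : ((A, k) : Cfsg.SU 6 F 2 × Co0)⁻¹ ∈ RelM hF := inv_mem_of_submonoid (RelM hF) h
  exact this

/-- the matrices related to some automorphism -/
def D (hF : Fintype.card F = 4) : Subgroup (Cfsg.SU 6 F 2) where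
  carrier := {A | ∃ k, Rel hF A k}
  one_mem' := ⟨1, rel_one hF⟩
  mul_mem' := fun ⟨k, h⟩ ⟨k', h'⟩ => ⟨k * k', rel_mul hF h h'⟩
  inv_mem' := fun ⟨k, h⟩ => ⟨k⁻¹, rel_inv hF h⟩

/-- the four explicit pairs -/
theorem rel_elt (hF : Fintype.card F = 4) (e : ℕ) :
    Rel hF (mkG hF (genC e) (genC_good e)) (elt e) := by
  refine ⟨elt_mem e, fun n hn => ?_⟩
  obtain ⟨h1, h2, h3, h4⟩ := relOK_spec e n hn
  refine ⟨(piE e).getD n 0, h1, ⟨phi hF ((csE e).getD n 0), phi_ne_zero hF h2, ?_⟩, fun i hi => ?_⟩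
  · rw [mat_mkG]
    unfold Pv
    rw [matF_mulVec, h3, vecF_smul]
  · obtain ⟨hlt, he⟩ := elt_Yv e (Qi n i) (Qi_lt n hn i hi)
    obtain ⟨i', hi', e'⟩ := exists_Qi_of_mem _ h1 _ (h4 i hi)
    exact ⟨i', hi', by rw [he, e']⟩

theorem D_top (hF : Fintype.card F = 4) : D hF = ⊤ :=
  gen_top hF (D hF) (fun e => ⟨elt e, rel_elt hF e⟩)

theorem exists_rel (hF : Fintype.card F = 4) (A : Cfsg.SU 6 F 2) : ∃ k, Rel hF A k := by
  have : A ∈ D hF := by rw [D_top hF]; trivial
  exact this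

/-- an automorphism related to the identity matrix is trivial -/
theorem rel_one_left (hF : Fintype.card F = 4) {k : Co0} (h : Rel hF 1 k) : k = 1 := by
  have key : ∀ n < 693, ∀ i < 27, ∃ i' < 27, k • Yv (Qi n i) = Yv (Qi n i') := by
    intro n hn i hi
    obtain ⟨m, hm, ⟨c, hc, hA⟩, hk⟩ := h.2 n hn
    rw [mat_one, Matrix.one_mulVec] at hA
    have : n = m := Pv_inj hF hn hm hA
    subst this
    exact hk i hi
  apply rigid k h.1
  intro l hl
  obtain ⟨ha, hb, hc, hla, hlb, hlc, huniq⟩ := PP_ok l hl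
  obtain ⟨ia, hia, eia⟩ := exists_Qi_of_mem _ ha l hla
  obtain ⟨ib, hib, eib⟩ := exists_Qi_of_mem _ hb l hlb
  obtain ⟨ic, hic, eic⟩ := exists_Qi_of_mem _ hc l hlc
  obtain ⟨ia', hia', ea⟩ := key _ ha ia hia
  obtain ⟨ib', hib', eb⟩ := key _ hb ib hib
  obtain ⟨ic', hic', ec⟩ := key _ hc ic hic
  rw [eia] at ea
  rw [eib] at eb
  rw [eic] at ec
  have h1 : Qi (PPa l) ia' = Qi (PPb l) ib' :=
    Yv_inj (Qi_lt _ ha ia' hia') (Qi_lt _ hb ib' hib') (ea.symm.trans eb)
  have h1' : Qi (PPa l) ia' = Qi (PPc l) ic' :=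
    Yv_inj (Qi_lt _ ha ia' hia') (Qi_lt _ hc ic' hic') (ea.symm.trans ec)
  have h2 : Qi (PPa l) ia' = l :=
    huniq _ (Qi_mem _ ha ia' hia') (by rw [h1]; exact Qi_mem _ hb ib' hib')
      (by rw [h1']; exact Qi_mem _ hc ic' hic')
  rw [ea, h2]

theorem rel_unique (hF : Fintype.card F = 4) {A : Cfsg.SU 6 F 2} {k k' : Co0}
    (h : Rel hF A k) (h' : Rel hF A k') : k = k' := by
  have := rel_mul hF (rel_inv hF h) h'
  rw [inv_mul_cancel] at this
  have := rel_one_left hF this
  exact inv_mul_eq_one.mp this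

/-- a matrix related to the trivial automorphism is central -/
theorem rel_right_one (hF : Fintype.card F = 4) {A : Cfsg.SU 6 F 2} (h : Rel hF A 1) :
    A ∈ Subgroup.center (Cfsg.SU 6 F 2) := by
  apply central_of_fix hF A
  intro n hn
  obtain ⟨m, hm, ⟨c, hc, hA⟩, hk⟩ := h.2 n hn
  have hmem : ∀ i < 27, Qi n i ∈ QT.getD m [] := by
    intro i hi
    obtain ⟨i', hi', e⟩ := hk i hi
    rw [one_smul] at e
    rw [Yv_inj (Qi_lt n hn i hi) (Qi_lt m hm i' hi') e]
    exact Qi_mem m hm i' hi'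
  have : n = m := Q_inj n hn m hm (hmem 0 (by norm_num)) (hmem 1 (by norm_num))
  subst this
  exact ⟨c, hA⟩

/-- the homomorphism -/
noncomputable def theta (hF : Fintype.card F = 4) : Cfsg.SU 6 F 2 →* K0 where
  toFun A := ⟨Classical.choose (exists_rel hF A), (Classical.choose_spec (exists_rel hF A)).1⟩
  map_one' := Subtype.ext (rel_unique hF (Classical.choose_spec (exists_rel hF 1)) (rel_one hF))
  map_mul' A B := Subtype.ext (rel_unique hF (Classical.choose_spec (exists_rel hF (A * B)))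
    (rel_mul hF (Classical.choose_spec (exists_rel hF A)) (Classical.choose_spec (exists_rel hF B))))

theorem theta_spec (hF : Fintype.card F = 4) (A : Cfsg.SU 6 F 2) :
    Rel hF A ((theta hF A : K0) : Co0) :=
  Classical.choose_spec (exists_rel hF A)

theorem ker_le_center (hF : Fintype.card F = 4) :
    (theta hF).ker ≤ Subgroup.center (Cfsg.SU 6 F 2) := by
  intro A hA
  rw [MonoidHom.mem_ker] at hA
  have h := theta_spec hF A
  rw [hA] at h
  exact rel_right_one hF h

/-! ### orders -/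

theorem card_K0 : Nat.card K0 = 9196830720 :=
  card_pairStab V0 W0 V0_norm W0_norm V0_W0_dot

theorem card_SU (hF : Fintype.card F = 4) : Nat.card (Cfsg.SU 6 F 2) = 27590492160 := by
  rw [Subgroup.card_eq_card_quotient_mul_card_subgroup (Subgroup.center (Cfsg.SU 6 F 2)),
    card_center62 hF, card_PSU62 hF]

/-- the stabiliser of the two standard vectors is `PSU_6(2)` -/
theorem iso_K0 (hF : Fintype.card F = 4) : Nonempty (K0 ≃* Cfsg.PSU 6 F 2) := by
  have := finite_Co0
  have hker := ker_le_center hF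
  have h1 := Subgroup.card_eq_card_quotient_mul_card_subgroup (theta hF).ker
  have h2 : Nat.card (Cfsg.SU 6 F 2 ⧸ (theta hF).ker) = Nat.card (theta hF).range :=
    Nat.card_congr (QuotientGroup.quotientKerEquivRange (theta hF)).toEquiv
  have h3 : Nat.card (theta hF).range ≤ 9196830720 :=
    le_trans (Subgroup.card_le_card_group _) (le_of_eq card_K0)
  have h4 : Nat.card (theta hF).ker ≤ 3 :=
    le_trans (Subgroup.card_le_of_le hker) (le_of_eq (card_center62 hF))
  rw [card_SU hF, h2] at h1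
  have h5 : Nat.card (theta hF).ker = 3 ∧ Nat.card (theta hF).range = 9196830720 := by
    constructor <;> nlinarith
  have hkc : (theta hF).ker = Subgroup.center (Cfsg.SU 6 F 2) :=
    Subgroup.eq_of_le_of_card_ge hker (by rw [card_center62 hF, h5.1])
  have hsurj : Function.Surjective (theta hF) := by
    rw [← MonoidHom.range_eq_top]
    exact Subgroup.eq_top_of_card_eq _ (by rw [h5.2, card_K0])
  exact ⟨((QuotientGroup.quotientMulEquivOfEq hkc.symm).trans
    (QuotientGroup.quotientKerEquivOfSurjective (theta hF) hsurj)).symm⟩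

/-- conjugation between the stabilisers of conjugate pairs -/
def pairConj {v w v' w' : leechLattice} (g : Co0) (hv : g • v = v') (hw : g • w = w') :
    ↥(MulAction.stabilizer Co0 v ⊓ MulAction.stabilizer Co0 w) ≃*
      ↥(MulAction.stabilizer Co0 v' ⊓ MulAction.stabilizer Co0 w') where
  toFun h := ⟨g * h * g⁻¹, Subgroup.mem_inf.mpr
    ⟨MulAction.mem_stabilizer_iff.mpr (by
      rw [mul_smul, mul_smul, ← hv, inv_smul_smul,
        MulAction.mem_stabilizer_iff.mp (Subgroup.mem_inf.mp h.2).1]),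
     MulAction.mem_stabilizer_iff.mpr (by
      rw [mul_smul, mul_smul, ← hw, inv_smul_smul,
        MulAction.mem_stabilizer_iff.mp (Subgroup.mem_inf.mp h.2).2])⟩⟩
  invFun h := ⟨g⁻¹ * h * g, Subgroup.mem_inf.mpr
    ⟨MulAction.mem_stabilizer_iff.mpr (by
      rw [mul_smul, mul_smul, hv,
        MulAction.mem_stabilizer_iff.mp (Subgroup.mem_inf.mp h.2).1, ← hv, inv_smul_smul]),
     MulAction.mem_stabilizer_iff.mpr (by
      rw [mul_smul, mul_smul, hw,
        MulAction.mem_stabilizer_iff.mp (Subgroup.mem_inf.mp h.2).2, ← hw, inv_smul_smul])⟩⟩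
  left_inv h := Subtype.ext (by simp [mul_assoc])
  right_inv h := Subtype.ext (by simp [mul_assoc])
  map_mul' a b := Subtype.ext (by simp [mul_assoc])

end Cfsg.Agent.Lib.Conway.U62
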