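import Cfsg.Agent.Lib.Conway.U62Bridge
import Cfsg.Agent.Lib.Conway.U62DataP
import Cfsg.Agent.S0779
import Cfsg.Agent.S0780

set_option autoImplicit false
set_option linter.unusedSectionVars false

/-!
`SU_6(2)` is generated by the four matrices `G1c`, `G2c`, `tvc P0 e1`, `G4c`, the third of which is
a transvection: a subgroup containing them contains all unitary transvections (the four matrices
generate a group transitive on the isotropic points), hence is everything by the generation theorem.
-/

namespace Cfsg.Agent.Lib.Conway.U62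

open Matrix Cfsg.Agent.Lib.Helper5 F4c

variable {F : Type*} [Field F] [Fintype F]

/-! ### transvections -/

/-- row of the concrete transvection matrix -/
def tvRow (v : V6) (c x : F4c) (r : V6) : V6 :=
  ⟨r.a + c * (x * cj v.a), r.b + c * (x * cj v.b), r.c + c * (x * cj v.c), r.d + c * (x * cj v.d),
   r.e + c * (x * cj v.e), r.f + c * (x * cj v.f)⟩

/-- concrete transvection matrix `1 + c v v^*` -/
def tvc (v : V6) (c : F4c) : M6 :=
  ⟨tvRow v c v.a M6.one.r0, tvRow v c v.b M6.one.r1, tvRow v c v.c M6.one.r2,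
   tvRow v c v.d M6.one.r3, tvRow v c v.e M6.one.r4, tvRow v c v.f M6.one.r5⟩

theorem ut_apply (w : Fin 6 → F) (c : F) (a b : Fin 6) :
    Cfsg.unitaryTransvection 6 2 w c a b = (if a = b then 1 else 0) + c * (w a * w b ^ 2) := by
  simp [Cfsg.unitaryTransvection, Matrix.one_apply, Matrix.vecMulVec_apply]

theorem matF_tvc (hF : Fintype.card F = 4) (v : V6) (c : F4c) :
    matF hF (tvc v c) = Cfsg.unitaryTransvection 6 2 (vecF hF v) (phi hF c) := by
  ext a b
  rw [ut_apply]
  fin_cases a <;> fin_cases b <;> simp [matF, tvc, tvRow, M6.one, vecF, phi_cj]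

theorem ut_eq (hF : Fintype.card F = 4) (w : Fin 6 → F) (c : F) :
    Cfsg.unitaryTransvection 6 2 w c = 1 + c • Matrix.vecMulVec w (frobQ (card_sq hF) ∘ w) := rfl

theorem frob_mulVec (hF : Fintype.card F = 4) (G : Matrix (Fin 6) (Fin 6) F) (w : Fin 6 → F) :
    frobQ (card_sq hF) ∘ (G *ᵥ w) = G.map (frobQ (card_sq hF)) *ᵥ (frobQ (card_sq hF) ∘ w) :=
  funext (RingHom.map_mulVec (frobQ (card_sq hF)) G w)

/-- conjugating a transvection by an isometry -/
theorem tv_conj (hF : Fintype.card F = 4) (g t t' : Cfsg.SU 6 F 2) (w : Fin 6 → F) (c : F)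
    (ht : mat t = Cfsg.unitaryTransvection 6 2 w c)
    (ht' : mat t' = Cfsg.unitaryTransvection 6 2 (mat g *ᵥ w) c) : t' = g * t * g⁻¹ := by
  rw [eq_mul_inv_iff_mul_eq]
  apply mat_inj
  rw [mat_mul, mat_mul, ht, ht', ut_eq hF, ut_eq hF]
  have hG := (isHermIso_mat g).transpose_mul_map (card_sq hF)
  have hG' : ((mat g).map (frobQ (card_sq hF)))ᵀ * mat g = 1 := by
    have := congrArg Matrix.transpose hG
    rwa [Matrix.transpose_mul, Matrix.transpose_one] at this
  have key : (frobQ (card_sq hF) ∘ (mat g *ᵥ w)) ᵥ* mat g = frobQ (card_sq hF) ∘ w := by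
    rw [frob_mulVec hF, ← Matrix.vecMul_transpose, Matrix.vecMul_vecMul, hG', Matrix.vecMul_one]
  rw [add_mul, one_mul, Matrix.smul_mul, Matrix.vecMulVec_mul, key, mul_add, mul_one,
    Matrix.mul_smul, Matrix.mul_vecMulVec]

/-- rescaling the vector of a transvection -/
theorem tv_scale (w : Fin 6 → F) (c ν : F) :
    Cfsg.unitaryTransvection 6 2 (ν • w) c = Cfsg.unitaryTransvection 6 2 w (c * ν ^ 3) := by
  ext a b
  simp only [Cfsg.unitaryTransvection, Matrix.add_apply, Matrix.smul_apply, Matrix.vecMulVec_apply,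
    Pi.smul_apply, smul_eq_mul]
  ring

theorem tv_zero_vec (c : F) : Cfsg.unitaryTransvection 6 2 (0 : Fin 6 → F) c = 1 := by
  ext a b
  simp [Cfsg.unitaryTransvection]

theorem tv_zero_coef (w : Fin 6 → F) : Cfsg.unitaryTransvection 6 2 w (0 : F) = 1 := by
  simp [Cfsg.unitaryTransvection]

/-! ### the isotropic points -/

/-- the first non-zero coordinate -/
def lead (v : V6) : F4c :=
  if v.a ≠ 0 then v.a else if v.b ≠ 0 then v.b else if v.c ≠ 0 then v.c else
    if v.d ≠ 0 then v.d else if v.e ≠ 0 then v.e else v.f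

/-- the multiple with first non-zero coordinate 1 -/
def nrm (v : V6) : V6 := V6.smul (lead v)⁻¹ v

/-- all the elements of the concrete field -/
def allF : List F4c := [e0, e1, e2, e3]

theorem mem_allF (x : F4c) : x ∈ allF := by cases x <;> decide

/-- check of a predicate of four elements -/
def chk4 (g : F4c → F4c → F4c → F4c → Bool) : Bool :=
  allF.all fun c => allF.all fun d => allF.all fun e => allF.all fun f => g c d e f

theorem chk4_spec (g : F4c → F4c → F4c → F4c → Bool) (h : chk4 g = true) (c d e f : F4c) :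
    g c d e f = true :=
  List.all_eq_true.mp (List.all_eq_true.mp (List.all_eq_true.mp (List.all_eq_true.mp h c
    (mem_allF c)) d (mem_allF d)) e (mem_allF e)) f (mem_allF f)

/-- the statement of completeness for one vector -/
def CompleteAt (a b c d e f : F4c) : Prop :=
  V6.herm ⟨a, b, c, d, e, f⟩ ⟨a, b, c, d, e, f⟩ = 0 →
    (⟨a, b, c, d, e, f⟩ : V6) = V6.zero ∨ (lead ⟨a, b, c, d, e, f⟩ ≠ 0 ∧
      nrm ⟨a, b, c, d, e, f⟩ ∈ PT ∧
      (⟨a, b, c, d, e, f⟩ : V6) = V6.smul (lead ⟨a, b, c, d, e, f⟩) (nrm ⟨a, b, c, d, e, f⟩))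

instance (a b c d e f : F4c) : Decidable (CompleteAt a b c d e f) := by
  unfold CompleteAt; infer_instance

set_option maxRecDepth 100000 in
theorem complete_chk00 : chk4 (fun c d e f => decide (CompleteAt e0 e0 c d e f)) = true := by
  decide +kernel

set_option maxRecDepth 100000 in
theorem complete_chk01 : chk4 (fun c d e f => decide (CompleteAt e0 e1 c d e f)) = true := by
  decide +kernel

set_option maxRecDepth 100000 in
theorem complete_chk02 : chk4 (fun c d e f => decide (CompleteAt e0 e2 c d e f)) = true := by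
  decide +kernel

set_option maxRecDepth 100000 in
theorem complete_chk03 : chk4 (fun c d e f => decide (CompleteAt e0 e3 c d e f)) = true := by
  decide +kernel

set_option maxRecDepth 100000 in
theorem complete_chk10 : chk4 (fun c d e f => decide (CompleteAt e1 e0 c d e f)) = true := by
  decide +kernel

set_option maxRecDepth 100000 in
theorem complete_chk11 : chk4 (fun c d e f => decide (CompleteAt e1 e1 c d e f)) = true := by
  decide +kernel

set_option maxRecDepth 100000 in
theorem complete_chk12 : chk4 (fun c d e f => decide (CompleteAt e1 e2 c d e f)) = true := by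
  decide +kernel

set_option maxRecDepth 100000 in
theorem complete_chk13 : chk4 (fun c d e f => decide (CompleteAt e1 e3 c d e f)) = true := by
  decide +kernel

set_option maxRecDepth 100000 in
theorem complete_chk20 : chk4 (fun c d e f => decide (CompleteAt e2 e0 c d e f)) = true := by
  decide +kernel

set_option maxRecDepth 100000 in
theorem complete_chk21 : chk4 (fun c d e f => decide (CompleteAt e2 e1 c d e f)) = true := by
  decide +kernel

set_option maxRecDepth 100000 in
theorem complete_chk22 : chk4 (fun c d e f => decide (CompleteAt e2 e2 c d e f)) = true := by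
  decide +kernel

set_option maxRecDepth 100000 in
theorem complete_chk23 : chk4 (fun c d e f => decide (CompleteAt e2 e3 c d e f)) = true := by
  decide +kernel

set_option maxRecDepth 100000 in
theorem complete_chk30 : chk4 (fun c d e f => decide (CompleteAt e3 e0 c d e f)) = true := by
  decide +kernel

set_option maxRecDepth 100000 in
theorem complete_chk31 : chk4 (fun c d e f => decide (CompleteAt e3 e1 c d e f)) = true := by
  decide +kernel

set_option maxRecDepth 100000 in
theorem complete_chk32 : chk4 (fun c d e f => decide (CompleteAt e3 e2 c d e f)) = true := by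
  decide +kernel

set_option maxRecDepth 100000 in
theorem complete_chk33 : chk4 (fun c d e f => decide (CompleteAt e3 e3 c d e f)) = true := by
  decide +kernel

theorem complete_c (a b c d e f : F4c) : CompleteAt a b c d e f := by
  cases a <;> cases b
  · exact of_decide_eq_true (chk4_spec _ complete_chk00 c d e f)
  · exact of_decide_eq_true (chk4_spec _ complete_chk01 c d e f)
  · exact of_decide_eq_true (chk4_spec _ complete_chk02 c d e f)
  · exact of_decide_eq_true (chk4_spec _ complete_chk03 c d e f)
  · exact of_decide_eq_true (chk4_spec _ complete_chk10 c d e f)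
  · exact of_decide_eq_true (chk4_spec _ complete_chk11 c d e f)
  · exact of_decide_eq_true (chk4_spec _ complete_chk12 c d e f)
  · exact of_decide_eq_true (chk4_spec _ complete_chk13 c d e f)
  · exact of_decide_eq_true (chk4_spec _ complete_chk20 c d e f)
  · exact of_decide_eq_true (chk4_spec _ complete_chk21 c d e f)
  · exact of_decide_eq_true (chk4_spec _ complete_chk22 c d e f)
  · exact of_decide_eq_true (chk4_spec _ complete_chk23 c d e f)
  · exact of_decide_eq_true (chk4_spec _ complete_chk30 c d e f)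
  · exact of_decide_eq_true (chk4_spec _ complete_chk31 c d e f)
  · exact of_decide_eq_true (chk4_spec _ complete_chk32 c d e f)
  · exact of_decide_eq_true (chk4_spec _ complete_chk33 c d e f)

theorem PT_length : PT.length = 693 := by decide +kernel

/-- the points over `F` -/
noncomputable def Pv (hF : Fintype.card F = 4) (n : ℕ) : Fin 6 → F := vecF hF (PT.getD n V6.zero)

theorem phi_ne_zero (hF : Fintype.card F = 4) {x : F4c} (hx : x ≠ 0) : phi hF x ≠ 0 := by
  intro h
  apply hx
  have := (phi hF).injective (h.trans (map_zero (phi hF)).symm)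
  exact this

/-- every isotropic vector is a multiple of a point of the list -/
theorem complete (hF : Fintype.card F = 4) (w : Fin 6 → F) (hw : w ≠ 0)
    (hw0 : Cfsg.hermForm 6 F 2 w w = 0) : ∃ n < 693, ∃ l : F, l ≠ 0 ∧ w = l • Pv hF n := by
  obtain ⟨x, rfl⟩ := vecF_surj hF w
  rw [hermForm_vecF] at hw0
  have hx0 : V6.herm x x = 0 := (phi hF).injective (hw0.trans (map_zero (phi hF)).symm)
  obtain ⟨a, b, c, d, e, f⟩ := x
  rcases complete_c a b c d e f hx0 with h | ⟨h1, h2, h3⟩
  · exfalso
    apply hw
    rw [h, vecF_zero]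
  · obtain ⟨n, hn, hnx⟩ := List.mem_iff_getElem.mp h2
    refine ⟨n, by rw [← PT_length]; exact hn, phi hF (lead ⟨a, b, c, d, e, f⟩),
      phi_ne_zero hF h1, ?_⟩
    unfold Pv
    rw [List.getD_eq_getElem _ _ hn, hnx, ← vecF_smul, ← h3]

/-! ### the spanning tree -/

/-- the base point -/
def P0 : V6 := PT.getD 0 V6.zero

theorem G1c_good : G1c.Good := ⟨by decide +kernel, G1pows, by decide +kernel, by decide +kernel⟩
theorem G2c_good : G2c.Good := ⟨by decide +kernel, G2pows, by decide +kernel, by decide +kernel⟩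
theorem G4c_good : G4c.Good := ⟨by decide +kernel, G4pows, by decide +kernel, by decide +kernel⟩
theorem Tp_good : (tvc P0 e1).Good :=
  ⟨by decide +kernel, [M6.one], by decide +kernel, by decide +kernel⟩

/-- the generator with index `k` -/
def genC : ℕ → M6
  | 0 => G1c
  | 1 => G2c
  | 2 => tvc P0 e1
  | _ => G4c

theorem genC_good (k : ℕ) : (genC k).Good := by
  match k with
  | 0 => exact G1c_good
  | 1 => exact G2c_good
  | 2 => exact Tp_good
  | _ + 3 => exact G4c_good

/-- check of the tree -/
def treeOK : ℕ → List (ℕ × ℕ × F4c) → Bool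
  | _, [] => true
  | i, (par, k, c) :: es =>
    decide (par < i) && decide (c ≠ 0) &&
      decide ((genC k).mv (PT.getD par V6.zero) = V6.smul c (PT.getD i V6.zero)) &&
      treeOK (i + 1) es

theorem treeOK_spec (s : ℕ) (es : List (ℕ × ℕ × F4c)) (h : treeOK s es = true) (n : ℕ)
    (hn : n < es.length) :
    (es.getD n (0, 0, 0)).1 < s + n ∧ (es.getD n (0, 0, 0)).2.2 ≠ 0 ∧
      (genC (es.getD n (0, 0, 0)).2.1).mv (PT.getD (es.getD n (0, 0, 0)).1 V6.zero) =
        V6.smul (es.getD n (0, 0, 0)).2.2 (PT.getD (s + n) V6.zero) := by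
  induction es generalizing s n with
  | nil => simp at hn
  | cons e es ih =>
    obtain ⟨par, k, c⟩ := e
    rw [treeOK, Bool.and_eq_true, Bool.and_eq_true, Bool.and_eq_true, decide_eq_true_iff,
      decide_eq_true_iff, decide_eq_true_iff] at h
    cases n with
    | zero => exact ⟨h.1.1.1, h.1.1.2, h.1.2⟩
    | succ n =>
      have := ih (s + 1) h.2 n (by simpa using hn)
      rw [List.getD_cons_succ]
      have e : s + (n + 1) = s + 1 + n := by omega
      rw [e]
      exact this

set_option maxRecDepth 100000 in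
theorem tree_ok : treeOK 1 PE = true := by decide +kernel

theorem PE_length : PE.length = 692 := by decide +kernel

/-- a subgroup containing the generators is transitive on the points -/
theorem tree_reach_pts (hF : Fintype.card F = 4) (D : Subgroup (Cfsg.SU 6 F 2))
    (hD : ∀ k, mkG hF (genC k) (genC_good k) ∈ D) (n : ℕ) (hn : n < 693) :
    ∃ g ∈ D, ∃ c : F, c ≠ 0 ∧ mat g *ᵥ Pv hF 0 = c • Pv hF n := by
  induction n using Nat.strong_induction_on with
  | _ n ih =>
    rcases Nat.eq_zero_or_pos n with rfl | hpos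
    · exact ⟨1, D.one_mem, 1, one_ne_zero, by rw [mat_one, Matrix.one_mulVec, one_smul]⟩
    · obtain ⟨m, rfl⟩ : ∃ m, n = 1 + m := ⟨n - 1, by omega⟩
      have hm : m < PE.length := by rw [PE_length]; omega
      obtain ⟨h1, h2, h3⟩ := treeOK_spec 1 PE tree_ok m hm
      set e := PE.getD m (0, 0, 0) with he
      obtain ⟨g, hg, c, hc, hgc⟩ := ih e.1 h1 (by omega)
      refine ⟨mkG hF (genC e.2.1) (genC_good _) * g, D.mul_mem (hD _) hg, phi hF e.2.2 * c,
        mul_ne_zero (phi_ne_zero hF h2) hc, ?_⟩
      rw [mat_mul, ← Matrix.mulVec_mulVec, hgc, Matrix.mulVec_smul, mat_mkG]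
      unfold Pv
      rw [matF_mulVec, h3, vecF_smul, smul_smul, mul_comm]

/-! ### generation -/

theorem Pv_zero (hF : Fintype.card F = 4) : Pv hF 0 = vecF hF P0 := rfl

theorem neg_one_eq (hF : Fintype.card F = 4) : (-1 : F) = 1 := by
  have h : (-1 : F4c) = 1 := by decide
  have := congrArg (phi hF) h
  rwa [map_neg, map_one] at this

/-- a subgroup of `SU_6(2)` containing the four generators is everything -/
theorem gen_top (hF : Fintype.card F = 4) (D : Subgroup (Cfsg.SU 6 F 2))
    (hD : ∀ k, mkG hF (genC k) (genC_good k) ∈ D) : D = ⊤ := by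
  have ht : mkG hF (tvc P0 e1) Tp_good ∈ D := hD 2
  rw [eq_top_iff, ← Cfsg.Agent.S0780.result (card_sq hF) 6 (by norm_num) (by norm_num),
    Subgroup.closure_le]
  rintro t ⟨v, c, hv, hmat⟩
  have hmat' : mat t = Cfsg.unitaryTransvection 6 2 v c := hmat
  by_cases hv0 : v = 0
  · have : t = 1 := by
      apply mat_inj
      rw [hmat', hv0, tv_zero_vec, mat_one]
    rw [this]; exact D.one_mem
  by_cases hc0 : c = 0
  · have : t = 1 := by
      apply mat_inj
      rw [hmat', hc0, tv_zero_coef, mat_one]
    rw [this]; exact D.one_mem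
  have hiso : ∀ x y : Fin 6 → F, Cfsg.hermForm 6 F 2 ((Cfsg.unitaryTransvection 6 2 v c).mulVec x)
      ((Cfsg.unitaryTransvection 6 2 v c).mulVec y) = Cfsg.hermForm 6 F 2 x y := by
    rw [← hmat']
    exact isHermIso_mat t
  have hc1 : c = 1 := by
    have := ((Cfsg.Agent.S0779.result (card_sq hF) 6 v hv0 hv c).mp hiso).resolve_left hc0
    rw [show (2 : ℕ) - 1 = 1 from rfl, pow_one, neg_one_eq hF] at this
    exact this
  obtain ⟨n, hn, l, hl, hvn⟩ := complete hF v hv0 hv
  obtain ⟨g, hgD, μ, hμ, hgn⟩ := tree_reach_pts hF D hD n hn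
  set ν := l * μ⁻¹ with hν
  have hν0 : ν ≠ 0 := mul_ne_zero hl (inv_ne_zero hμ)
  have hv' : v = mat g *ᵥ (ν • Pv hF 0) := by
    rw [Matrix.mulVec_smul, hgn, smul_smul, hν, mul_assoc, inv_mul_cancel₀ hμ, mul_one, hvn]
  have hc' : c * ν ^ 3 = phi hF e1 := by
    rw [pow_three hF hν0, mul_one, hc1]
    exact (map_one (phi hF)).symm
  have h1 : mat (mkG hF (tvc P0 e1) Tp_good) = Cfsg.unitaryTransvection 6 2 (ν • Pv hF 0) c := by
    rw [tv_scale, hc', mat_mkG, matF_tvc, Pv_zero]
  have h2 : mat t = Cfsg.unitaryTransvection 6 2 (mat g *ᵥ (ν • Pv hF 0)) c := by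
    rw [← hv']; exact hmat'
  rw [tv_conj hF g _ t _ c h1 h2]
  exact D.mul_mem (D.mul_mem hgD ht) (D.inv_mem hgD)

end Cfsg.Agent.Lib.Conway.U62
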