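import Cfsg.Agent.Lib.Conway.Norm6
import Cfsg.Agent.Lib.Helper93.M24Tools

set_option autoImplicit false

/-!
A certificate engine for orbits of lattice vectors under the stabiliser of `L5 = (5, 1^23)`:
vectors with coordinates in `[-8, 7]` are coded by natural numbers (one nibble per coordinate),
permutations of `M24` fixing the extra point by the codes of `Helper93`, and a word in the
generators is checked step by step (`wordOK`).
-/

namespace Cfsg.Agent.Lib.Conway.VecCert

open Cfsg Cfsg.Agent.Lib.Helper93.Leech Cfsg.Agent.Lib.Helper93.Golay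
open Cfsg.Agent.Lib.Conway

/-- the nibble of index `i` of a code -/
def nib (c i : ℕ) : ℕ := (c >>> (4 * i)) &&& 15

/-- the vector coded by `c`: the coordinate of index `i` is the nibble minus 8 -/
def decV (c : ℕ) : Vec := fun p => (nib c (ptIdx p) : ℤ) - 8

theorem eq_of_nib_eq {c c' : ℕ} (hc : c < 2 ^ 96) (hc' : c' < 2 ^ 96)
    (h : ∀ i, i < 24 → nib c i = nib c' i) : c = c' := by
  apply Nat.eq_of_testBit_eq
  intro j
  by_cases hj : j < 96
  · have h1 := h (j / 4) (by omega)
    have h2 := congrArg (fun n => n.testBit (j % 4)) h1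
    simp only [nib, Nat.testBit_and, Nat.testBit_shiftRight] at h2
    have e : 4 * (j / 4) + j % 4 = j := Nat.div_add_mod j 4
    rw [e] at h2
    have h15 : (15 : ℕ).testBit (j % 4) = true := by
      have h4 : j % 4 < 4 := Nat.mod_lt _ (by norm_num)
      interval_cases (j % 4) <;> decide
    rw [h15, Bool.and_true, Bool.and_true] at h2
    exact h2
  · have hle : 2 ^ 96 ≤ 2 ^ j := Nat.pow_le_pow_right (by norm_num) (by omega)
    rw [Nat.testBit_lt_two_pow (lt_of_lt_of_le hc hle),
      Nat.testBit_lt_two_pow (lt_of_lt_of_le hc' hle)]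

theorem decV_inj {c c' : ℕ} (hc : c < 2 ^ 96) (hc' : c' < 2 ^ 96) (h : decV c = decV c') :
    c = c' := by
  apply eq_of_nib_eq hc hc'
  intro i hi
  have h1 := congrFun h (ptOf ⟨i, hi⟩)
  unfold decV at h1
  rw [ptIdx_ptOf] at h1
  have h2 : ((nib c i : ℕ) : ℤ) = (nib c' i : ℕ) := by linarith
  exact_mod_cast h2

/-- one step: `c'` is the image of `c` under the coded permutation `S` -/
def stepOK (S c c' : ℕ) : Bool :=
  (List.range 24).all fun i => Nat.beq (nib c' (papp S i)) (nib c i)

theorem decV_step {S c c' : ℕ} (hS : isPerm S = true) (h : stepOK S c c' = true) :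
    decV c' = signedPerm (permC S) ∅ (decV c) := by
  funext p
  rw [signedPerm_apply, if_neg (Finset.notMem_empty _)]
  have hp : p = permC S ((permC S).symm p) := by simp
  have hidx : ((ptIdx p : Fin 24) : ℕ) = papp S (ptIdx ((permC S).symm p)) := by
    conv_lhs => rw [hp]
    exact ptIdx_permC hS _
  unfold decV
  rw [hidx]
  have h1 := List.all_eq_true.1 h (ptIdx ((permC S).symm p))
    (List.mem_range.2 (ptIdx ((permC S).symm p)).isLt)
  rw [Nat.eq_of_beq_eq_true h1]

/-- the image of a coded vector under a coded permutation (used as an oracle only) -/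
def actC (S c : ℕ) : ℕ :=
  (List.range 24).foldl (fun acc i => acc ||| (nib c i <<< (4 * papp S i))) 0

/-- a word in the generators, applied from the left, maps `c` to `t` -/
def wordOK (gens : List ℕ) : ℕ → List ℕ → ℕ → Bool
  | c, [], t => Nat.beq c t
  | c, g :: w, t =>
    Nat.blt g gens.length && stepOK (gens.getD g 0) c (actC (gens.getD g 0) c) &&
      wordOK gens (actC (gens.getD g 0) c) w t

/-- a good generator: an element of `M24` fixing the extra point -/
def goodGen (S : ℕ) : Bool := isAutC S && Nat.beq (papp S 23) 23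

theorem permC_none {S : ℕ} (h : goodGen S = true) : permC S none = none := by
  unfold goodGen at h
  rw [Bool.and_eq_true] at h
  exact permC_ptOf (isPerm_of_isAutC h.1) 23 (by norm_num) 23 (by norm_num)
    (Nat.eq_of_beq_eq_true h.2)

/-- the element of `Co0` of a good generator -/
def genCo0 (S : ℕ) (h : goodGen S = true) : Co0 :=
  mono (permC S) ∅ (permC_mem_M24 (by
    unfold goodGen at h; rw [Bool.and_eq_true] at h; exact h.1)) empty_mem_supports

theorem genCo0_L5 (S : ℕ) (h : goodGen S = true) : genCo0 S h • L5 = L5 := by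
  apply Subtype.ext
  show signedPerm (permC S) ∅ v5 = v5
  funext p
  rw [signedPerm_apply, if_neg (Finset.notMem_empty _)]
  unfold v5
  have hn := permC_none h
  by_cases hp : p = none
  · subst hp
    have : (permC S).symm none = none := by
      rw [Equiv.symm_apply_eq]; exact hn.symm
    rw [this]
  · have : (permC S).symm p ≠ none := by
      intro h'
      rw [Equiv.symm_apply_eq] at h'
      exact hp (h'.trans hn)
    rw [if_neg this, if_neg hp]

/-- `t` is reached from `c` inside the stabiliser of `L5` -/
def Reach (c t : ℕ) : Prop :=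
  ∃ g : Co0, g • L5 = L5 ∧ ∀ v : leechLattice, (v : Vec) = decV c →
    ((g • v : leechLattice) : Vec) = decV t

theorem Reach.refl (c : ℕ) : Reach c c := ⟨1, rfl, fun _ hv => hv⟩

theorem Reach.trans {a b c : ℕ} (h1 : Reach a b) (h2 : Reach b c) : Reach a c := by
  obtain ⟨g1, hg1, hv1⟩ := h1
  obtain ⟨g2, hg2, hv2⟩ := h2
  refine ⟨g2 * g1, ?_, fun v hv => ?_⟩
  · rw [mul_smul, hg1, hg2]
  · rw [mul_smul]
    exact hv2 _ (hv1 v hv)

theorem reach_step {S c c' : ℕ} (hS : goodGen S = true) (h : stepOK S c c' = true) :
    Reach c c' := by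
  refine ⟨genCo0 S hS, genCo0_L5 S hS, fun v hv => ?_⟩
  have hperm : isPerm S = true := by
    unfold goodGen at hS; rw [Bool.and_eq_true] at hS; exact isPerm_of_isAutC hS.1
  show signedPerm (permC S) ∅ (v : Vec) = decV c'
  rw [hv, decV_step hperm h]

theorem reach_of_wordOK (gens : List ℕ) (hg : ∀ S ∈ gens, goodGen S = true) :
    ∀ (w : List ℕ) (c t : ℕ), wordOK gens c w t = true → Reach c t
  | [], c, t, h => by
    unfold wordOK at h
    rw [Nat.eq_of_beq_eq_true h]
    exact Reach.refl t
  | g :: w, c, t, h => by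
    unfold wordOK at h
    rw [Bool.and_eq_true, Bool.and_eq_true] at h
    obtain ⟨⟨h1, h2⟩, h3⟩ := h
    have hlt : g < gens.length := by
      simpa [Nat.blt_eq] using h1
    have hmem : gens.getD g 0 ∈ gens := by
      rw [List.getD_eq_getElem _ _ hlt]
      exact List.getElem_mem hlt
    exact (reach_step (hg _ hmem) h2).trans (reach_of_wordOK gens hg w _ t h3)

/-- all the entries `(code, word)` are reached from the root -/
def allOK (gens : List ℕ) (root : ℕ) (entries : List (ℕ × List ℕ)) : Bool :=
  entries.all fun e => wordOK gens root e.2 e.1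

theorem reach_of_allOK (gens : List ℕ) (hg : ∀ S ∈ gens, goodGen S = true) (root : ℕ)
    (entries : List (ℕ × List ℕ)) (h : allOK gens root entries = true) :
    ∀ e ∈ entries, Reach root e.1 := fun e he =>
  reach_of_wordOK gens hg e.2 root e.1 (List.all_eq_true.1 h e he)

end Cfsg.Agent.Lib.Conway.VecCert
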